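import Cfsg.Agent.INV.SZ4.RK
import Cfsg.Agent.FGS.FlavFix

/-!
# Standard subgroups with a non-trivial centre: definitions

`Cv G M` : `A ≤ G` is perfect, `K = C(A)` is tightly embedded, and `π : N(A) → M` is a homomorphism with kernel `K`
mapping `A` onto the normal subgroup `L` of `M` (think of `M = Aut (A / Z(A))`).
`C3 G M` : `L = L₃(4)` with coordinates `Γ`. `Uh` is the Sylow 2-subgroup of `A` over `U`, `B = O₂(Z(A))`.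
-/

set_option autoImplicit false

namespace CL.C41

open Subgroup CL.MSS CL.SZ4

universe u v

/-- a perfect central extension `A` of `L` with tightly embedded centraliser -/
structure Cv (G : Type u) (M : Type v) [Group G] [Group M] where
  A : Subgroup G
  L : Subgroup M
  π : G → M
  π_mul : ∀ a ∈ normalizer (A : Set G), ∀ b ∈ normalizer (A : Set G), π (a * b) = π a * π b
  ker : ∀ a ∈ normalizer (A : Set G), π a = 1 ↔ a ∈ centralizer (A : Set G)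
  πA : ∀ a ∈ A, π a ∈ L
  lift : ∀ l ∈ L, ∃ a ∈ A, π a = l
  nrm : ∀ m, m ∈ normalizer (L : Set M)
  cen : centralizer (L : Set M) = ⊥
  perf : A ≤ ⁅A, A⁆
  tight : ∀ t ∈ centralizer (A : Set G), t * t = 1 → t ≠ 1 → ∀ g,
    g * t * g⁻¹ ∈ centralizer (A : Set G) → g ∈ normalizer (A : Set G)

variable {G : Type u} {M : Type v} [Group G] [Group M]

/-- 2-elements -/
def P2 (x : G) : Prop := ∃ k : ℕ, x ^ 2 ^ k = 1

theorem P2.of_sq {x : G} (h : x * x = 1) : P2 x := ⟨1, by simpa [pow_two] using h⟩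
theorem P2.cj {x : G} (h : P2 x) (g : G) : P2 (g * x * g⁻¹) := h.imp fun _ e => by rw [conj_pow, e]; simp
theorem P2.inv {x : G} (h : P2 x) : P2 x⁻¹ := h.imp fun _ e => by rw [inv_pow, e, inv_one]
theorem P2.mul {x y : G} (h : P2 x) (h' : P2 y) (c : x * y = y * x) : P2 (x * y) := by
  obtain ⟨k, e⟩ := h
  obtain ⟨l, e'⟩ := h'
  exact ⟨k + l, by rw [(show Commute x y from c).mul_pow, pow_add, pow_mul, e, mul_comm (2 ^ k), pow_mul, e']; simp⟩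
theorem P2.of_mem {P : Subgroup G} (hP : IsPGroup 2 P) {g : G} (hg : g ∈ P) : P2 g := pow_two_of_mem hP hg
theorem inv_cj (g : G) (X : Subgroup G) : X = g⁻¹ •ᶜ g •ᶜ X :=
  Subgroup.ext fun x => by rw [mem_cj, mem_cj]; simp [mul_assoc]
theorem pg_of_P2 {P : Subgroup G} (h : ∀ g ∈ P, P2 g) : IsPGroup 2 P := fun g =>
  (h g g.2).imp fun _ e => Subtype.ext e
/-- a non-trivial 2-element has an involution among its powers -/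
theorem P2.exists_inv {x : G} (h : P2 x) (h1 : x ≠ 1) : ∃ n : ℕ, x ^ n * x ^ n = 1 ∧ x ^ n ≠ 1 := by
  obtain ⟨k, e⟩ := h
  induction k with
  | zero => exact absurd (by simpa using e) h1
  | succ k ih =>
    by_cases c : x ^ 2 ^ k = 1
    · exact ih c
    · exact ⟨2 ^ k, by rw [← pow_add, ← two_mul, ← pow_succ', e], c⟩

namespace Cv

variable (Λ : Cv G M)

/-- `C(A)` -/
abbrev K : Subgroup G := centralizer (Λ.A : Set G)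
/-- `N(A)` -/
abbrev N : Subgroup G := normalizer (Λ.A : Set G)

theorem A_le : Λ.A ≤ Λ.N := le_normalizer
theorem K_le : Λ.K ≤ Λ.N := centralizer_le_normalizer _
theorem comm {k a : G} (hk : k ∈ Λ.K) (ha : a ∈ Λ.A) : k * a = a * k := (hk a ha).symm
theorem cjA {n a : G} (hn : n ∈ Λ.N) (ha : a ∈ Λ.A) : n * a * n⁻¹ ∈ Λ.A := (mem_normalizer_iff.1 hn a).1 ha
theorem cjK {n k : G} (hn : n ∈ Λ.N) (hk : k ∈ Λ.K) : n * k * n⁻¹ ∈ Λ.K :=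
  (mem_normalizer_iff.1 (normalizer_le_normalizer_centralizer _ hn) k).1 hk
/-- `π` as a homomorphism -/
def π0 : Λ.N →* M := MonoidHom.mk' (fun n => Λ.π n) fun a b => Λ.π_mul a a.2 b b.2
theorem π_one : Λ.π 1 = 1 := map_one Λ.π0
theorem π_inv {a : G} (ha : a ∈ Λ.N) : Λ.π a⁻¹ = (Λ.π a)⁻¹ := map_inv Λ.π0 ⟨a, ha⟩
theorem π_pow {a : G} (ha : a ∈ Λ.N) (n : ℕ) : Λ.π (a ^ n) = Λ.π a ^ n := map_pow Λ.π0 ⟨a, ha⟩ n
theorem π_cj {a b : G} (ha : a ∈ Λ.N) (hb : b ∈ Λ.N) : Λ.π (a * b * a⁻¹) = Λ.π a * Λ.π b * (Λ.π a)⁻¹ := by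
  rw [Λ.π_mul _ (mul_mem ha hb) _ (inv_mem ha), Λ.π_mul _ ha _ hb, Λ.π_inv ha]
theorem π_cm {a b : G} (ha : a ∈ Λ.N) (hb : b ∈ Λ.N) :
    Λ.π (a * b * a⁻¹ * b⁻¹) = Λ.π a * Λ.π b * (Λ.π a)⁻¹ * (Λ.π b)⁻¹ := by
  rw [Λ.π_mul _ (mul_mem (mul_mem ha hb) (inv_mem ha)) _ (inv_mem hb), Λ.π_cj ha hb, Λ.π_inv hb]
theorem π_K {k : G} (hk : k ∈ Λ.K) : Λ.π k = 1 := (Λ.ker k (Λ.K_le hk)).2 hk
theorem π_comm {a b : G} (ha : a ∈ Λ.N) (hb : b ∈ Λ.N) (e : a * b = b * a) : Λ.π a * Λ.π b = Λ.π b * Λ.π a := by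
  rw [← Λ.π_mul a ha b hb, e, Λ.π_mul b hb a ha]
theorem π_sq {a : G} (ha : a ∈ Λ.N) (e : a * a = 1) : Λ.π a * Λ.π a = 1 := by rw [← Λ.π_mul a ha a ha, e, π_one]
theorem π_P2 {a : G} (ha : a ∈ Λ.N) (h : P2 a) : P2 (Λ.π a) := h.imp fun _ e => by rw [← Λ.π_pow ha, e, π_one]
theorem eq_of_π {a b : G} (ha : a ∈ Λ.N) (hb : b ∈ Λ.N) (e : Λ.π a = Λ.π b) : ∃ k ∈ Λ.K, b = a * k :=
  ⟨a⁻¹ * b, (Λ.ker _ (mul_mem (inv_mem ha) hb)).1 (by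
    rw [Λ.π_mul _ (inv_mem ha) _ hb, Λ.π_inv ha, e, inv_mul_cancel]), by group⟩
/-- the image of a subgroup of `N` -/
def im (D : Subgroup G) : Subgroup M := (D.subgroupOf Λ.N).map Λ.π0
theorem mem_im {D : Subgroup G} (hD : D ≤ Λ.N) {m : M} : m ∈ Λ.im D ↔ ∃ d ∈ D, Λ.π d = m :=
  ⟨fun ⟨d, hd, e⟩ => ⟨d, hd, e⟩, fun ⟨d, hd, e⟩ => ⟨⟨d, hD hd⟩, hd, e⟩⟩
theorem pg_im {D : Subgroup G} (h : IsPGroup 2 D) : IsPGroup 2 (Λ.im D) :=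
  (h.comap_of_injective _ Λ.N.subtype_injective).map _
theorem card_im {D : Subgroup G} (hD : D ≤ Λ.N) :
    Nat.card D = Nat.card (Λ.im D) * Nat.card ↥(D ⊓ Λ.K) := by
  let f : D →* M := Λ.π0.comp (inclusion hD)
  have e1 : f.range = Λ.im D := Subgroup.ext fun m => by
    rw [Λ.mem_im hD]; exact ⟨fun ⟨d, e⟩ => ⟨d, d.2, e⟩, fun ⟨d, hd, e⟩ => ⟨⟨d, hd⟩, e⟩⟩
  have e2 : f.ker = (D ⊓ Λ.K).subgroupOf D := Subgroup.ext fun d => by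
    rw [mem_subgroupOf, mem_inf, and_iff_right d.2]; exact Λ.ker d (hD d.2)
  rw [card_eq_card_quotient_mul_card_subgroup f.ker, Nat.card_congr (QuotientGroup.quotientKerEquivRange f).toEquiv,
    e1, e2, Nat.card_congr (subgroupOfEquivOfLe inf_le_left).toEquiv]

/-- `x` induces an inner automorphism -/
def Inn (x : G) : Prop := x ∈ Λ.N ∧ Λ.π x ∈ Λ.L
theorem inn_A {a : G} (ha : a ∈ Λ.A) : Λ.Inn a := ⟨Λ.A_le ha, Λ.πA a ha⟩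
theorem inn_K {k : G} (hk : k ∈ Λ.K) : Λ.Inn k := ⟨Λ.K_le hk, by rw [Λ.π_K hk]; exact one_mem _⟩
theorem Inn.mul {Λ : Cv G M} {x y : G} (h : Λ.Inn x) (h' : Λ.Inn y) : Λ.Inn (x * y) :=
  ⟨mul_mem h.1 h'.1, by rw [Λ.π_mul _ h.1 _ h'.1]; exact mul_mem h.2 h'.2⟩
theorem Inn.inv {Λ : Cv G M} {x : G} (h : Λ.Inn x) : Λ.Inn x⁻¹ :=
  ⟨inv_mem h.1, by rw [Λ.π_inv h.1]; exact inv_mem h.2⟩
theorem Inn.dec {Λ : Cv G M} {x : G} (h : Λ.Inn x) : ∃ a ∈ Λ.A, ∃ k ∈ Λ.K, x = a * k :=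
  let ⟨a, ha, e⟩ := Λ.lift _ h.2; ⟨a, ha, Λ.eq_of_π (Λ.A_le ha) h.1 e⟩
/-- an inner element centralises `Z(A)` -/
theorem Inn.comm {Λ : Cv G M} {x z : G} (h : Λ.Inn x) (hz : z ∈ Λ.A) (hz' : z ∈ Λ.K) : x * z = z * x := by
  obtain ⟨a, ha, k, hk, rfl⟩ := h.dec
  rw [mul_assoc, Λ.comm hk hz, ← mul_assoc, ← Λ.comm hz' ha, mul_assoc]
theorem cenN {t g : G} (ht : t ∈ Λ.K) (t2 : t * t = 1) (t1 : t ≠ 1) (e : g * t = t * g) : g ∈ Λ.N :=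
  Λ.tight t ht t2 t1 g (by rwa [cj_of_comm e])

/-- conjugate -/
def cj (g : G) : Cv G M where
  A := g •ᶜ Λ.A
  L := Λ.L
  π x := Λ.π (g⁻¹ * x * g)
  π_mul a ha b hb := by
    rw [← cj_normalizer, mem_cj] at ha hb
    rw [← Λ.π_mul _ ha _ hb]; congr 1; group
  ker a ha := by rw [← cj_normalizer, mem_cj] at ha; rw [← cj_centralizer, mem_cj]; exact Λ.ker _ ha
  πA a ha := Λ.πA _ (mem_cj.1 ha)
  lift l hl := let ⟨a, ha, e⟩ := Λ.lift l hl; ⟨_, conj_mem_cj ha, by rw [← e]; congr 1; group⟩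
  nrm := Λ.nrm
  cen := Λ.cen
  perf := by rw [← map_commutator]; exact map_mono Λ.perf
  tight t ht t2 t1 x hx := by
    rw [← cj_centralizer, mem_cj] at ht hx
    rw [← cj_normalizer, mem_cj]
    exact Λ.tight _ ht (by simpa using sq_cj g⁻¹ t2) (by simpa using cj_ne g⁻¹ t1) _ (by convert hx using 1; group)

/-- `Λ'.A` is another conjugate of `Λ.A` -/
def Adj (Λ Λ' : Cv G M) : Prop := (∃ g, Λ'.A = g •ᶜ Λ.A) ∧ Λ'.A ≠ Λ.A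

variable {Λ} {Λ' : Cv G M}

theorem K_cj {g x : G} (e : Λ'.A = g •ᶜ Λ.A) : x ∈ Λ'.K ↔ g⁻¹ * x * g ∈ Λ.K := by
  rw [K, e, ← cj_centralizer, mem_cj]
theorem N_cj {g x : G} (e : Λ'.A = g •ᶜ Λ.A) : x ∈ Λ'.N ↔ g⁻¹ * x * g ∈ Λ.N := by
  rw [N, e, ← cj_normalizer, mem_cj]
theorem Adj.symm (h : Adj Λ Λ') : Adj Λ' Λ :=
  ⟨let ⟨g, e⟩ := h.1; ⟨g⁻¹, by rw [e]; exact inv_cj _ _⟩, h.2.symm⟩
theorem adj_cj {g : G} (hg : g ∉ Λ.N) : Adj Λ (Λ.cj g) :=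
  ⟨⟨g, rfl⟩, fun e => hg (mem_normalizer_iff_cj.2 e)⟩
theorem Adj.dis (h : Adj Λ Λ') {x : G} (h1 : x ∈ Λ.K) (h2 : x ∈ Λ'.K) (p : P2 x) : x = 1 := by
  by_contra c
  obtain ⟨n, e, e1⟩ := p.exists_inv c
  obtain ⟨g, eg⟩ := h.1
  have := Λ.tight _ (pow_mem h1 n) e e1 g⁻¹ (by simpa using (K_cj eg).1 (pow_mem h2 n))
  exact h.2 (eg.trans (mem_normalizer_iff_cj.1 (inv_mem_iff.1 this)))

/-- a four-group in `X` -/
def Fo (X : Subgroup G) : Prop :=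
  ∃ r ∈ X, ∃ s ∈ X, r * r = 1 ∧ s * s = 1 ∧ r ≠ 1 ∧ s ≠ 1 ∧ r ≠ s ∧ r * s = s * r
theorem Adj.fo (h : Adj Λ Λ') (h4 : Fo Λ.K) : Fo Λ'.K := by
  obtain ⟨g, eg⟩ := h.1
  obtain ⟨r, hr, s, hs, a, b, c, d, e, f⟩ := h4
  exact ⟨g * r * g⁻¹, (K_cj eg).2 (by simpa [mul_assoc] using hr), g * s * g⁻¹,
    (K_cj eg).2 (by simpa [mul_assoc] using hs), sq_cj g a, sq_cj g b, cj_ne g c, cj_ne g d,
    fun k => e (by simpa using k), cm_cj g f⟩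
/-- an involution of a four-group different from a central involution `c` -/
theorem Fo.exists_ne {X : Subgroup G} (h : Fo X) (c : G) : ∃ r ∈ X, r * r = 1 ∧ r ≠ 1 ∧ r ≠ c := by
  obtain ⟨r, hr, s, hs, a, b, c', d, e, -⟩ := h
  by_cases k : r = c
  exacts [⟨s, hs, b, d, fun k' => e (k.trans k'.symm)⟩, ⟨r, hr, a, c', k⟩]

variable (Λ)

/-- hypothesis (H): no involution of another conjugate of `K` is inner -/
def H : Prop := ∀ g t, t ∈ Λ.K → t * t = 1 → Λ.Inn (g * t * g⁻¹) → g * t * g⁻¹ ∈ Λ.K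

variable {Λ}

theorem inn_iff {x : G} : Λ.Inn x ↔ ∃ a ∈ Λ.A, ∃ k ∈ Λ.K, x = a * k :=
  ⟨Inn.dec, fun ⟨_, ha, _, hk, e⟩ => e ▸ (Λ.inn_A ha).mul (Λ.inn_K hk)⟩
theorem inn_cj {g x : G} (e : Λ'.A = g •ᶜ Λ.A) : Λ'.Inn x ↔ Λ.Inn (g⁻¹ * x * g) := by
  rw [inn_iff, inn_iff]
  refine ⟨fun ⟨a, ha, k, hk, e'⟩ => ⟨g⁻¹ * a * g, mem_cj.1 (e ▸ ha), _, (K_cj e).1 hk, by rw [e']; group⟩,
    fun ⟨a, ha, k, hk, e'⟩ => ⟨g * a * g⁻¹, e ▸ conj_mem_cj ha, g * k * g⁻¹,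
      (K_cj e).2 (by simpa [mul_assoc] using hk), ?_⟩⟩
  rw [← cj_mul', ← e']; group
theorem H.adj (h : Λ.H) (ad : Adj Λ Λ') : Λ'.H := fun g t ht t2 hi => by
  obtain ⟨x, e⟩ := ad.1
  have := h (x⁻¹ * g * x) _ ((K_cj e).1 ht) (by simpa using sq_cj x⁻¹ t2)
    (by convert (inn_cj e).1 hi using 1; group)
  exact (K_cj e).2 (by convert this using 1; group)
/-- under (H) a 2-element of `K'` which is inner is trivial -/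
theorem H.out (h : Λ.H) (ad : Adj Λ Λ') {t : G} (ht : t ∈ Λ'.K) (p : P2 t) (hi : Λ.Inn t) : t = 1 := by
  by_contra c
  obtain ⟨n, e, e1⟩ := p.exists_inv c
  obtain ⟨g, eg⟩ := ad.1
  have i : Λ.Inn (t ^ n) := ⟨pow_mem hi.1 n, by rw [Λ.π_pow hi.1]; exact pow_mem hi.2 n⟩
  have := h g _ ((K_cj eg).1 (pow_mem ht n)) (by simpa using sq_cj g⁻¹ e) (by simpa [mul_assoc] using i)
  exact e1 (ad.dis (by simpa [mul_assoc] using this) (pow_mem ht n) (P2.of_sq e))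
/-- KEY: an involution `[x, t]` (`x ∈ A`, `t ∈ K'`) lies in `N'` and is not inner on `A'` -/
theorem H.key (h : Λ.H) (ad : Adj Λ Λ') {t x a : G} (ht : t ∈ Λ'.K) (hN : t ∈ Λ.N) (t2 : t * t = 1) (t1 : t ≠ 1)
    (hx : x ∈ Λ.A) (e : a = x * (t * x⁻¹ * t⁻¹)) (a2 : a * a = 1) (a1 : a ≠ 1) :
    a * t = t * a ∧ a ∈ Λ'.N ∧ ¬ Λ'.Inn a := by
  have e1 : a * t = x * t * x⁻¹ := by rw [e]; group
  have c : a * t = t * a := by
    have := sq_cj x t2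
    rw [← e1] at this
    calc a * t = (a * t)⁻¹ := (inv_of_sq this).symm
      _ = t * a := by rw [mul_inv_rev, inv_of_sq t2, inv_of_sq a2]
  refine ⟨c, Λ'.cenN ht t2 t1 c, fun hi => a1 ?_⟩
  have := h.adj ad x t ht t2 (e1 ▸ hi.mul (Λ'.inn_K ht))
  rw [← e1, mul_mem_cancel_right ht] at this
  exact h.out ad this (P2.of_sq a2) (Λ.inn_A (e ▸ mul_mem hx (Λ.cjA hN (inv_mem hx))))
/-- the failure of (H) -/
theorem exists_inn (h : ¬ Λ.H) : ∃ g, g ∉ Λ.N ∧ ∃ t ∈ (Λ.cj g).K, t * t = 1 ∧ t ≠ 1 ∧ Λ.Inn t := by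
  simp only [H, not_forall] at h
  obtain ⟨g, t, ht, t2, hi, hn⟩ := h
  exact ⟨g, fun c => hn (Λ.cjK c ht), _, (K_cj rfl).2 (by simpa [mul_assoc] using ht), sq_cj g t2,
    fun c => hn (c ▸ one_mem _), hi⟩

variable (Λ)

/-- the 2-elements of `A` over a 2-subgroup `X` -/
def pre [Finite G] (X : Subgroup M) (hX : IsPGroup 2 X) : Subgroup G where
  carrier := {x | x ∈ Λ.A ∧ Λ.π x ∈ X ∧ P2 x}
  one_mem' := ⟨one_mem _, by rw [π_one]; exact one_mem _, 0, by simp⟩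
  inv_mem' := fun h => ⟨inv_mem h.1, by rw [Λ.π_inv (Λ.A_le h.1)]; exact inv_mem h.2.1, h.2.2.inv⟩
  mul_mem' := fun {a b} ha hb => by
    refine ⟨mul_mem ha.1 hb.1, by rw [Λ.π_mul _ (Λ.A_le ha.1) _ (Λ.A_le hb.1)]; exact mul_mem ha.2.1 hb.2.1, ?_⟩
    let D : Subgroup G := Λ.A ⊓ (X.comap Λ.π0).map Λ.N.subtype
    have mem : ∀ x ∈ Λ.A, Λ.π x ∈ X → x ∈ D := fun x hx h => ⟨hx, ⟨x, Λ.A_le hx⟩, h, rfl⟩
    have hq : IsPGroup 2 (D ⧸ center D) := fun q => by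
      obtain ⟨⟨d, hd, ⟨d', hd'⟩, h1, rfl⟩, rfl⟩ := QuotientGroup.mk'_surjective _ q
      obtain ⟨k, e⟩ := pow_two_of_mem hX h1
      refine ⟨k, ?_⟩
      rw [← map_pow, QuotientGroup.mk'_apply, QuotientGroup.eq_one_iff, mem_center_iff]
      exact fun g => Subtype.ext (Λ.comm ((Λ.ker _ (pow_mem hd' _)).1 (by rw [Λ.π_pow hd']; exact e)) g.2.1).symm
    obtain ⟨n, hn⟩ := IsPGroup.iff_card.1 hq
    have f : ∀ x : D, (MonoidHom.transferCenterPow D x : D) = x ^ 2 ^ n := fun x => by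
      rw [MonoidHom.transferCenterPow_apply, index, hn]
    let a' : D := ⟨a, mem a ha.1 ha.2.1⟩
    let b' : D := ⟨b, mem b hb.1 hb.2.1⟩
    have p : ∀ x : D, P2 (x : G) → P2 ((x ^ 2 ^ n : D) : G) := fun x h => h.imp fun k e => by
      rw [coe_pow, ← pow_mul, mul_comm, pow_mul, e, one_pow]
    have c := congrArg Subtype.val (mem_center_iff.1 (MonoidHom.transferCenterPow D b').2 (a' ^ 2 ^ n))
    rw [f] at c
    obtain ⟨k, e⟩ := (p a' ha.2.2).mul (p b' hb.2.2) c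
    refine ⟨n + k, ?_⟩
    have := f (a' * b')
    rw [map_mul, coe_mul, f, f] at this
    rw [pow_add, pow_mul, show (a * b) ^ 2 ^ n = ((a' * b') ^ 2 ^ n : D) from rfl, ← this]
    exact e

theorem mem_pre [Finite G] {X : Subgroup M} {hX : IsPGroup 2 X} {x : G} :
    x ∈ Λ.pre X hX ↔ x ∈ Λ.A ∧ Λ.π x ∈ X ∧ P2 x := Iff.rfl

/-- `O₂(Z(A))` -/
def B : Subgroup G where
  carrier := {x | x ∈ Λ.A ∧ x ∈ Λ.K ∧ P2 x}
  one_mem' := ⟨one_mem _, one_mem _, 0, by simp⟩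
  inv_mem' := fun h => ⟨inv_mem h.1, inv_mem h.2.1, h.2.2.inv⟩
  mul_mem' := fun ha hb => ⟨mul_mem ha.1 hb.1, mul_mem ha.2.1 hb.2.1, ha.2.2.mul hb.2.2 (Λ.comm ha.2.1 hb.1)⟩

theorem mem_B {x : G} : x ∈ Λ.B ↔ x ∈ Λ.A ∧ x ∈ Λ.K ∧ P2 x := Iff.rfl
theorem cjB {n b : G} (hn : n ∈ Λ.N) (hb : b ∈ Λ.B) : n * b * n⁻¹ ∈ Λ.B :=
  ⟨Λ.cjA hn hb.1, Λ.cjK hn hb.2.1, hb.2.2.cj n⟩
theorem B_cj {Λ Λ' : Cv G M} {g x : G} (e : Λ'.A = g •ᶜ Λ.A) (h : x ∈ Λ.B) : g * x * g⁻¹ ∈ Λ'.B :=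
  ⟨e ▸ conj_mem_cj h.1, (K_cj e).2 (by simpa [mul_assoc] using h.2.1), h.2.2.cj g⟩
/-- `B` is elementary abelian -/
def El : Prop := ∀ b ∈ Λ.B, b * b = 1
theorem Adj.el {Λ Λ' : Cv G M} (h : Adj Λ Λ') (e : Λ.El) : Λ'.El := fun b hb => by
  obtain ⟨g, eg⟩ := h.symm.1
  simpa [mul_assoc] using sq_cj g⁻¹ (e _ (B_cj eg hb))

end Cv

/-- `A / Z(A) = L₃(4)` -/
structure C3 (G : Type u) (M : Type v) [Group G] [Group M] extends Cv G M where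
  Γ : Lz M
  hL : Γ.L = L
  ex4 : ∀ b ∈ toCv.B, b * b * (b * b) = 1
  rk2 : ∀ a ∈ toCv.B, ∀ b ∈ toCv.B, ∀ c ∈ toCv.B, a * a = 1 → b * b = 1 → c * c = 1 →
    a = 1 ∨ b = 1 ∨ a = b ∨ c = 1 ∨ c = a ∨ c = b ∨ c = a * b

namespace C3

variable (Λ : C3 G M)

theorem ΓN (m : M) : m ∈ Λ.Γ.N := by rw [Lz.N, Λ.hL]; exact Λ.nrm m
theorem ΓK : Λ.Γ.K = ⊥ := by rw [Lz.K, Λ.hL]; exact Λ.cen
/-- exchange the two sides -/
def sw : C3 G M := { Λ with Γ := Λ.Γ.sw }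
/-- change the frame -/
def fr (l : M) : C3 G M := { Λ with Γ := Λ.Γ.cj l, hL := (Λ.Γ.cj_L_of (Λ.ΓN l)).trans Λ.hL }
/-- conjugate -/
def cj (g : G) : C3 G M :=
  { Λ.toCv.cj g with
    Γ := Λ.Γ, hL := Λ.hL
    ex4 := fun b hb => by
      have := Λ.ex4 _ (Cv.B_cj (Λ := Λ.toCv.cj g) (g := g⁻¹) (inv_cj g _) hb)
      rw [← cj_mul', ← cj_mul'] at this
      exact conj_eq_one_iff.1 this
    rk2 := fun a ha b hb c hc a2 b2 c2 => by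
      have f : ∀ {x}, x ∈ (Λ.toCv.cj g).B → g⁻¹ * x * g⁻¹⁻¹ ∈ Λ.B :=
        Cv.B_cj (inv_cj g _)
      have := Λ.rk2 _ (f ha) _ (f hb) _ (f hc) (sq_cj _ a2) (sq_cj _ b2) (sq_cj _ c2)
      rw [← cj_mul'] at this
      simpa only [conj_eq_one_iff, mul_left_inj, mul_right_inj] using this }

variable [Finite G]

/-- the Sylow 2-subgroup of `A` over `U` -/
def Uh : Subgroup G := Λ.pre Λ.Γ.U Λ.Γ.pU
theorem mem_Uh {x : G} : x ∈ Λ.Uh ↔ x ∈ Λ.A ∧ Λ.π x ∈ Λ.Γ.U ∧ P2 x := Iff.rfl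
/-- `x ∈ Uh` lies over `u a b c` -/
def Ov (x : G) (a b c : F4) : Prop := x ∈ Λ.Uh ∧ Λ.π x = Λ.Γ.u a b c
theorem sw_Uh : Λ.sw.Uh = Λ.Uh := Subgroup.ext fun x => by
  rw [mem_Uh, mem_Uh]; exact and_congr_right fun _ => and_congr_left fun _ => by rw [← Λ.Γ.sw_U]; rfl

end C3

end CL.C41
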