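import Cfsg.Agent.INV.C41.GM

/-! # `A = 2·G₂(4)`: definitions -/

set_option autoImplicit false
set_option linter.unusedSectionVars false

namespace CL.C41

open Subgroup CL.MSS CL.SZ4 CL.Co1S

universe u v

/-- `A / Z(A) = S = G₂(4)`, `Z(A) = {1, c}` -/
structure CG (G : Type u) (S : Type v) [Group G] [Group S] extends Cv G (MulAut S) where
  D : Dat S
  hL : L = GM.In S
  c : G
  cA : c ∈ A
  cK : c ∈ centralizer (A : Set G)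
  c1 : c ≠ 1
  two : ∀ z ∈ A, z ∈ centralizer (A : Set G) → z = 1 ∨ z = c

namespace CG

variable {G : Type u} {S : Type v} [Group G] [Group S] (Λ : CG G S)

theorem c2 : Λ.c * Λ.c = 1 :=
  (Λ.two _ (mul_mem Λ.cA Λ.cA) (mul_mem Λ.cK Λ.cK)).resolve_right fun e => Λ.c1 (by simpa using e)
/-- conjugate -/
def cj (g : G) : CG G S :=
  { Λ.toCv.cj g with
    D := Λ.D, hL := Λ.hL, c := g * Λ.c * g⁻¹, cA := conj_mem_cj Λ.cA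
    cK := (Cv.K_cj rfl).2 (by simpa [mul_assoc] using Λ.cK), c1 := cj_ne g Λ.c1
    two := fun z hz hz' => (Λ.two _ (mem_cj.1 hz) ((Cv.K_cj rfl).1 hz')).imp
      (fun e => by simpa [mul_assoc, inv_mul_eq_iff_eq_mul] using e) fun e => by rw [← e]; group }

/-- `x ∈ N` acts as `m` -/
def Io (x : G) (m : S) : Prop := x ∈ Λ.N ∧ Λ.π x = MulAut.conj m
/-- `x ∈ A` lies over `m` -/
def Ov (x : G) (m : S) : Prop := x ∈ Λ.A ∧ Λ.π x = MulAut.conj m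

theorem inn_iff {x : G} : Λ.Inn x ↔ ∃ m, Λ.Io x m := by
  rw [Cv.Inn, Λ.hL]; exact ⟨fun ⟨h, m, e⟩ => ⟨m, h, e.symm⟩, fun ⟨m, h, e⟩ => ⟨h, m, e.symm⟩⟩
theorem ex_ov (m : S) : ∃ x, Λ.Ov x m := Λ.lift _ (Λ.hL ▸ ⟨m, rfl⟩)
theorem ov_of_mem {x : G} (h : x ∈ Λ.A) : ∃ m, Λ.Ov x m :=
  let ⟨m, _, e⟩ := Λ.inn_iff.1 (Λ.inn_A h); ⟨m, h, e⟩
theorem ov_c : Λ.Ov Λ.c 1 := ⟨Λ.cA, by rw [Λ.π_K Λ.cK, map_one]⟩
theorem c_comm {a : G} (h : a ∈ Λ.A) : Λ.c * a = a * Λ.c := Λ.comm Λ.cK h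
theorem cj_c {n : G} (h : n ∈ Λ.N) : n * Λ.c * n⁻¹ = Λ.c :=
  (Λ.two _ (Λ.cjA h Λ.cA) (Λ.cjK h Λ.cK)).resolve_left (cj_ne n Λ.c1)

variable {Λ} {x y : G} {m m' : S}

theorem Ov.io (h : Λ.Ov x m) : Λ.Io x m := ⟨Λ.A_le h.1, h.2⟩
theorem Io.mul (h : Λ.Io x m) (h' : Λ.Io y m') : Λ.Io (x * y) (m * m') :=
  ⟨mul_mem h.1 h'.1, by rw [Λ.π_mul _ h.1 _ h'.1, h.2, h'.2, map_mul]⟩
theorem Io.inv (h : Λ.Io x m) : Λ.Io x⁻¹ m⁻¹ := ⟨inv_mem h.1, by rw [Λ.π_inv h.1, h.2, map_inv]⟩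
theorem Io.one_iff (h : x ∈ Λ.N) : Λ.Io x 1 ↔ x ∈ Λ.K := by rw [Io, and_iff_right h, map_one]; exact Λ.ker x h
theorem Io.dec (h : Λ.Io x m) : ∃ a, Λ.Ov a m ∧ ∃ k ∈ Λ.K, x = a * k :=
  let ⟨a, ha⟩ := Λ.ex_ov m; ⟨a, ha, Λ.eq_of_π ha.io.1 h.1 (ha.2.trans h.2.symm)⟩
theorem Io.inj [Finite S] (h : Λ.Io x m) (h' : Λ.Io x m') : m = m' := GM.conj_inj Λ.D (h.2.symm.trans h'.2)
theorem Ov.mul (h : Λ.Ov x m) (h' : Λ.Ov y m') : Λ.Ov (x * y) (m * m') := ⟨mul_mem h.1 h'.1, (h.io.mul h'.io).2⟩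
theorem Ov.inv (h : Λ.Ov x m) : Λ.Ov x⁻¹ m⁻¹ := ⟨inv_mem h.1, h.io.inv.2⟩
theorem Ov.one (h : Λ.Ov x 1) : x = 1 ∨ x = Λ.c := Λ.two _ h.1 ((Io.one_iff h.io.1).1 h.io)
theorem Ov.eq (h : Λ.Ov x m) (h' : Λ.Ov y m) : y = x ∨ y = x * Λ.c :=
  (Ov.one (by simpa using h.inv.mul h')).imp (fun e => (inv_mul_eq_one.1 e).symm) fun e => by rw [← e]; group
theorem Ov.cj (h : Λ.Ov x m) (h' : Λ.Ov y m') : Λ.Ov (x * y * x⁻¹) (m * m' * m⁻¹) := (h.mul h').mul h.inv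
theorem Ov.cjN {t : G} (ht : t ∈ Λ.N) (h : Λ.Ov x m) : Λ.Ov (t * x * t⁻¹) (Λ.π t m) :=
  ⟨Λ.cjA ht h.1, by rw [Λ.π_cj ht h.io.1, h.2]; ext s; simp⟩

variable (Λ)

/-- the preimage in `A` -/
def pr (X : Subgroup S) : Subgroup G where
  carrier := {x | ∃ m ∈ X, Λ.Ov x m}
  one_mem' := ⟨1, one_mem _, one_mem _, by rw [Λ.π_one, map_one]⟩
  mul_mem' := fun ⟨_, h1, h2⟩ ⟨_, h3, h4⟩ => ⟨_, mul_mem h1 h3, h2.mul h4⟩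
  inv_mem' := fun ⟨_, h1, h2⟩ => ⟨_, inv_mem h1, h2.inv⟩
theorem mem_pr {X : Subgroup S} : x ∈ Λ.pr X ↔ ∃ m ∈ X, Λ.Ov x m := Iff.rfl
theorem pr_le (X : Subgroup S) : Λ.pr X ≤ Λ.A := fun _ ⟨_, _, h⟩ => h.1
theorem c_pr (X : Subgroup S) : Λ.c ∈ Λ.pr X := ⟨1, one_mem _, Λ.ov_c⟩
/-- the image in `S` of the inner elements of `E` -/
def io (E : Subgroup G) : Subgroup S where
  carrier := {m | ∃ x ∈ E, Λ.Io x m}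
  one_mem' := ⟨1, one_mem _, one_mem _, by rw [Λ.π_one, map_one]⟩
  mul_mem' := fun ⟨_, h1, h2⟩ ⟨_, h3, h4⟩ => ⟨_, mul_mem h1 h3, h2.mul h4⟩
  inv_mem' := fun ⟨_, h1, h2⟩ => ⟨_, inv_mem h1, h2.inv⟩
theorem mem_io {E : Subgroup G} : m ∈ Λ.io E ↔ ∃ x ∈ E, Λ.Io x m := Iff.rfl

theorem card_io [Finite S] {E : Subgroup G} (h : ∀ x ∈ E, Λ.Inn x) :
    Nat.card E = Nat.card (Λ.io E) * Nat.card ↥(E ⊓ Λ.K) := by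
  have hN : E ≤ Λ.N := fun x hx => (h x hx).1
  rw [Λ.card_im hN, ← card_map_of_injective (K := Λ.io E) (f := MulAut.conj) (GM.conj_inj Λ.D)]
  congr 3
  ext θ
  rw [Λ.mem_im hN, mem_map]
  refine ⟨fun ⟨d, hd, e⟩ => ?_, fun ⟨_, ⟨d, hd, e⟩, e'⟩ => ⟨d, hd, e.2.trans e'⟩⟩
  obtain ⟨m, hm⟩ := Λ.inn_iff.1 (h d hd)
  exact ⟨m, ⟨d, hd, hm⟩, hm.2.symm.trans e⟩

theorem card_pr [Finite S] (X : Subgroup S) : Nat.card (Λ.pr X) = Nat.card X * 2 := by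
  have e1 : Λ.io (Λ.pr X) = X := le_antisymm (fun m ⟨_, ⟨_, h1, h2⟩, h3⟩ => h2.io.inj h3 ▸ h1)
    fun m hm => let ⟨x, hx⟩ := Λ.ex_ov m; ⟨x, ⟨m, hm, hx⟩, hx.io⟩
  have e2 : Λ.pr X ⊓ Λ.K = zpowers Λ.c := le_antisymm (fun z hz => by
    rcases Λ.two z (Λ.pr_le X hz.1) hz.2 with rfl | rfl
    exacts [one_mem _, mem_zpowers _]) (zpowers_le.2 ⟨Λ.c_pr X, Λ.cK⟩)
  rw [Λ.card_io fun x hx => Λ.inn_A (Λ.pr_le X hx), e1, e2, Nat.card_zpowers,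
    orderOf_eq_prime (p := 2) ((sq _).trans Λ.c2) Λ.c1]

end CG

end CL.C41
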