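import Cfsg.Agent.INV.C41.GD

/-! # `2·G₂(4)`: small tools -/

set_option autoImplicit false
set_option linter.unusedSectionVars false

namespace CL.C41.CG

open Subgroup CL.MSS CL.SZ4 CL.Co1S Cv

universe u v
variable {G : Type u} {S : Type v} [Group G] [Group S] {Λ Λ' : CG G S} {x x' y y' : G} {m m' : S}

theorem Io.one (Λ : CG G S) : Λ.Io 1 1 := (Io.one_iff (one_mem _)).2 (one_mem _)
theorem Io.ofK (h : x ∈ Λ.K) : Λ.Io x 1 := (Io.one_iff (Λ.K_le h)).2 h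
theorem Io.toK (h : Λ.Io x 1) : x ∈ Λ.K := (Io.one_iff h.1).1 h
theorem Io.ov (h : Λ.Io x m) (hx : x ∈ Λ.A) : Λ.Ov x m := ⟨hx, h.2⟩
theorem Io.cj (h : Λ.Io x m) (h' : Λ.Io y m') : Λ.Io (x * y * x⁻¹) (m * m' * m⁻¹) := (h.mul h').mul h.inv
theorem Io.pow (h : Λ.Io x m) (n : ℕ) : Λ.Io (x ^ n) (m ^ n) :=
  ⟨pow_mem h.1 n, by rw [Λ.π_pow h.1, h.2, map_pow]⟩
theorem Io.inn (h : Λ.Io x m) : Λ.Inn x := Λ.inn_iff.2 ⟨m, h⟩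
theorem Io.cm [Finite S] (h : Λ.Io x m) (h' : Λ.Io y m') (e : x * y = y * x) : m * m' = m' * m :=
  (h.mul h').inj (e ▸ h'.mul h)
theorem Io.sq [Finite S] (h : Λ.Io x m) (e : x * x = 1) : m * m = 1 := (e ▸ h.mul h).inj (Io.one Λ)
theorem Io.ne [Finite S] (h : Λ.Io x m) (e : m ≠ 1) : x ≠ 1 := fun c => e ((c ▸ h).inj (Io.one Λ))
theorem Ov.pow (h : Λ.Ov x m) (n : ℕ) : Λ.Ov (x ^ n) (m ^ n) := (h.io.pow n).ov (pow_mem h.1 n)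
theorem Ov.inj [Finite S] (h : Λ.Ov x m) (h' : Λ.Ov x m') : m = m' := h.io.inj h'.io
theorem Ov.pr {X : Subgroup S} (h : Λ.Ov x m) (hm : m ∈ X) : x ∈ Λ.pr X := ⟨m, hm, h⟩
theorem ov_one (Λ : CG G S) : Λ.Ov 1 1 := (Io.one Λ).ov (one_mem _)
theorem pr_mono {X Y : Subgroup S} (h : X ≤ Y) : Λ.pr X ≤ Λ.pr Y := fun _ ⟨m, a, b⟩ => ⟨m, h a, b⟩
theorem io_mono {X Y : Subgroup G} (h : X ≤ Y) : Λ.io X ≤ Λ.io Y := fun _ ⟨m, a, b⟩ => ⟨m, h a, b⟩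
theorem io_pr [Finite S] {X : Subgroup S} {E : Subgroup G} (h : E ≤ Λ.pr X) : Λ.io E ≤ X :=
  fun _ ⟨_, a, b⟩ => let ⟨_, c, d⟩ := h a; d.io.inj b ▸ c

/-- two lifts of the same element act in the same way on `A` -/
theorem Ov.cj_eq (h : Λ.Ov x m) (h' : Λ.Ov x' m) (hy : y ∈ Λ.A) : x' * y * x'⁻¹ = x * y * x⁻¹ := by
  rcases h.eq h' with rfl | rfl
  · rfl
  · rw [← cj_cj, cj_of_comm (Λ.c_comm hy)]
theorem Ov.cm_eq (h : Λ.Ov x m) (h' : Λ.Ov x' m) (k : Λ.Ov y m') (k' : Λ.Ov y' m') :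
    x' * y' * x'⁻¹ * y'⁻¹ = x * y * x⁻¹ * y⁻¹ := by
  have := k.cj_eq k' (inv_mem h.1)
  rw [h.cj_eq h' k'.1]
  calc _ = x * (y' * x⁻¹ * y'⁻¹) := by group
    _ = _ := by rw [this]; group
theorem Ov.sq_eq (h : Λ.Ov x m) (h' : Λ.Ov x' m) : x' * x' = x * x := by
  rcases h.eq h' with rfl | rfl
  · rfl
  · rw [mul_assoc, ← mul_assoc Λ.c, Λ.c_comm h.1, mul_assoc, Λ.c2, mul_one]

/-- the elements which act as elements of `X` -/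
def ip (Λ : CG G S) (X : Subgroup S) : Subgroup G where
  carrier := {x | ∃ m ∈ X, Λ.Io x m}
  one_mem' := ⟨1, one_mem _, Io.one Λ⟩
  mul_mem' := fun ⟨_, h1, h2⟩ ⟨_, h3, h4⟩ => ⟨_, mul_mem h1 h3, h2.mul h4⟩
  inv_mem' := fun ⟨_, h1, h2⟩ => ⟨_, inv_mem h1, h2.inv⟩

theorem io_cj {g : G} : (Λ.cj g).Io x m ↔ Λ.Io (g⁻¹ * x * g) m := and_congr_left fun _ => N_cj rfl
theorem adj_tw (ad : Adj Λ.toCv Λ'.toCv) {g : G} (hg : g ∈ Λ'.N) : Adj Λ.toCv (Λ'.cj g).toCv := by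
  have e : (Λ'.cj g).A = Λ'.A := mem_normalizer_iff_cj.1 hg
  exact ⟨e ▸ ad.1, e ▸ ad.2⟩
theorem adj_mv (ad : Adj Λ.toCv Λ'.toCv) {g : G} (hg : g ∈ Λ.N) : Adj Λ.toCv (Λ'.cj g).toCv := by
  obtain ⟨⟨k, e⟩, h⟩ := ad
  refine ⟨⟨g * k, by rw [cj_mul, ← e]; rfl⟩, fun c => h ?_⟩
  exact (cj_eq_iff.1 c).trans (mem_normalizer_iff_cj.1 (inv_mem hg))
theorem cj_K {g : G} (h : x ∈ Λ.K) : g * x * g⁻¹ ∈ (Λ.cj g).K := (K_cj rfl).2 (by simpa [mul_assoc] using h)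
theorem c_not (ad : Adj Λ.toCv Λ'.toCv) : Λ.c ∉ Λ'.K := fun h => Λ.c1 (ad.dis Λ.cK h (P2.of_sq Λ.c2))

end CL.C41.CG
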