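import Cfsg.Agent.INV.C41.GS
import Cfsg.Agent.INV.C41.GX
import Cfsg.Agent.INV.CO1.Bas2

/-!
# `2·G₂(4)` is not a non-normal standard subgroup

To normalise the image of an element of `K'` on `A`, replace `Λ'` by `Λ'.cj a` with `a ∈ A` (still adjacent to `Λ`);
to normalise an image on `A'`, replace `Λ'` by `Λ'.cj a'` with `a' ∈ A'` (same `A'`, `K'`, `N'`; `π'` is twisted).
-/

set_option autoImplicit false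
set_option linter.unusedSectionVars false

namespace CL.C41.CG

open Subgroup CL.MSS CL.SZ4 CL.Co1S Cv

universe u v
variable {G : Type u} {S : Type v} [Group G] [Group S] [Finite G] [Finite S] {Λ Λ' : CG G S}

/-- PROOF. `GM.comm_le`. -/
theorem inn_perf {X : Subgroup G} (hX : X ≤ ⁅X, X⁆) (hN : X ≤ Λ'.N) {x : G} (hx : x ∈ X) : Λ'.Inn x := by
  have : ⁅X, X⁆ ≤ Λ'.ip ⊤ := commutator_le.2 fun a ha b hb => by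
    have i : Λ'.Inn (a * b * a⁻¹ * b⁻¹) := ⟨mul_mem (mul_mem (mul_mem (hN ha) (hN hb)) (inv_mem (hN ha)))
      (inv_mem (hN hb)), by
        rw [Λ'.π_cm (hN ha) (hN hb), Λ'.hL]
        exact GM.comm_le Λ'.D (commutator_mem_commutator (mem_top _) (mem_top _))⟩
    obtain ⟨m, hm⟩ := Λ'.inn_iff.1 i
    exact ⟨m, mem_top _, hm⟩
  obtain ⟨m, -, hm⟩ := this (hX hx)
  exact hm.inn

/-- PROOF. All elements of `X` are inner on `A'` (`inn_perf`). `c` acts as an involution `m` (`Adj.dis`), long or short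
(`D.cls`). If `m = a (x2 1) a⁻¹`, then `Λ'.io X` centralises `m`, and `m ∈ ⁅io X, io X⁆ ≤ a J2 a⁻¹` (`comm_CX`), against
`GM.x2_not`. -/
theorem c_long (ad : Adj Λ.toCv Λ'.toCv) {X : Subgroup G} (hX : X ≤ ⁅X, X⁆) (hA : X ≤ Λ.A) (hN : X ≤ Λ'.N)
    (hc : Λ.c ∈ X) : ∃ m, Λ'.D.Long m ∧ Λ'.Io Λ.c m := by
  obtain ⟨m, hm⟩ := Λ'.inn_iff.1 (inn_perf hX hN hc)
  refine ⟨m, ?_, hm⟩
  refine (Λ'.D.cls m (hm.sq Λ.c2) fun e => c_not ad (Io.toK (e ▸ hm))).resolve_right fun hs => ?_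
  obtain ⟨a, rfl⟩ := isConj_iff.1 hs
  have key : ∀ x ∈ X, ∃ n ∈ centralizer ({Λ'.D.x2 1} : Set S), Λ'.Io x (a * n * a⁻¹) := fun x hx => by
    obtain ⟨n, hn⟩ := Λ'.inn_iff.1 (inn_perf hX hN hx)
    refine ⟨a⁻¹ * n * a, mem_centralizer_singleton_iff.2 ?_, by simpa [mul_assoc] using hn⟩
    have := cm_cj a⁻¹ (hm.cm hn (Λ.c_comm (hA hx)))
    simpa [mul_assoc] using this.symm
  have : ⁅X, X⁆ ≤ Λ'.ip (a •ᶜ Λ'.D.J2) := commutator_le.2 fun x hx y hy => by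
    obtain ⟨n, h1, h2⟩ := key x hx
    obtain ⟨n', h3, h4⟩ := key y hy
    refine ⟨_, conj_mem_cj (Λ'.D.comm_CX (commutator_mem_commutator h1 h3)), ?_⟩
    have := (h2.cj h4).mul h4.inv
    rw [commutatorElement_def, commutatorElement_def]
    convert this using 1; group
  obtain ⟨n, h1, h2⟩ := this (hX hc)
  rw [← hm.inj h2, conj_mem_cj_iff] at h1
  exact GM.x2_not _ h1

/-- PROOF. `E = A ⊓ K'` is normalised by `A`; `Λ.io E` is a normal subgroup of the simple group `S`. If it is `⊤` then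
`A ≤ E ∪ E c`, so `A ≤ ⁅A, A⁆ ≤ E` and `c ∈ K'`, against `Adj.dis`. -/
theorem triv_of_le (ad : Adj Λ.toCv Λ'.toCv) (h : Λ.A ≤ Λ'.N) {e : G} (hA : e ∈ Λ.A) (he : e ∈ Λ'.K) :
    e ∈ Λ.K := by
  have : (Λ.io (Λ.A ⊓ Λ'.K)).Normal := ⟨fun m ⟨x, hx, hm⟩ g => by
    obtain ⟨a, ha⟩ := Λ.ex_ov g
    exact ⟨_, ⟨Λ.cjA ha.io.1 hx.1, Λ'.cjK (h ha.1) hx.2⟩, ha.io.cj hm⟩⟩
  have := Λ.D.simple
  rcases this.eq_bot_or_eq_top_of_normal _ ‹(Λ.io (Λ.A ⊓ Λ'.K)).Normal› with k | k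
  · obtain ⟨m, hm⟩ := Λ.ov_of_mem hA
    have : m ∈ Λ.io (Λ.A ⊓ Λ'.K) := ⟨e, ⟨hA, he⟩, hm.io⟩
    rw [k, mem_bot] at this
    exact Io.toK (this ▸ hm.io)
  · refine absurd ((commutator_le.2 fun a ha b hb => ?_ : ⁅Λ.A, Λ.A⁆ ≤ Λ'.K) (Λ.perf Λ.cA)) (c_not ad)
    obtain ⟨m, hm⟩ := Λ.ov_of_mem ha
    obtain ⟨n, hn⟩ := Λ.ov_of_mem hb
    obtain ⟨x, hx, h1⟩ : m ∈ Λ.io (Λ.A ⊓ Λ'.K) := k ▸ mem_top _
    obtain ⟨y, hy, h2⟩ : n ∈ Λ.io (Λ.A ⊓ Λ'.K) := k ▸ mem_top _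
    rw [commutatorElement_def, (h1.ov hx.1).cm_eq hm (h2.ov hy.1) hn]
    exact mul_mem (mul_mem (mul_mem hx.2 hy.2) (inv_mem hx.2)) (inv_mem hy.2)

/-- PROOF. Otherwise `N1` (for `B = Λ.io (pr J ⊓ K')`, normalised by `J`) gives `e ∈ K' ⊓ A` over `x3 u y t`, `u ≠ 0`, an
involution (`sq_VV`). Conjugating by a lift of `xb (t / u) ∈ J` (`xb_vv`) we get `t = 0`. `x3 u = nb (y u) nb⁻¹`, so the
`nb`-conjugate of `pr J` centralises `e` (`cen_J`) and lies in `N'` (`cenN`). `gen_J` for `H = Λ.io (A ⊓ N')` gives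
`A ≤ N'`; `triv_of_le`. -/
theorem le_Y (ad : Adj Λ.toCv Λ'.toCv) (hJ : Λ.pr Λ.D.J ≤ Λ'.N) {e : G} (hA : e ∈ Λ.pr Λ.D.J) (he : e ∈ Λ'.K) :
    ∃ t, Λ.Ov e (Λ.D.y t) := by
  by_contra hc
  obtain ⟨u, t, hu, x, hx, h1⟩ := Λ.D.N1 (B := Λ.io (Λ.pr Λ.D.J ⊓ Λ'.K)) (io_pr inf_le_left)
    (le_normalizer_iff.2 fun j hj m ⟨x, hx, hm⟩ => by
      obtain ⟨a, ha⟩ := Λ.ex_ov j
      exact ⟨_, ⟨conj_mem_of_normalizes le_normalizer (ha.pr hj) hx.1, Λ'.cjK (hJ (ha.pr hj)) hx.2⟩,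
        ha.io.cj hm⟩)
    (fun k => hc (by
      obtain ⟨m, -, hm⟩ := id hA
      obtain ⟨t, rfl⟩ := k m ⟨e, ⟨hA, he⟩, hm.io⟩
      exact ⟨t, hm⟩))
  obtain ⟨b, hb⟩ := Λ.ex_ov (Λ.D.xb (t / u))
  have hbJ : b ∈ Λ.pr Λ.D.J := hb.pr (Λ.D.QA_le_J (Λ.D.mem_QA.2 ⟨_, _, Λ.D.xb_qa _⟩))
  have h2 := hb.cj (h1.ov (Λ.pr_le _ hx.1))
  rw [Λ.D.xb_vv, mul_div_cancel₀ _ hu, (by decide : ∀ t : F4, t + t = 0)] at h2
  have h3 := Λ'.cjK (hJ hbJ) hx.2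
  generalize b * x * b⁻¹ = z at h2 h3
  have ne : Λ.D.x3 u * Λ.D.y 0 ≠ 1 := fun k => hu (Λ.D.vv_inj (u' := 0) (t' := 0) (by
    rw [k, ad_zero Λ.D.x3_add, ad_zero Λ.D.y_add, mul_one])).1
  have z2 := sq_VV (h2.pr (Λ.D.mem_VV.2 ⟨_, _, rfl⟩))
  obtain ⟨n, hn⟩ := Λ.ex_ov Λ.D.nb
  have hs : Λ.Ov (n⁻¹ * z * n) (Λ.D.y u) := by
    have := (hn.inv.mul h2).mul hn
    rwa [ad_zero Λ.D.y_add, mul_one, ← Λ.D.nb_y, show ∀ a b : S, a⁻¹ * (a * b * a⁻¹) * a = b by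
      intro a b; group] at this
  have top : Λ.io (Λ.A ⊓ Λ'.N) = ⊤ := Λ.D.gen_J (fun j hj => by
    obtain ⟨a, ha⟩ := Λ.ex_ov j
    exact ⟨a, ⟨ha.1, hJ (ha.pr hj)⟩, ha.io⟩) fun j hj => by
    obtain ⟨a, ha⟩ := Λ.ex_ov j
    refine ⟨_, ⟨(hn.cj ha).1, Λ'.cenN h3 z2 (h2.io.ne ne) ?_⟩, (hn.cj ha).io⟩
    simpa [mul_assoc] using cm_cj n (cen_J hs (ha.pr hj))
  refine ne (h2.io.inj (Io.ofK (triv_of_le ad (fun a ha => ?_) h2.1 h3)))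
  obtain ⟨m, hm⟩ := Λ.ov_of_mem ha
  obtain ⟨x, hx, h1⟩ : m ∈ Λ.io (Λ.A ⊓ Λ'.N) := top ▸ mem_top _
  rcases (h1.ov hx.1).eq hm with rfl | rfl
  exacts [hx.2, mul_mem hx.2 (hJ (Λ.c_pr _))]

theorem not_le0 (ad : Adj Λ.toCv Λ'.toCv) (hc : Λ'.Io Λ.c (Λ.D.y 1)) : ¬ Λ.pr Λ.D.J ≤ Λ'.N := by
  intro hJ
  have inn : ∀ x ∈ Λ.pr Λ.D.J, Λ'.Inn x := fun x hx => inn_perf Λ.perf_J hJ hx
  have hH : Λ'.io (Λ.pr Λ.D.J) ≤ Λ.D.J := fun m ⟨x, hx, hm⟩ =>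
    (Λ.D.mem_J one_ne_zero).2 (hm.cm hc (Λ.c_comm (Λ.pr_le _ hx)).symm)
  have yV : ∀ t, Λ.D.y t ∈ Λ.D.VV := fun t => Λ.D.mem_VV.2 ⟨0, t, by rw [ad_zero Λ.D.x3_add, one_mul]⟩
  have e4 : Nat.card ↥(Λ.pr Λ.D.J ⊓ Λ'.K) ≤ 4 := by
    have e0 : Λ.pr Λ.D.J ⊓ Λ'.K ⊓ Λ.K = ⊥ := eq_bot_iff.2 fun x hx => by
      obtain ⟨t, ht⟩ := le_Y ad hJ hx.1.1 hx.1.2
      exact ad.dis hx.2 hx.1.2 (P2.of_sq (sq_VV (ht.pr (yV t))))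
    rw [Λ.card_io (E := Λ.pr Λ.D.J ⊓ Λ'.K) fun x hx => Λ.inn_A (Λ.pr_le _ hx.1), e0, card_bot, mul_one,
      ← card_rg Λ.D.y_add fun _ => Λ.D.y_eq_one]
    refine card_le_of_le fun m ⟨x, hx, hm⟩ => ?_
    obtain ⟨t, ht⟩ := le_Y ad hJ hx.1 hx.2
    exact ⟨t, ht.io.inj hm⟩
  have c1 := Λ'.card_io inn
  rw [Λ.card_pr] at c1
  have eH : Λ'.io (Λ.pr Λ.D.J) = Λ.D.J := eq_of_index_le_four Λ.D.J_perf hH (by nlinarith)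
  rw [eH] at c1
  have e2 : Nat.card ↥(Λ.pr Λ.D.J ⊓ Λ'.K) = 2 := (Nat.eq_of_mul_eq_mul_left Nat.card_pos c1).symm
  obtain ⟨⟨s, hs⟩, s1, us⟩ := (Nat.card_eq_two_iff' 1).1 e2
  have us' : ∀ x ∈ Λ.pr Λ.D.J, x ∈ Λ'.K → x = 1 ∨ x = s := fun x h h' => or_iff_not_imp_left.2 fun n =>
    congrArg Subtype.val (us ⟨x, h, h'⟩ fun c => n (congrArg Subtype.val c))
  obtain ⟨d, hd⟩ := le_Y ad hJ hs.1 hs.2
  have d0 : d ≠ 0 := by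
    rintro rfl
    rw [ad_zero Λ.D.y_add] at hd
    rcases hd.one with rfl | rfl
    exacts [s1 rfl, c_not ad hs.2]
  obtain ⟨k, hk⟩ := Λ.ex_kap
  obtain ⟨u, t, rfl⟩ := hk.onto hd d0
  obtain rfl := Λ.D.y_inj ((hk.ov u t).inj hd)
  have QJ : Λ.pr Λ.D.QA ≤ Λ.pr Λ.D.J := pr_mono Λ.D.QA_le_J
  have cQ : Nat.card (Λ.pr Λ.D.QA) = 2 ^ 11 := by rw [Λ.card_pr, Λ.D.card_QA]; norm_num
  have eQ : Λ'.io (Λ.pr Λ.D.QA) = Λ.D.QA := by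
    refine eq_of_le_of_card_ge (Λ.D.O2J ((io_mono QJ).trans hH) (le_normalizer_iff.2 fun j hj m ⟨x, hx, hm⟩ => ?_)
      (pg_of_P2 fun m ⟨x, hx, hm⟩ => ?_)) ?_
    · obtain ⟨a, ha, h⟩ := eH.ge hj
      obtain ⟨j', h1, h2⟩ := ha
      obtain ⟨q, h3, h4⟩ := hx
      exact ⟨_, (h2.cj h4).pr (conj_mem_of_normalizes Λ.D.J_norm h1 h3), h.cj hm⟩
    · obtain ⟨n, e⟩ := pow_two_of_mem (IsPGroup.of_card cQ) hx
      exact ⟨n, (e ▸ hm.pow _).inj (Io.one _)⟩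
    · have := Λ'.card_io fun x hx => inn x (QJ hx)
      have h2 := card_le_of_le (inf_le_inf_right Λ'.K QJ)
      rw [cQ] at this
      rw [Λ.D.card_QA]
      nlinarith
  obtain ⟨x, hx⟩ := Λ.ex_ov (Λ.D.x3 u * Λ.D.y 0)
  obtain ⟨y, hy⟩ := Λ.ex_ov (Λ.D.qa ![0, 0, F4.w * t, 0, 0, 0] * Λ.D.y 0)
  have xQ : x ∈ Λ.pr Λ.D.QA := hx.pr (mul_mem (Λ.D.mem_QA.2 ⟨_, _, Λ.D.x3_qa _⟩) (Λ.D.y_QA _))
  have yQ : y ∈ Λ.pr Λ.D.QA := hy.pr (Λ.D.mem_QA.2 ⟨_, _, rfl⟩)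
  obtain ⟨q, hq⟩ := Λ'.inn_iff.1 (inn x (QJ xQ))
  obtain ⟨q', hq'⟩ := Λ'.inn_iff.1 (inn y (QJ yQ))
  have h1 := (hq.cj hq').mul hq'.inv
  rw [hk.eq _ _ _ _ _ _ hx hy] at h1
  change Λ'.Io (k u (F4.w * t)) _ at h1
  obtain ⟨q'', h2, h3, h4⟩ := GM.comm_Q Λ.D (eQ.le ⟨x, xQ, hq⟩) (eQ.le ⟨y, yQ, hq'⟩) fun e => by
    have o := hk.ov u (F4.w * t)
    rcases us' _ (o.pr (Λ.D.QA_le_J (Λ.D.y_QA _))) (Io.toK (e ▸ h1)) with c | c <;> rw [c] at o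
    · have := Λ.D.y_eq_one (o.inj (ov_one Λ))
      revert this d0; generalize u = u; generalize t = t; revert u t; decide
    · have := Λ.D.y_inj (o.inj hd)
      revert this d0; generalize u = u; generalize t = t; revert u t; decide
  obtain ⟨y', ⟨_, h5, h6⟩, h7⟩ := eQ.ge h2
  obtain ⟨z, t', rfl⟩ := Λ.D.mem_QA.1 h5
  have h8 := (hq.cj h7).mul h7.inv
  rw [hk.eq _ _ _ _ _ _ hx h6] at h8
  have : z 2 = 0 ∨ z 2 = t ∨ z 2 = F4.w * t ∨ z 2 = t + F4.w * t := by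
    have := right_ne_zero_of_mul d0
    revert this; generalize z 2 = a; generalize t = t; revert a t; decide
  rcases this with e | e | e | e <;> rw [e] at h8
  · rw [ad_zero (hk.add2 u)] at h8
    exact h3 (h8.inj (Io.one _))
  · exact h3 (h8.inj (Io.ofK hs.2))
  · exact h4 (h8.inj h1)
  · rw [hk.add2] at h8
    exact h4 ((h8.inj ((Io.ofK hs.2).mul h1)).trans (one_mul _))

/-- PROOF. `hD`: the two data agree. By `c_long` (`perf_J`) and a twist of `Λ'`, `c` acts on `A'` as `y 1`; so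
`H = Λ'.io (pr J) ≤ J`. `E = pr J ⊓ K'` has order at most 4 (`le_Y`, `Adj.dis`), and `2 |J| = |H| |E|` (`card_pr`, `card_io`).
`eq_of_index_le_four`, `J_perf` give `H = J`, so `|E| = 2`, `E = {1, s}`, `s` over `y d`, `d ≠ 0`, `s = k u t₀` (`Kap.onto`).
`Λ'.io (pr QA)` is a normal 2-subgroup of `J` of order `2 · 1024 / 2`, hence equal to `QA` (`O2J`, `card_QA`). Let `x` lie over
`x3 u`, `y` over `xb (w t₀)`: `k u (w t₀) ∉ K'`. `GM.comm_Q` gives `y'` over `qa z y t'` such that the image of `k u (z 2)`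
is neither trivial nor the image of `k u (w t₀)`; but `z 2 ∈ {0, t₀, w t₀, t₀ + w t₀}` (`add2`). -/
theorem not_le (ad : Adj Λ.toCv Λ'.toCv) (hD : Λ'.D = Λ.D) : ¬ Λ.pr Λ.D.J ≤ Λ'.N := by
  intro hJ
  obtain ⟨m, hm, h⟩ := c_long ad Λ.perf_J (Λ.pr_le _) hJ (Λ.c_pr _)
  obtain ⟨a, rfl⟩ := isConj_iff.1 hm
  obtain ⟨b, hb⟩ := Λ'.ex_ov a
  refine not_le0 (Λ' := Λ'.cj b) (adj_tw ad hb.io.1) (io_cj.2 ?_) fun x hx => (N_cj rfl).2 ?_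
  · simpa [mul_assoc, hD] using (hb.io.inv.mul h).mul hb.io
  · exact mul_mem (mul_mem (inv_mem hb.io.1) (hJ hx)) hb.io.1

theorem cen_le (ad : Adj Λ.toCv Λ'.toCv) {t : G} (ht : t ∈ Λ'.K) (t2 : t * t = 1) {a m : S}
    (h : Λ.Io t (a * m * a⁻¹)) (m1 : m ≠ 1) {X : Subgroup S} (hX : ∀ s, Λ.Ov s m → ∀ j ∈ Λ.pr X, j * s = s * j) :
    ∃ g, Adj Λ.toCv (Λ'.cj g).toCv ∧ Λ.pr X ≤ (Λ'.cj g).N := by
  obtain ⟨b, hb⟩ := Λ.ex_ov a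
  have h1 : Λ.Io (b⁻¹ * t * b⁻¹⁻¹) m := by simpa [mul_assoc] using hb.io.inv.cj h
  refine ⟨b⁻¹, adj_mv ad hb.io.inv.1, fun j hj => (Λ'.cj b⁻¹).cenN (cj_K ht) (sq_cj _ t2) (h1.ne m1) ?_⟩
  obtain ⟨s, hs, k, hk, e⟩ := h1.dec
  rw [e, ← mul_assoc, hX s hs j hj, mul_assoc, mul_assoc, Λ.comm hk (Λ.pr_le _ hj)]

/-- PROOF. After replacing `Λ'` by `Λ'.cj a`, `t` acts as `y 1`: `t = s k`; `pr J` centralises `t` (`cen_J`), `cenN`,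
`not_le`. -/
theorem not_long (ad : Adj Λ.toCv Λ'.toCv) (hD : Λ'.D = Λ.D) {t : G} (ht : t ∈ Λ'.K) (t2 : t * t = 1) {m : S}
    (hm : Λ.D.Long m) (h : Λ.Io t m) : False := by
  obtain ⟨a, rfl⟩ := isConj_iff.1 hm
  exact not_le (Λ' := Λ'.cj _) (cen_le ad ht t2 h Λ.D.y_ne fun s hs j hj => cen_J hs hj).choose_spec.1 hD
    (cen_le ad ht t2 h Λ.D.y_ne fun s hs j hj => cen_J hs hj).choose_spec.2

/-- PROOF. `t` acts as an involution; long: `not_long`. Short: after replacing `Λ'` by `Λ'.cj a`, `t` acts as `x2 1`, `pr J2`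
centralises `t` (`cen_J2`) and lies in `N'`; `c_long` (`perf_J2`) and `not_long` for the exchanged pair and the involution
`c`. -/
theorem not_inn (ad : Adj Λ.toCv Λ'.toCv) (hD : Λ'.D = Λ.D) {t : G} (ht : t ∈ Λ'.K) (t2 : t * t = 1) (t1 : t ≠ 1) :
    ¬ Λ.Inn t := by
  intro hi
  obtain ⟨m, hm⟩ := Λ.inn_iff.1 hi
  rcases Λ.D.cls m (hm.sq t2) fun e => t1 (ad.dis (Io.toK (e ▸ hm)) ht (P2.of_sq t2)) with k | k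
  · exact not_long ad hD ht t2 k hm
  · obtain ⟨a, rfl⟩ := isConj_iff.1 k
    obtain ⟨g, ad', hN⟩ := cen_le ad ht t2 hm (fun e => one_ne_zero (Λ.D.x2_eq_one e))
      fun s hs j hj => cen_J2 hs hj
    obtain ⟨n, h1, h2⟩ := c_long ad' Λ.perf_J2 (Λ.pr_le _) hN (Λ.c_pr _)
    exact not_long ad'.symm hD.symm Λ.cK Λ.c2 h1 h2

theorem main0 (H : Λ.H) (ad : Adj Λ.toCv Λ'.toCv) {t : G} (ht : t ∈ Λ'.K) (hN : t ∈ Λ.N) (t2 : t * t = 1)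
    (t1 : t ≠ 1) (hU : ∀ u ∈ GM.U Λ.D, Λ.π t u ∈ GM.U Λ.D) : False := by
  obtain ⟨hV, g₁, h₁, g₂, h₂, n₁, n₂, n₃⟩ := GM.four Λ.D (Λ.π_sq hN t2)
    (fun c => t1 (H.out ad ht (P2.of_sq t2) ⟨hN, Λ.hL ▸ c⟩)) hU
  have key : ∀ x g, g ∈ Λ.D.VV → Λ.Ov x g → g * Λ.π t g ≠ 1 → t * x * t⁻¹ ∈ Λ.pr Λ.D.VV ∧
      x * (t * x * t⁻¹) ∈ Λ'.N ∧ ¬ Λ'.Inn (x * (t * x * t⁻¹)) := fun x g hg hx n => by
    have o := hx.mul (hx.cjN hN)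
    exact ⟨(hx.cjN hN).pr (hV g hg), (H.key ad ht hN t2 t1 hx.1 (by rw [inv_of_sq (sq_VV (hx.pr hg))])
      (sq_VV (o.pr (mul_mem hg (hV g hg)))) (o.io.ne n)).2⟩
  obtain ⟨x, hx⟩ := Λ.ex_ov g₁
  obtain ⟨y, hy⟩ := Λ.ex_ov g₂
  obtain ⟨a1, a2, a3⟩ := key x _ h₁ hx n₁
  obtain ⟨-, b2, b3⟩ := key y _ h₂ hy n₂
  obtain ⟨-, c2, c3⟩ := key _ _ (mul_mem h₁ h₂) (hx.mul hy) n₃
  have cm : y * (t * x * t⁻¹) = t * x * t⁻¹ * y := by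
    have y' := hy.pr h₂
    rw [← inv_of_sq (sq_VV (mul_mem y' a1)), mul_inv_rev, inv_of_sq (sq_VV y'), inv_of_sq (sq_VV a1)]
  have e : x * y * (t * (x * y) * t⁻¹) = x * (t * x * t⁻¹) * (y * (t * y * t⁻¹)) := by
    rw [cj_mul', mul_assoc, ← mul_assoc y, cm]; group
  refine c3 ⟨c2, ?_⟩
  rw [e, Λ'.π_mul _ a2 _ b2, Λ'.hL]
  exact GM.out2 Λ'.D (fun c => a3 ⟨a2, Λ'.hL ▸ c⟩) fun c => b3 ⟨b2, Λ'.hL ▸ c⟩

/-- PROOF. (H) holds (`exists_inn`, `not_inn` for `Λ.cj g`). Let `t' = g t g⁻¹ ∈ K' ⊓ N`, `Λ' = Λ.cj g`; `θ = π t'` is an outer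
involution (`H.out`). By `GM.frame`, after conjugating `t'`, `Λ'` by a lift of `m⁻¹`, `θ` normalises `U`. `GM.four` gives
`g₁`, `g₂`; for lifts `x₁`, `x₂` in the elementary abelian group `pr VV` (`sq_VV`, `Ov.cjN`) the elements
`a_i = x_i (t' x_i⁻¹ t'⁻¹)` and `a₁ a₂` are key elements (`H.key`): all three are outer on `A'`, against `GM.out2`. -/
theorem main (Λ : CG G S) (ex : ∃ g, g ∉ Λ.N ∧ ∃ t ∈ Λ.K, t * t = 1 ∧ t ≠ 1 ∧ g * t * g⁻¹ ∈ Λ.N) : False := by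
  have H : Λ.H := by
    by_contra c
    obtain ⟨g, hg, t, ht, t2, t1, hi⟩ := exists_inn c
    exact not_inn (Λ' := Λ.cj g) (adj_cj hg) rfl ht t2 t1 hi
  obtain ⟨g, hg, t, ht, t2, t1, hN⟩ := ex
  obtain ⟨m, hm⟩ := GM.frame Λ.D (Λ.π_sq hN (sq_cj g t2))
  obtain ⟨a, ha⟩ := Λ.ex_ov m
  have a' := ha.io.inv
  refine main0 (Λ' := (Λ.cj g).cj a⁻¹) H (adj_mv (Λ' := Λ.cj g) (adj_cj hg) a'.1) (cj_K (cj_K ht))
    (mul_mem (mul_mem a'.1 hN) (inv_mem a'.1)) (sq_cj _ (sq_cj g t2)) (cj_ne _ (cj_ne g t1)) fun u hu => ?_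
  rw [Λ.π_cj a'.1 hN, a'.2]
  simpa using hm u hu

end CL.C41.CG
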