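import Cfsg.Agent.INV.CO1.Bas2
import Cfsg.Agent.INV.C41.Defs

/-! # Facts about `S = G₂(4)` and its automorphisms (API: `INV/CO1/Defs`, `Bas1`, `Bas2`, `Bas3`) -/

set_option autoImplicit false
set_option linter.unusedSectionVars false

namespace CL.C41.GM

open Subgroup CL.MSS CL.Co1S

universe v
variable {S : Type v} [Group S] [Finite S] (D : Dat S)

/-- the inner automorphisms -/
abbrev In (S : Type v) [Group S] : Subgroup (MulAut S) := (MulAut.conj : S →* MulAut S).range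

include D in
/-- PROOF. `D.simple`; `S` is not abelian (`r_3b 1 1`, `y_ne`). -/
theorem conj_inj : Function.Injective (MulAut.conj : S → MulAut S) := by
  have := D.simple
  refine (injective_iff_map_eq_one _).2 fun a ha => ?_
  have c : a ∈ center S := mem_center_iff.2 fun g => by
    have := congrArg (fun f : MulAut S => f g) ha
    simp only [MulAut.conj_apply, MulAut.one_apply] at this
    rw [← mul_inv_eq_iff_eq_mul.1 this]
  rcases (inferInstance : (center S).Normal).eq_bot_or_eq_top with h | h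
  · exact mem_bot.1 (h ▸ c)
  · have e := D.r_3b 1 1
    rw [mem_center_iff.1 (h ▸ mem_top (D.xb 1)) (D.x3 1), left_eq_mul, mul_one] at e
    exact absurd e D.y_ne

include D in
/-- `|Out S| ≤ 2`. PROOF. `D.aut`; `φ²` fixes the generators (`D.gen`, `t ^ 4 = t`), so `φ² = 1`. -/
theorem out2 {θ θ' : MulAut S} (h : θ ∉ In S) (h' : θ' ∉ In S) : θ * θ' ∈ In S := by
  have f : ∀ g, D.φ (D.φ g) = g := fun g => by
    have p : ∀ t : F4, (t ^ 2) ^ 2 = t := by decide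
    refine (closure_le ((D.φ.trans D.φ).toMonoidHom.eqLocus (MonoidHom.id S))).2 ?_ (D.gen.ge (mem_top g))
    rintro _ (((⟨t, rfl⟩ | ⟨t, rfl⟩) | ⟨t, rfl⟩) | ⟨t, rfl⟩) <;> change D.φ (D.φ _) = _
    exacts [by rw [D.φ_a, D.φ_a, p]; rfl, by rw [D.φ_ma, D.φ_ma, p]; rfl, by rw [D.φ_b, D.φ_b, p]; rfl,
      by rw [D.φ_mb, D.φ_mb, p]; rfl]
  obtain ⟨a, e | e⟩ := D.aut θ
  · exact absurd ⟨a, MulEquiv.ext fun g => (e g).symm⟩ h
  obtain ⟨b, e' | e'⟩ := D.aut θ'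
  · exact absurd ⟨b, MulEquiv.ext fun g => (e' g).symm⟩ h'
  refine ⟨a * D.φ b, MulEquiv.ext fun g => ?_⟩
  rw [MulAut.mul_apply, e', e, MulAut.conj_apply, map_mul, map_mul, map_inv, f]; group

include D in
/-- PROOF. `In S` is normal and the quotient has at most two elements (`out2`). -/
theorem comm_le : ⁅(⊤ : Subgroup (MulAut S)), ⊤⁆ ≤ In S := commutator_le.2 fun a _ b _ => by
  have n : ∀ θ : MulAut S, ∀ c ∈ In S, θ * c * θ⁻¹ ∈ In S := by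
    rintro θ _ ⟨m, rfl⟩
    exact ⟨θ m, MulEquiv.ext fun g => by simp⟩
  rw [commutatorElement_def]
  by_cases ha : a ∈ In S
  · rw [mul_assoc, mul_assoc, ← mul_assoc b]; exact mul_mem ha (n _ _ (inv_mem ha))
  by_cases hb : b ∈ In S
  · exact mul_mem (n _ _ hb) (inv_mem hb)
  rw [mul_assoc]
  exact mul_mem (out2 D ha hb) (out2 D (mt inv_mem_iff.1 ha) (mt inv_mem_iff.1 hb))

/-- the Sylow 2-subgroup `Q_A X_a` -/
def U : Subgroup S := D.QA ⊔ rg D.xa D.xa_add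

/-- PROOF. `X_a ≤ L` normalises `Q_A` (`L_norm`); `mem_QA`. -/
theorem mem_U {g : S} : g ∈ U D ↔ ∃ x t s, g = D.qa x * D.y t * D.xa s := by
  rw [U, mem_sup_of_normalizes_left (le_trans (by rintro _ ⟨s, rfl⟩; exact D.xa_L s) D.L_norm)]
  refine ⟨?_, fun ⟨x, t, s, e⟩ => ⟨_, D.mem_QA.2 ⟨x, t, rfl⟩, _, ⟨s, rfl⟩, e.symm⟩⟩
  rintro ⟨_, hq, _, ⟨s, rfl⟩, rfl⟩
  obtain ⟨x, t, rfl⟩ := D.mem_QA.1 hq
  exact ⟨x, t, s, rfl⟩

/-- PROOF. `qa_comm`, `qa_inj`, `CQ`: an element centralising `U` lies in `J` (it commutes with `y 1`), in `Q_A` by `CQ`,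
and is central in `Q_A`. -/
theorem cen_U {g : S} (h : ∀ u ∈ U D, g * u = u * g) : ∃ t, g = D.y t := by
  have c : ∀ x, Commute g (D.qa x) := fun x => h _ (mem_sup_left (D.qa_QA x))
  obtain ⟨x, t, rfl⟩ := D.mem_QA.1 (D.CQ (mem_centralizer_singleton_iff.2 (h _ (mem_sup_left (D.y_QA 1)))) fun x =>
    ⟨0, by rw [(c x).eq, mul_inv_cancel_right, ad_zero D.y_add, mul_one]⟩)
  have k : ∀ z : V, x 2 * z 5 + x 5 * z 2 + x 3 * z 4 + x 4 * z 3 = 0 := fun z => D.y_eq_one (by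
    have := ((c z).mul_left (D.qa_y z t).symm.inv_left).eq
    rwa [mul_inv_cancel_right, D.qa_comm, mul_eq_left] at this)
  exact ⟨t, by rw [D.qa_congr (x' := 0) (by simpa using k ![0, 0, 0, 0, 0, 1]) (by simpa using k ![0, 0, 0, 0, 1, 0])
    (by simpa using k ![0, 0, 0, 1, 0, 0]) (by simpa using k ![0, 0, 1, 0, 0, 0]), D.qa_zero, one_mul]⟩

/-- PROOF. `U` is a 2-group. Let `P ≥ U` be a 2-group; a central involution of `P` is `y t` (`cen_U`), so `P ≤ J` (`mem_J`).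
For `j ∈ P` take `σ` from `J_act`; all `pa s * σ` belong to the 2-elements `xa s * j` (`xa_qa`, `Ac.mul`, `Ac.pow`, `Ac.uniq`),
so they are 2-elements of `A₅`, which forces `σ = pa s` (`A5.all` and `decide`; elements of `A₅` have order `1, 2, 3, 5`).
Then `(xa s)⁻¹ * j ∈ Q_A` (`CQ`). -/
theorem sylU : SylIn 2 (U D) ⊤ := by
  have : Fact (Nat.Prime 2) := ⟨Nat.prime_two⟩
  refine ⟨le_top, isPGroup_sup_of_normalizes' D.pQA (pg_of_P2 ?_)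
    (le_trans (by rintro _ ⟨s, rfl⟩; exact D.xa_L s) D.L_norm), fun P hP h1 _ => le_antisymm (fun j hj => ?_) h1⟩
  · rintro _ ⟨s, rfl⟩; exact P2.of_sq (ad_sq D.xa_add s)
  have y1 : D.y 1 ∈ P := h1 (mem_sup_left (D.y_QA 1))
  have : Nontrivial P := ⟨⟨⟨_, y1⟩, 1, fun e => D.y_ne (congrArg Subtype.val e)⟩⟩
  have := hP.center_nontrivial
  obtain ⟨⟨z, hz⟩, z1⟩ := exists_ne (1 : center P)
  have zc : ∀ u ∈ P, u * z = z * u := fun u hu => congrArg Subtype.val (mem_center_iff.1 hz ⟨u, hu⟩)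
  obtain ⟨t, ht⟩ := cen_U D (g := z) fun u hu => (zc u (h1 hu)).symm
  have t0 : t ≠ 0 := fun e => z1 (Subtype.ext (Subtype.ext (by rw [e, ad_zero D.y_add] at ht; exact ht)))
  have J : ∀ u ∈ P, u ∈ D.J := fun u hu => (D.mem_J t0).2 (ht ▸ zc u hu)
  have xa : ∀ s, D.xa s ∈ P := fun s => h1 (mem_sup_right ⟨s, rfl⟩)
  obtain ⟨σ, s1, s2, -⟩ := D.J_act (J j hj)
  have k : ∀ b ∈ P, ∀ σ, A5 σ → D.Ac b σ → σ * σ = 1 := fun b hb σ h1 h2 => by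
    obtain ⟨n, e⟩ := isPGroup_iff_forall_mem.1 hP b hb
    obtain ⟨h3, h4⟩ := h2.pow (J b hb) h1 (2 ^ n)
    exact h1.two (h4.eq (e ▸ D.ac_Q (one_mem _)) (pow_mem (J b hb) _) h3 A5.one)
  have a : ∀ s, D.Ac (D.xa s * j) (pa s * σ) := fun s => Dat.Ac.mul (D.xa_qa s) (J _ (xa s)) s2
  obtain ⟨s, e⟩ := A5.all (p := fun σ => (∀ s, pa s * σ * (pa s * σ) = 1) → ∃ s, pa s * σ = 1) (by decide +kernel)
    (by decide +kernel) s1 fun s => k _ (mul_mem (xa s) hj) _ ((pa_mem s).mul s1) (a s)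
  have := D.CQ (J _ (mul_mem (xa s) hj)) fun x => by simpa only [e, P_one] using a s x
  exact (mul_mem_cancel_left (show D.xa s ∈ U D from mem_sup_right ⟨s, rfl⟩)).1 (mem_sup_left this)

/-- PROOF. Otherwise `zpowers (x2 1)` is a normal 2-subgroup of `J2` (`J2_x2`), so `x2 1 ∈ VV` (`O2J2`), against `qa_inj`. -/
theorem x2_not : D.x2 1 ∉ D.J2 := fun h => by
  obtain ⟨u, t, e⟩ := D.mem_VV.1 (D.O2J2 (zpowers_le.2 h) (fun j hj => centralizer_le_normalizer _ (by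
    rintro _ ⟨n, rfl⟩; exact ((D.J2_x2 hj 1).zpow_right n).symm))
    (isPGroup_zpowers (k := 1) (by rw [pow_one, pow_two, ad_sq D.x2_add])) (mem_zpowers _))
  rw [D.x2_qa, D.x3_qa, ad_zero D.y_add, mul_one (D.qa ![0, 0, 0, 0, 0, u]), ← ad_zero D.y_add] at e
  exact absurd (D.qa_inj e).2.2.1 (by simp)

/-- PROOF. `q = qa x y t`, `q' = qa x' y t'`; the commutator is `y (bf)`, `F₄`-linear in `x'` (`qa_comm`); take
`q'' = qa (w • x')`. -/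
theorem comm_Q {q q' : S} (hq : q ∈ D.QA) (hq' : q' ∈ D.QA) (h : q * q' * q⁻¹ * q'⁻¹ ≠ 1) :
    ∃ q'' ∈ D.QA, q * q'' * q⁻¹ * q''⁻¹ ≠ 1 ∧ q * q'' * q⁻¹ * q''⁻¹ ≠ q * q' * q⁻¹ * q'⁻¹ := by
  obtain ⟨x, t, rfl⟩ := D.mem_QA.1 hq
  have k : ∀ x' t', D.qa x * D.y t * (D.qa x' * D.y t') * (D.qa x * D.y t)⁻¹ * (D.qa x' * D.y t')⁻¹ =
      D.y (x 2 * x' 5 + x 5 * x' 2 + x 3 * x' 4 + x 4 * x' 3) := fun x' t' => by
    rw [mul_inv_eq_iff_eq_mul, mul_inv_eq_iff_eq_mul, D.qy_mul, mul_assoc, D.qy_mul, ← (D.qa_y _ _).left_comm,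
      ← D.y_add, add_comm x']
    congr 2
    linear_combination -f4_add_self (x' 5 * x 2 + x' 4 * x 3)
  obtain ⟨x', t', rfl⟩ := D.mem_QA.1 hq'
  refine ⟨D.qa (F4.w • x') * D.y 0, D.mem_QA.2 ⟨_, _, rfl⟩, ?_⟩
  rw [k] at h ⊢
  rw [k, show x 2 * (F4.w • x') 5 + x 5 * (F4.w • x') 2 + x 3 * (F4.w • x') 4 + x 4 * (F4.w • x') 3 =
    F4.w * (x 2 * x' 5 + x 5 * x' 2 + x 3 * x' 4 + x 4 * x' 3) by simp only [Pi.smul_apply, smul_eq_mul]; ring]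
  generalize x 2 * x' 5 + x 5 * x' 2 + x 3 * x' 4 + x 4 * x' 3 = c at h
  have c0 : c ≠ 0 := fun e => h (e ▸ ad_zero D.y_add)
  exact ⟨fun e => c0 ((by decide : ∀ c : F4, F4.w * c = 0 → c = 0) c (D.y_eq_one e)),
    fun e => c0 ((by decide : ∀ c : F4, F4.w * c = c → c = 0) c (D.y_inj e))⟩

/-- PROOF. `θ` lies in a Sylow 2-subgroup `P` of `MulAut S`; `P.comap conj` is a Sylow 2-subgroup of `S` (`In S` is normal)
which is `θ`-invariant and conjugate to `U` (`sylU`). -/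
theorem frame {θ : MulAut S} (h : θ * θ = 1) : ∃ m : S, ∀ u ∈ U D, m⁻¹ * θ (m * u * m⁻¹) * m ∈ U D := by
  have : Fact (Nat.Prime 2) := ⟨Nat.prime_two⟩
  obtain ⟨T, hT⟩ := (isPGroup_zpowers (p := 2) (k := 1) (x := θ)
    (by rw [pow_one, pow_two, h])).nonempty_fixed_point_of_prime_not_dvd_card (Sylow 2 S) (not_dvd_card_sylow 2 S)
  obtain ⟨m, -, e⟩ := (sylU D).exists_conj (sylIn_top T)
  refine ⟨m, fun u hu => mem_cj.1 ?_⟩
  have f := congrArg (fun T : Sylow 2 S => (T : Subgroup S)) (hT ⟨θ, mem_zpowers θ⟩)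
  rw [e, ← f]
  exact smul_mem_pointwise_smul _ θ _ (e ▸ conj_mem_cj hu)

/-- PROOF. `θ` leaves `Y = Z(U)` invariant (`cen_U`) and `VV = {g ∈ U | ∀ u ∈ U, [g, u] ∈ Y}` (for `g = qa x y t xa s` commute
with `xb 1`, then with `xa 1`, `xa w`: `a_b`, `a_1`, `a_2`, `qa_inj`). `θ` does not centralise `Y` (`D.aut`, `not_φ`): take
`g₁ = y t` with `θ g₁ ≠ g₁`; the involution `θ` fixes some `y t₀ ≠ 1` (`g₁ θ g₁`). Suppose `θ (x3 u) ∈ x3 u Y` for all `u`. Apply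
`θ` to `[x3 u, xb 1] = y u` (`r_3b`): with `θ (xb 1) = qa x y t xa s` we get `θ (y u) = y (u * x 2)`; `u = t₀` gives `x 2 = 1`, so
`θ` centralises `Y`. Hence `g₂ = x3 u` with `g₂ θ g₂ ∉ Y` exists. -/
theorem four {θ : MulAut S} (h : θ * θ = 1) (ho : θ ∉ In S) (hU : ∀ u ∈ U D, θ u ∈ U D) :
    (∀ g ∈ D.VV, θ g ∈ D.VV) ∧ ∃ g₁ ∈ D.VV, ∃ g₂ ∈ D.VV, g₁ * θ g₁ ≠ 1 ∧ g₂ * θ g₂ ≠ 1 ∧
      g₁ * g₂ * θ (g₁ * g₂) ≠ 1 := by
  have hθ : ∀ g, θ (θ g) = g := fun g => by rw [← MulAut.mul_apply, h, MulAut.one_apply]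
  have UJ : U D ≤ D.J := sup_le D.QA_le_J (by rintro _ ⟨s, rfl⟩; exact D.L_le_J (D.xa_L s))
  have QU : D.QA ≤ U D := le_sup_left
  have hY : ∀ t, ∃ t', θ (D.y t) = D.y t' := fun t => cen_U D fun u hu => by
    rw [← hθ u, ← map_mul, ← map_mul, (D.J_y (UJ (hU u hu)) t).eq]
  have c3 : ∀ u ∈ U D, ∃ a, ∀ c, D.x3 c * u = u * D.x3 c * D.y (c * a) := fun u hu => by
    obtain ⟨x, t, s, rfl⟩ := (mem_U D).1 hu
    refine ⟨x 2, fun c => ?_⟩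
    have := D.qa_comm ![0, 0, 0, 0, 0, c] x
    rw [← mul_one (D.qa ![0, 0, 0, 0, 0, c]), ← ad_zero D.y_add, ← D.x3_qa] at this
    simp only [Matrix.cons_val, zero_mul, zero_add, add_zero] at this
    rw [← mul_assoc, ← mul_assoc, this]
    simp only [mul_assoc, (D.c_a3 s c).left_comm, (D.c_y3 t c).left_comm, (D.c_ya (c * x 2) s).symm.eq,
      (ad_comm D.y_add t _).left_comm]
  have v1 : ∀ g ∈ D.VV, g ∈ U D ∧ ∀ u ∈ U D, ∃ t, g * u = u * g * D.y t := fun g hg => by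
    obtain ⟨c, t, rfl⟩ := D.mem_VV.1 hg
    refine ⟨QU (D.x3_qa c ▸ mul_mem (mul_mem (D.qa_QA _) (D.y_QA _)) (D.y_QA _)), fun u hu => ?_⟩
    obtain ⟨a, e⟩ := c3 u hu
    exact ⟨c * a, by rw [mul_assoc, ← (D.J_y (UJ hu) t).eq, ← mul_assoc, e, mul_assoc, (ad_comm D.y_add _ t).eq]; group⟩
  have v2 : ∀ g ∈ U D, (∀ u ∈ U D, ∃ t, g * u = u * g * D.y t) → g ∈ D.VV := fun g hg k => by
    obtain ⟨x, t, rfl⟩ := D.mem_QA.1 (D.CQ (UJ hg) fun x => (k _ (QU (D.qa_QA x))).imp fun t e => by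
      rw [e, mul_assoc _ g, (D.J_y (UJ hg) t).eq]; group)
    have a : ∀ s, x 3 + s * x 2 = x 3 ∧ x 5 + s ^ 3 * x 2 + s ^ 2 * x 3 + s * x 4 = x 5 := fun s => by
      obtain ⟨r, e⟩ := k _ (show D.xa s ∈ U D from mem_sup_right ⟨s, rfl⟩)
      obtain ⟨r', e'⟩ := D.xa_qa s x
      have e1 : D.qa x * D.y t = D.qa (P (pa s) x) * D.y (r' + (t + r)) := mul_right_cancel (b := D.xa s) (by
        rw [e, ← mul_assoc, mul_inv_eq_iff_eq_mul.1 e', D.y_add, D.y_add]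
        simp only [mul_assoc, (D.c_ya r s).eq, (D.c_ya t s).left_comm])
      obtain ⟨-, e3, -, e5, -⟩ := D.qa_inj e1
      simp only [P_pa, Matrix.cons_val] at e3 e5
      exact ⟨e3.symm, e5.symm⟩
    obtain ⟨h2, h3, h4⟩ := (by decide : ∀ a b c d : F4, b + 1 * a = b → d + 1 ^ 3 * a + 1 ^ 2 * b + 1 * c = d →
      d + F4.w ^ 3 * a + F4.w ^ 2 * b + F4.w * c = d → a = 0 ∧ b = 0 ∧ c = 0) _ _ _ _ (a 1).1 (a 1).2 (a F4.w).2
    exact D.mem_VV.2 ⟨x 5, t, by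
      rw [Dat.qa, h2, h3, h4, ad_zero D.xb_add, ad_zero D.x1_add, ad_zero D.x2_add, mul_one, mul_one, one_mul]⟩
  have hV : ∀ g ∈ D.VV, θ g ∈ D.VV := fun g hg => v2 _ (hU _ (v1 g hg).1) fun u hu => by
    obtain ⟨t, e⟩ := (v1 g hg).2 _ (hU u hu)
    obtain ⟨t', e'⟩ := hY t
    exact ⟨t', by rw [← hθ u, ← map_mul, e, map_mul, map_mul, e']⟩
  obtain ⟨t1, n1⟩ : ∃ t, θ (D.y t) ≠ D.y t := by
    by_contra! c
    obtain ⟨a, e | e⟩ := D.aut θ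
    exacts [ho ⟨a, MulEquiv.ext fun g => (e g).symm⟩, D.not_φ a fun t => (e _).symm.trans (c t)]
  obtain ⟨t2, e2⟩ := hY t1
  have n2 : t1 + t2 ≠ 0 := fun e => n1 (by rw [e2, (by decide : ∀ a b : F4, a + b = 0 → b = a) _ _ e])
  obtain ⟨u, nu⟩ : ∃ u, ¬ ∃ t, θ (D.x3 u) = D.x3 u * D.y t := by
    by_contra! c
    have m : θ (D.xb 1) ∈ U D := hU _ (QU (D.xb_qa 1 ▸ mul_mem (D.qa_QA _) (D.y_QA _)))
    obtain ⟨a, k⟩ := c3 _ m
    have k' : ∀ u, θ (D.y u) = D.y (u * a) := fun u => by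
      obtain ⟨t, e⟩ := c u
      have := congrArg θ (D.r_3b u 1)
      rw [map_mul, map_mul, map_mul, e, mul_one, mul_assoc, ← (D.J_y (UJ m) t).eq, ← mul_assoc, k, mul_assoc,
        (ad_comm D.y_add _ t).eq, ← mul_assoc, ← mul_assoc, mul_right_inj] at this
      exact this.symm
    have e3 : θ (D.y (t1 + t2)) = D.y (t1 + t2) := by
      rw [D.y_add, map_mul, ← e2, hθ, e2, (ad_comm D.y_add t1 t2).eq]
    rw [k'] at e3 n1
    rw [(mul_eq_left₀ n2).1 (D.y_inj e3), mul_one] at n1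
    exact n1 rfl
  have m3 : D.x3 u ∈ D.VV := subset_closure (.inl ⟨u, rfl⟩)
  obtain ⟨u', t', e'⟩ := D.mem_VV.1 (hV _ m3)
  have ne : ∀ t, D.x3 (u + u') * D.y t ≠ 1 := fun t e => nu ⟨t', by
    rw [e', (by decide : ∀ a b : F4, a + b = 0 → b = a) u u' (D.vv_inj (t := t) (u' := 0) (t' := 0) (by
      rw [e, ad_zero D.x3_add, ad_zero D.y_add, mul_one])).1]⟩
  refine ⟨hV, D.y t1, subset_closure (.inr ⟨_, rfl⟩), D.x3 u, m3, fun e => n2 (D.y_eq_one (by rwa [D.y_add, ← e2])),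
    by rw [e', ← mul_assoc, ← D.x3_add]; exact ne _, ?_⟩
  rw [map_mul, e', e2]
  convert ne (t1 + t2 + t') using 1
  simp only [D.x3_add, D.y_add, mul_assoc, (D.c_y3 _ _).left_comm]

end CL.C41.GM
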