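import Cfsg.Agent.INV.C41.GD
import Cfsg.Agent.INV.SZ4.Co

/-! # The structure of `2·G₂(4)` -/

set_option autoImplicit false
set_option maxHeartbeats 200000
set_option linter.unusedSectionVars false

namespace CL.C41.CG

open Subgroup CL.MSS CL.SZ4 CL.Co1S

universe u v
variable {G : Type u} {S : Type v} [Group G] [Group S] [Finite G] [Finite S] (Λ : CG G S)

variable {Λ} in
theorem cen_perf {X : Subgroup S} (hX : X ≤ ⁅X, X⁆) {x : G} {m : S} (hx : Λ.Ov x m) (h : ∀ g ∈ X, g * m = m * g)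
    {j : G} (hj : j ∈ Λ.pr X) : j * x = x * j := by
  obtain ⟨g, hg, hj⟩ := hj
  have k : ∀ {a : G} {g : S}, g ∈ X → Λ.Ov a g → ∃ e, (∀ b ∈ Λ.A, e * b = b * e) ∧ e ∈ Λ.A ∧
      a * x * a⁻¹ = x * e := fun {a g} hg ha => by
    have := ha.cj hx
    rw [h g hg, mul_inv_cancel_right] at this
    rcases hx.eq this with e | e
    · exact ⟨1, fun b _ => by simp, one_mem _, by simpa using e⟩
    · exact ⟨Λ.c, fun b => Λ.c_comm, Λ.cA, e⟩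
  have hle : ⁅X, X⁆ ≤ Λ.io (Λ.A ⊓ centralizer {x}) := commutator_le.2 fun g hg g' hg' => by
    obtain ⟨a, ha⟩ := Λ.ex_ov g
    obtain ⟨b, hb⟩ := Λ.ex_ov g'
    have h1 := (ha.cj hb).mul hb.inv
    refine ⟨_, mem_inf.2 ⟨h1.1, mem_centralizer_singleton_iff.2 (comm_of_cj ?_)⟩, h1.io⟩
    obtain ⟨e, e1, e2, e3⟩ := k (inv_mem hg) ha.inv
    obtain ⟨f, f1, f2, f3⟩ := k (inv_mem hg') hb.inv
    have k1 : a⁻¹ * (b⁻¹ * x * b⁻¹⁻¹) * a⁻¹⁻¹ = b⁻¹ * (a⁻¹ * x * a⁻¹⁻¹) * b⁻¹⁻¹ := by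
      rw [f3, e3, cj_mul', cj_mul', e3, f3, cj_of_comm (f1 _ ha.inv.1).symm,
        cj_of_comm (e1 _ hb.inv.1).symm, mul_assoc, mul_assoc, e1 f f2]
    calc _ = a * b * (a⁻¹ * (b⁻¹ * x * b⁻¹⁻¹) * a⁻¹⁻¹) * (a * b)⁻¹ := by group
      _ = x := by rw [k1]; group
  obtain ⟨a, ha, ha'⟩ := hle (hX hg)
  have h1 := mem_centralizer_singleton_iff.1 (mem_inf.1 ha).2
  rcases Ov.eq ⟨(mem_inf.1 ha).1, ha'.2⟩ hj with rfl | rfl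
  · exact h1
  · rw [mul_assoc, Λ.c_comm hx.1, ← mul_assoc, h1, mul_assoc]

variable {Λ} in
theorem sq_VV {x : G} (hx : x ∈ Λ.pr Λ.D.VV) : x * x = 1 := by
  obtain ⟨s, hs⟩ := Λ.ex_ov (Λ.D.y 1)
  have h0 : s * s = 1 ∨ s * s = Λ.c := Ov.one (by simpa [ad_sq Λ.D.y_add] using hs.mul hs)
  have key : ∀ {x : G} {g : S}, Λ.Ov x g → g ∈ Λ.D.VV → g ≠ 1 → x * x = s * s := by
    intro x g hx hg h1
    obtain ⟨l, -, e⟩ := Λ.D.tr_VV hg h1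
    obtain ⟨a, ha⟩ := Λ.ex_ov l
    have h2 : a * (x * x) * a⁻¹ = s * s := by
      rw [cj_mul']
      rcases hs.eq (e ▸ ha.cj hx) with k | k <;> rw [k]
      rw [mul_assoc, ← mul_assoc Λ.c, Λ.c_comm hs.1, mul_assoc, Λ.c2, mul_one]
    have h3 : a * (s * s) * a⁻¹ = s * s := by
      rcases h0 with k | k <;> rw [k]
      · simp
      · exact cj_of_comm (Λ.c_comm ha.1).symm
    simpa using h2.trans h3.symm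
  have key' : ∀ {x : G} {u t : F4}, Λ.Ov x (Λ.D.x3 u * Λ.D.y t) → u ≠ 0 ∨ t ≠ 0 → x * x = s * s :=
    fun {x u t} hx h => key hx (Λ.D.mem_VV.2 ⟨u, t, rfl⟩) fun e => by
      have := Λ.D.vv_inj (u' := 0) (t' := 0)
        (e.trans (by rw [ad_zero Λ.D.x3_add, ad_zero Λ.D.y_add, mul_one]))
      tauto
  have m : ∀ {x x' : G} {u t u' t' : F4}, Λ.Ov x (Λ.D.x3 u * Λ.D.y t) →
      Λ.Ov x' (Λ.D.x3 u' * Λ.D.y t') → Λ.Ov (x * x') (Λ.D.x3 (u + u') * Λ.D.y (t + t')) :=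
    fun h h' => by
      simpa only [Λ.D.x3_add, Λ.D.y_add, mul_assoc, (Λ.D.c_y3 _ _).left_comm] using h.mul h'
  obtain ⟨a, ha⟩ := Λ.ex_ov (Λ.D.x3 0 * Λ.D.y 1)
  obtain ⟨b, hb⟩ := Λ.ex_ov (Λ.D.x3 0 * Λ.D.y F4.w)
  obtain ⟨d, hd⟩ := Λ.ex_ov (Λ.D.x3 1 * Λ.D.y 0)
  have h1 : s * s = 1 := SZ4.Cod.q8 (by rcases h0 with k | k <;> rw [k]; exacts [one_mul 1, Λ.c2])
    (key' ha (by decide)) (key' hb (by decide)) (key' hd (by decide)) (key' (m ha hb) (by decide))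
    (key' (m ha hd) (by decide)) (key' (m hb hd) (by decide)) (key' (m ha (m hb hd)) (by decide))
  obtain ⟨g, hg, hx⟩ := hx
  by_cases e : g = 1
  · subst e
    rcases hx.one with rfl | rfl
    exacts [one_mul 1, Λ.c2]
  · exact (key hx hg e).trans h1

variable {Λ} in
theorem cen_J {s j : G} {t : F4} (hs : Λ.Ov s (Λ.D.y t)) (hj : j ∈ Λ.pr Λ.D.J) : j * s = s * j :=
  cen_perf Λ.D.J_perf hs (fun _ hg => Λ.D.J_y hg t) hj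

variable {Λ} in
theorem cen_J2 {s j : G} {t : F4} (hs : Λ.Ov s (Λ.D.x2 t)) (hj : j ∈ Λ.pr Λ.D.J2) : j * s = s * j :=
  cen_perf Λ.D.J2_perf hs (fun _ hg => Λ.D.J2_x2 hg t) hj

namespace GSx

variable {Λ} {x x' y y' : G}

theorem io_pow {m : S} (h : Λ.Io x m) (n : ℕ) : Λ.Io (x ^ n) (m ^ n) :=
  ⟨pow_mem h.1 n, by rw [Λ.π_pow h.1, h.2, map_pow]⟩

theorem m3 (D : Dat S) (u : F4) : D.x3 u ∈ D.QA := D.mem_QA.2 ⟨_, _, D.x3_qa u⟩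
theorem mb (D : Dat S) (u : F4) : D.xb u ∈ D.QA := D.mem_QA.2 ⟨_, _, D.xb_qa u⟩
theorem m1 (D : Dat S) (u : F4) : D.x1 u ∈ D.QA := D.mem_QA.2 ⟨_, _, D.x1_qa u⟩
theorem v3 (D : Dat S) (u : F4) : D.x3 u ∈ D.VV := subset_closure (.inl ⟨u, rfl⟩)

theorem le_J (hx : x ∈ Λ.pr Λ.D.QA) : x ∈ Λ.pr Λ.D.J :=
  let ⟨m, hm, h⟩ := hx
  ⟨m, Λ.D.QA_le_J hm, h⟩

theorem cj_Q {j : S} (hj : j ∈ Λ.D.J) (hx : Λ.Ov x j) (hy : y ∈ Λ.pr Λ.D.QA) :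
    x * y * x⁻¹ ∈ Λ.pr Λ.D.QA :=
  let ⟨m, hm, h⟩ := hy
  ⟨_, (mem_normalizer_iff.1 (Λ.D.J_norm hj) m).1 hm, hx.cj h⟩

/-- commutators in `pr QA` are centralised by `pr J` -/
theorem cm_cen (hx : x ∈ Λ.pr Λ.D.QA) (hy : y ∈ Λ.pr Λ.D.QA) {j : G} (hj : j ∈ Λ.pr Λ.D.J) :
    j * (x * y * x⁻¹ * y⁻¹) = x * y * x⁻¹ * y⁻¹ * j := by
  obtain ⟨m, hm, hx⟩ := hx
  obtain ⟨m', hm', hy⟩ := hy
  obtain ⟨z, t, rfl⟩ := Λ.D.mem_QA.1 hm'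
  obtain ⟨s, e⟩ := Λ.D.ac_Q hm z
  have := (hx.cj hy).mul hy.inv
  rw [← conj_mul, e, P_one, cj_of_comm (Λ.D.J_y (Λ.D.QA_le_J hm) t), mul_inv_rev, ← mul_assoc,
    mul_inv_cancel_right, cj_of_comm (Λ.D.qa_y z s)] at this
  exact cen_J this hj

theorem cm_left (hx : x ∈ Λ.pr Λ.D.QA) (hx' : x' ∈ Λ.pr Λ.D.QA) (hy : y ∈ Λ.pr Λ.D.QA) :
    x * x' * y * (x * x')⁻¹ * y⁻¹ = x * y * x⁻¹ * y⁻¹ * (x' * y * x'⁻¹ * y⁻¹) := by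
  calc _ = x * (x' * y * x'⁻¹ * y⁻¹) * x⁻¹ * (x * y * x⁻¹ * y⁻¹) := by group
    _ = _ := by
      rw [cj_of_comm (cm_cen hx' hy (le_J hx)), ← cm_cen hx' hy (le_J
        (mul_mem (mul_mem (mul_mem hx hy) (inv_mem hx)) (inv_mem hy)))]

theorem cm_right (hx : x ∈ Λ.pr Λ.D.QA) (hy : y ∈ Λ.pr Λ.D.QA) (hy' : y' ∈ Λ.pr Λ.D.QA) :
    x * (y * y') * x⁻¹ * (y * y')⁻¹ = x * y * x⁻¹ * y⁻¹ * (x * y' * x⁻¹ * y'⁻¹) := by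
  calc _ = x * y * x⁻¹ * y⁻¹ * (y * (x * y' * x⁻¹ * y'⁻¹) * y⁻¹) := by group
    _ = _ := by rw [cj_of_comm (cm_cen hx hy' (le_J hy))]

theorem six {x'' : G} (hx : x ∈ Λ.pr Λ.D.QA) (hx' : x' ∈ Λ.pr Λ.D.QA) (hx'' : x'' ∈ Λ.pr Λ.D.QA)
    (hy : y ∈ Λ.pr Λ.D.QA) (hy' : y' ∈ Λ.pr Λ.D.QA) (y'' : G) :
    x * y * (x' * y') * (x'' * y'') = y * x' * y⁻¹ * x'⁻¹ * (y' * x'' * y'⁻¹ * x''⁻¹) *
      (y * x'' * y⁻¹ * x''⁻¹) * (x * x' * x'' * (y * y' * y'')) := by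
  have c1 : Commute x _ := cm_cen hy hx' (le_J hx)
  have c2 : Commute (x * x' * y) _ := cm_cen hy' hx'' (le_J (mul_mem (mul_mem hx hx') hy))
  have c3 : Commute (x * x') _ := cm_cen hy hx'' (le_J (mul_mem hx hx'))
  calc _ = x * (y * x' * y⁻¹ * x'⁻¹) * x⁻¹ * (x * x' * y * (y' * x'' * y'⁻¹ * x''⁻¹) * (x * x' * y)⁻¹) *
        (x * x' * (y * x'' * y⁻¹ * x''⁻¹) * (x * x')⁻¹) * (x * x' * x'' * (y * y' * y'')) := by group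
    _ = _ := by rw [cj_of_comm c1, cj_of_comm c2, cj_of_comm c3]

end GSx

theorem c_mem : Λ.c ∈ ⁅Λ.pr (GM.U Λ.D), Λ.pr (GM.U Λ.D)⁆ := by
  have hU := GM.sylU Λ.D
  have hS : SylIn 2 (Λ.pr (GM.U Λ.D)) Λ.A := by
    obtain ⟨n, hn⟩ := IsPGroup.iff_card.1 hU.pgroup
    refine ⟨Λ.pr_le _, IsPGroup.of_card (n := n + 1) (by rw [Λ.card_pr, hn, pow_succ]),
      fun Q hQ h1 h2 => le_antisymm (fun x hx => ?_) h1⟩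
    have h3 : Λ.io Q = GM.U Λ.D := hU.max _ (pg_of_P2 fun m ⟨x, hx, e⟩ => by
      obtain ⟨k, e'⟩ := P2.of_mem hQ hx
      exact ⟨k, (GSx.io_pow e _).inj (e' ▸ (Io.one_iff (one_mem _)).2 (one_mem _))⟩)
      (fun m hm => let ⟨x, hx⟩ := Λ.ex_ov m; ⟨x, h1 ⟨m, hm, hx⟩, hx.io⟩) le_top
    obtain ⟨m, hm⟩ := Λ.ov_of_mem (h2 hx)
    exact ⟨m, h3.le ⟨x, hx, hm.io⟩, hm⟩
  have h1 := CL.Flav.mem_comm_sylow hS.toSylow (z := ⟨Λ.c, Λ.cA⟩)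
    (mem_center_iff.2 fun a => Subtype.ext (Λ.c_comm a.2).symm) (by
      have := Λ.perf Λ.cA
      rw [← map_subtype_commutator] at this
      obtain ⟨z, hz, e⟩ := this
      rwa [← show z = ⟨Λ.c, Λ.cA⟩ from Subtype.ext e]) (Λ.c_pr _)
  have h2 := mem_map_of_mem Λ.A.subtype h1
  rwa [map_commutator, hS.map_toSylow] at h2

/-- the commutators of elements over `x3 u` with elements over `Q_A` -/
structure Kap (k : F4 → F4 → G) : Prop where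
  eq : ∀ x y u t z t', Λ.Ov x (Λ.D.x3 u * Λ.D.y t) → Λ.Ov y (Λ.D.qa z * Λ.D.y t') → x * y * x⁻¹ * y⁻¹ = k u (z 2)
  ov : ∀ u t, Λ.Ov (k u t) (Λ.D.y (u * t))
  add1 : ∀ u u' t, k (u + u') t = k u t * k u' t
  add2 : ∀ u t t', k u (t + t') = k u t * k u t'
  eta : ∃ η ∈ Λ.A, ∀ u t, η * k u t * η⁻¹ = k (F4.w * u) (F4.w * t)

theorem ex_kap : ∃ k, Λ.Kap k := by
  choose ξ hξ using fun u => Λ.ex_ov (Λ.D.x3 u)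
  choose β hβ using fun u => Λ.ex_ov (Λ.D.xb u)
  have eq : ∀ x y u t z t', Λ.Ov x (Λ.D.x3 u * Λ.D.y t) → Λ.Ov y (Λ.D.qa z * Λ.D.y t') →
      x * y * x⁻¹ * y⁻¹ = ξ u * β (z 2) * (ξ u)⁻¹ * (β (z 2))⁻¹ := by
    intro x y u t z t' hx hy
    obtain ⟨a₁, h₁⟩ := Λ.ex_ov (Λ.D.x1 (z 3))
    obtain ⟨a₂, h₂⟩ := Λ.ex_ov (Λ.D.x2 (z 4))
    obtain ⟨ν, hν⟩ := Λ.ex_ov Λ.D.na
    have hq : Λ.Ov (β (z 2) * a₁ * a₂ * ξ (z 5)) (Λ.D.qa z) := (((hβ _).mul h₁).mul h₂).mul (hξ _)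
    have s1 : Λ.Ov ((ξ u)⁻¹ * x) (Λ.D.y t) := by simpa using (hξ u).inv.mul hx
    have s2 : Λ.Ov ((β (z 2) * a₁ * a₂ * ξ (z 5))⁻¹ * y) (Λ.D.y t') := by simpa using hq.inv.mul hy
    have hyJ : y ∈ Λ.pr Λ.D.J := ⟨_, Λ.D.QA_le_J (Λ.D.mem_QA.2 ⟨_, _, rfl⟩), hy⟩
    have hξJ : ξ u ∈ Λ.pr Λ.D.J := ⟨_, Λ.D.QA_le_J (GSx.m3 Λ.D u), hξ u⟩
    have c0 := cen_J s1 hyJ
    have c1 : ξ u * a₁ = a₁ * ξ u := by
      have := cen_J2 (Λ.D.na_1 _ ▸ hν.cj h₁) ⟨_, Λ.D.xb_J2 u, Λ.D.na_3 u ▸ hν.cj (hξ u)⟩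
      rw [← cj_mul', ← cj_mul'] at this
      simpa using this
    have c2 := cen_J2 h₂ ⟨_, Λ.D.VV_le_J2 (GSx.v3 Λ.D u), hξ u⟩
    have c3 : ξ u * ξ (z 5) = ξ (z 5) * ξ u :=
      comm_of_sq (fun _ => sq_VV) ⟨_, GSx.v3 Λ.D u, hξ u⟩ ⟨_, GSx.v3 Λ.D _, hξ _⟩
    have c4 := cen_J s2 hξJ
    generalize hs : (ξ u)⁻¹ * x = s at c0
    generalize hs' : (β (z 2) * a₁ * a₂ * ξ (z 5))⁻¹ * y = s' at c4
    rw [inv_mul_eq_iff_eq_mul] at hs hs'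
    have e1 : x * y * x⁻¹ = ξ u * y * (ξ u)⁻¹ := by
      rw [hs, ← cj_cj, cj_of_comm c0.symm]
    rw [e1, hs', cj_mul', cj_mul', cj_mul', cj_mul', cj_of_comm c1, cj_of_comm c2, cj_of_comm c3,
      cj_of_comm c4]
    group
  have eq' : ∀ x y u t, Λ.Ov x (Λ.D.x3 u) → Λ.Ov y (Λ.D.xb t) →
      x * y * x⁻¹ * y⁻¹ = ξ u * β t * (ξ u)⁻¹ * (β t)⁻¹ := fun x y u t hx hy =>
    eq x y u 0 ![0, 0, t, 0, 0, 0] 0 (by rwa [ad_zero Λ.D.y_add, mul_one]) (Λ.D.xb_qa t ▸ hy)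
  have q3 : ∀ u, ξ u ∈ Λ.pr Λ.D.QA := fun u => ⟨_, GSx.m3 Λ.D u, hξ u⟩
  have qb : ∀ u, β u ∈ Λ.pr Λ.D.QA := fun u => ⟨_, GSx.mb Λ.D u, hβ u⟩
  obtain ⟨η, hη⟩ := Λ.ex_ov Λ.D.h
  refine ⟨fun u t => ξ u * β t * (ξ u)⁻¹ * (β t)⁻¹, eq, fun u t => ?_, fun u u' t => ?_,
    fun u t t' => ?_, η, hη.1, fun u t => ?_⟩
  · convert ((hξ u).cj (hβ t)).mul (hβ t).inv using 1
    rw [Λ.D.r_3b, mul_assoc _ (Λ.D.y _), (Λ.D.c_y3 _ _).inv_right.eq, ← mul_assoc,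
      mul_inv_cancel_right, ← (Λ.D.c_yb _ _).eq, mul_inv_cancel_right]
  · rw [← eq' _ _ _ _ (Λ.D.x3_add u u' ▸ (hξ u).mul (hξ u')) (hβ t), GSx.cm_left (q3 u) (q3 u') (qb t)]
  · rw [← eq' _ _ _ _ (hξ u) (Λ.D.xb_add t t' ▸ (hβ t).mul (hβ t')),
      GSx.cm_right (q3 u) (qb t) (qb t')]
  · have e3 : Λ.D.h * Λ.D.x3 u * Λ.D.h⁻¹ = Λ.D.x3 (F4.w * u) := by
      rw [Λ.D.h_cj, Λ.D.hb_3, Λ.D.hb_3, Λ.D.ha_3, ← mul_assoc]; rfl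
    have eb : Λ.D.h * Λ.D.xb t * Λ.D.h⁻¹ = Λ.D.xb (F4.w * t) := by
      rw [Λ.D.h_cj, Λ.D.hb_b, Λ.D.hb_b, Λ.D.ha_b, ← mul_assoc]; rfl
    refine Eq.trans ?_ (eq' _ _ (F4.w * u) (F4.w * t) (e3 ▸ hη.cj (hξ u)) (eb ▸ hη.cj (hβ t)))
    group

variable {Λ}

namespace GSx

theorem rel_all {k : F4 → F4 → G} (h : Λ.Kap k) {X : Subgroup G} (hX : ∀ u t, k u t ∈ X) {x y : G}
    (hx : x ∈ Λ.pr Λ.D.QA) (hy : y ∈ Λ.pr Λ.D.QA) : x * y * x⁻¹ * y⁻¹ ∈ X := by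
  let T : Subgroup G :=
    { carrier := {x | x ∈ Λ.pr Λ.D.QA ∧ ∀ y ∈ Λ.pr Λ.D.QA, x * y * x⁻¹ * y⁻¹ ∈ X}
      one_mem' := ⟨one_mem _, fun y _ => by simp⟩
      mul_mem' := fun {a b} ha hb => ⟨mul_mem ha.1 hb.1, fun y hy => by
        rw [cm_left ha.1 hb.1 hy]
        exact mul_mem (ha.2 y hy) (hb.2 y hy)⟩
      inv_mem' := fun {a} ha => ⟨inv_mem ha.1, fun y hy => by
        have := cm_left ha.1 (inv_mem ha.1) hy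
        rw [← mul_mem_cancel_left (ha.2 y hy), ← this]
        simp⟩ }
  have T3 : ∀ {x u t}, Λ.Ov x (Λ.D.x3 u * Λ.D.y t) → x ∈ T := fun {x u t} hx =>
    ⟨⟨_, mul_mem (m3 Λ.D u) (Λ.D.y_QA t), hx⟩, by
      rintro y ⟨m, hm, hy⟩
      obtain ⟨z, t', rfl⟩ := Λ.D.mem_QA.1 hm
      exact h.eq _ _ _ _ _ _ hx hy ▸ hX _ _⟩
  have hc : Λ.c ∈ T := T3 (u := 0) (t := 0) (by
    rw [ad_zero Λ.D.x3_add, ad_zero Λ.D.y_add, mul_one]; exact Λ.ov_c)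
  have up : ∀ {x m}, m ∈ Λ.io T → Λ.Ov x m → x ∈ T := by
    rintro x m ⟨a, ha, ha'⟩ hx
    rcases Ov.eq ⟨Λ.pr_le _ ha.1, ha'.2⟩ hx with rfl | rfl
    exacts [ha, mul_mem ha hc]
  have t3 : ∀ u t, Λ.D.x3 u * Λ.D.y t ∈ Λ.io T := fun u t =>
    let ⟨x, hx⟩ := Λ.ex_ov _
    ⟨x, T3 hx, hx.io⟩
  have cj : ∀ {j m}, j ∈ Λ.D.J → m ∈ Λ.io T → j * m * j⁻¹ ∈ Λ.io T := by
    rintro j m hj ⟨a, ha, ha'⟩
    obtain ⟨b, hb⟩ := Λ.ex_ov j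
    refine ⟨_, ⟨cj_Q hj hb ha.1, fun y hy => ?_⟩, (hb.io.mul ha').mul hb.io.inv⟩
    have hy' := cj_Q (inv_mem hj) hb.inv hy
    have := ha.2 _ hy'
    rw [← cj_of_comm (cm_cen ha.1 hy' ⟨_, hj, hb⟩)] at this
    convert this using 1
    group
  have nJ := Λ.D.L_le_J Λ.D.na_L
  have tb : ∀ u, Λ.D.xb u ∈ Λ.io T := fun u => by
    have := cj nJ (t3 u 0)
    rwa [ad_zero Λ.D.y_add, mul_one, Λ.D.na_3] at this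
  have t12 : ∀ t u, Λ.D.x1 (t * u) * Λ.D.x2 (t ^ 2 * u) ∈ Λ.io T := fun t u => by
    have := cj (Λ.D.L_le_J (Λ.D.xa_L t)) (tb u)
    rwa [Λ.D.a_b, mul_assoc, mul_mem_cancel_right (t3 _ _), mul_assoc,
      mul_mem_cancel_left (tb u)] at this
  have t1 : ∀ u, Λ.D.x1 u ∈ Λ.io T := fun u => by
    have := mul_mem (t12 1 (F4.v * u)) (inv_mem (t12 F4.w u))
    have a : ∀ u : F4, 1 ^ 2 * (F4.v * u) = F4.w ^ 2 * u ∧ 1 * (F4.v * u) + F4.w * u = u := by decide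
    rwa [(a u).1, mul_inv_rev, ← mul_assoc, mul_inv_cancel_right, ad_inv Λ.D.x1_add, ← Λ.D.x1_add,
      (a u).2] at this
  obtain ⟨m, hm, hx⟩ := hx
  obtain ⟨z, t, rfl⟩ := Λ.D.mem_QA.1 hm
  refine (up ?_ hx).2 y hy
  rw [Dat.qa, mul_assoc]
  exact mul_mem (mul_mem (mul_mem (tb _) (t1 _)) (Λ.D.na_1 _ ▸ cj nJ (t1 _))) (t3 _ _)

end GSx

theorem Kap.gen {k : F4 → F4 → G} (h : Λ.Kap k) {X : Subgroup G} (hX : ∀ u t, k u t ∈ X) : Λ.c ∈ X := by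
  by_contra hc
  have hR := fun {x y : G} => GSx.rel_all (x := x) (y := y) h hX
  obtain ⟨η, hη⟩ := Λ.ex_ov Λ.D.h
  have cη : η * Λ.c * η⁻¹ = Λ.c := cj_of_comm (Λ.c_comm hη.1).symm
  have qη : ∀ {x}, x ∈ Λ.pr Λ.D.QA → η * x * η⁻¹ ∈ Λ.pr Λ.D.QA := by
    rintro x ⟨m, hm, hx⟩
    obtain ⟨z, t, rfl⟩ := Λ.D.mem_QA.1 hm
    exact ⟨_, Λ.D.mem_QA.2 ⟨_, _, by rw [← conj_mul, Λ.D.h_qa, Λ.D.h_y]⟩, hη.cj hx⟩
  have φY : ∀ {x}, x ∈ Λ.pr Λ.D.QA →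
      ∃ t, Λ.Ov (x * (η * x * η⁻¹) * (η * (η * x * η⁻¹) * η⁻¹)) (Λ.D.y t) := by
    rintro x ⟨m, hm, hx⟩
    obtain ⟨z, t, rfl⟩ := Λ.D.mem_QA.1 hm
    have := (hx.mul (hη.cj hx)).mul (hη.cj (hη.cj hx))
    have e : ∀ z t, Λ.D.h * (Λ.D.qa z * Λ.D.y t) * Λ.D.h⁻¹ = Λ.D.qa (F4.w • z) * Λ.D.y (F4.v * t) :=
      fun z t => by rw [← conj_mul, Λ.D.h_qa, Λ.D.h_y]
    rw [e, e, Λ.D.qy_mul, Λ.D.qy_mul,
      show z + F4.w • z + F4.w • F4.w • z = 0 from funext fun i =>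
        (by decide : ∀ a : F4, a + F4.w * a + F4.w * (F4.w * a) = 0) (z i), Λ.D.qa_zero, one_mul] at this
    exact ⟨_, this⟩
  let Q₀ : Subgroup G :=
    { carrier := {x | x ∈ Λ.pr Λ.D.QA ∧ x * (η * x * η⁻¹) * (η * (η * x * η⁻¹) * η⁻¹) ∈ X}
      one_mem' := ⟨one_mem _, by simp⟩
      mul_mem' := fun {x y} hx hy => ⟨mul_mem hx.1 hy.1, by
        rw [cj_mul', cj_mul', GSx.six hx.1 (qη hx.1) (qη (qη hx.1)) hy.1 (qη hy.1)]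
        exact mul_mem (mul_mem (mul_mem (hR hy.1 (qη hx.1)) (hR (qη hy.1) (qη (qη hx.1))))
          (hR hy.1 (qη (qη hx.1)))) (mul_mem hx.2 hy.2)⟩
      inv_mem' := fun {x} hx => ⟨inv_mem hx.1, by
        have i := inv_mem hx.1
        have := GSx.six hx.1 (qη hx.1) (qη (qη hx.1)) i (qη i) (η * (η * x⁻¹ * η⁻¹) * η⁻¹)
        rw [← cj_mul', ← cj_mul', ← cj_mul', mul_inv_cancel] at this
        have h1 := X.one_mem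
        simp only [mul_one, mul_inv_cancel] at this
        rw [this, mul_mem_cancel_left (mul_mem (mul_mem (hR i (qη hx.1)) (hR (qη i) (qη (qη hx.1))))
          (hR i (qη (qη hx.1)))), mul_mem_cancel_left hx.2] at h1
        exact h1⟩ }
  have hc0 : Λ.c ∉ Q₀ := fun e => hc (by simpa only [cη, Λ.c2, one_mul] using e.2)
  have two : ∀ {x}, x ∈ Λ.pr Λ.D.QA → x ∈ Q₀ ∨ x * Λ.c ∈ Q₀ := by
    intro x hx
    obtain ⟨t, ht⟩ := φY hx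
    have h1 := h.ov 1 t
    rw [one_mul] at h1
    rcases h1.eq ht with e | e
    · exact .inl ⟨hx, e ▸ hX 1 t⟩
    · refine .inr ⟨mul_mem hx (Λ.c_pr _), ?_⟩
      have c1 : Commute Λ.c (η * x * η⁻¹) := Λ.c_comm (Λ.pr_le _ (qη hx))
      have c2 : Commute Λ.c (η * (η * x * η⁻¹) * η⁻¹) := Λ.c_comm (Λ.pr_le _ (qη (qη hx)))
      rw [cj_mul', cη, cj_mul', cη]
      generalize η * (η * x * η⁻¹) * η⁻¹ = x'' at c2 e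
      generalize η * x * η⁻¹ = x' at c1 e
      rw [show x * Λ.c * (x' * Λ.c) * (x'' * Λ.c) = x * x' * x'' * Λ.c * (Λ.c * Λ.c) by
        simp only [mul_assoc, c1.left_comm, c2.left_comm], e, Λ.c2, mul_one, mul_assoc, Λ.c2, mul_one]
      exact hX 1 t
  have aη : ∀ {a s}, Λ.Ov a (Λ.D.xa s) → η * a * η⁻¹ = a := by
    intro a s ha
    have h1 := hη.cj ha
    rw [cj_of_comm (Λ.D.h_L (Λ.D.xa_L s))] at h1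
    refine (ha.eq h1).resolve_right fun e => Λ.c1 ?_
    have h2 : η * (η * η) * a * (η * (η * η))⁻¹ = a * Λ.c := by
      rw [← cj_cj, ← cj_cj, e, cj_mul' η a, e, cη, mul_assoc a, Λ.c2, mul_one, e]
    have h3 := hη.mul (hη.mul hη)
    rw [← pow_three Λ.D.h, Λ.D.h3] at h3
    rcases h3.one with k | k <;> rw [k] at h2
    · simpa using h2.symm
    · rw [cj_of_comm (Λ.c_comm ha.1)] at h2
      simpa using h2.symm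
  have aQ : ∀ {a s x}, Λ.Ov a (Λ.D.xa s) → x ∈ Q₀ → a * x * a⁻¹ ∈ Q₀ := by
    rintro a s x ha ⟨hx, hx'⟩
    have hJ := Λ.D.L_le_J (Λ.D.xa_L s)
    have e : ∀ x, η * (a * x * a⁻¹) * η⁻¹ = a * (η * x * η⁻¹) * a⁻¹ := fun x => by
      rw [cj_cj, cj_cj, comm_of_cj (aη ha)]
    obtain ⟨t, ht⟩ := φY hx
    refine ⟨GSx.cj_Q hJ ha hx, ?_⟩
    rwa [e, e, ← cj_mul', ← cj_mul', cj_of_comm (cen_J ht ⟨_, hJ, ha⟩)]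
  have aa : ∀ {a s b t}, Λ.Ov a (Λ.D.xa s) → Λ.Ov b (Λ.D.xa t) → a * b = b * a := by
    intro a s b t ha hb
    obtain ⟨ν, hν⟩ := Λ.ex_ov Λ.D.nb
    have h1 := Λ.D.nb_a s ▸ hν.cj ha
    have h2 := Λ.D.nb_a t ▸ hν.cj hb
    have h3 := (h1.cj h2).mul h2.inv
    rw [cj_of_comm (ad_comm Λ.D.x1_add s t), mul_inv_cancel] at h3
    have h4 := h3.one.resolve_right fun e =>
      hc (e ▸ hR ⟨_, GSx.m1 Λ.D s, h1⟩ ⟨_, GSx.m1 Λ.D t, h2⟩)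
    have h5 := comm_of_cj (mul_inv_eq_one.1 h4)
    rw [← cj_mul', ← cj_mul'] at h5
    simpa using h5
  have dec : ∀ u ∈ Λ.pr (GM.U Λ.D), ∃ n ∈ Q₀, ∃ a s, Λ.Ov a (Λ.D.xa s) ∧ u = n * a := by
    rintro u ⟨g, hg, hu⟩
    obtain ⟨z, t, s, rfl⟩ := (GM.mem_U Λ.D).1 hg
    obtain ⟨a, ha⟩ := Λ.ex_ov (Λ.D.xa s)
    rcases two (x := u * a⁻¹) ⟨_, Λ.D.mem_QA.2 ⟨z, t, rfl⟩, by simpa using hu.mul ha.inv⟩ with k | k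
    · exact ⟨_, k, a, s, ha, by group⟩
    · refine ⟨_, k, Λ.c * a, s, by simpa using Λ.ov_c.mul ha, ?_⟩
      rw [mul_assoc, ← mul_assoc Λ.c, Λ.c2, one_mul, inv_mul_cancel_right]
  refine hc0 (commutator_le.2 (fun u hu u' hu' => ?_) Λ.c_mem)
  obtain ⟨n, hn, a, s, ha, rfl⟩ := dec u hu
  obtain ⟨n', hn', a', s', ha', rfl⟩ := dec u' hu'
  have := mul_mem (mul_mem (mul_mem hn (aQ ha hn')) (aQ ha' (inv_mem hn))) (inv_mem hn')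
  convert this using 1
  calc _ = n * (a * n' * a⁻¹) * (a * a' * a⁻¹ * n⁻¹ * a'⁻¹) * n'⁻¹ := by
        rw [commutatorElement_def]; group
    _ = _ := by rw [cj_of_comm (aa ha ha')]

theorem Kap.onto {k : F4 → F4 → G} (h : Λ.Kap k) {s : G} {d : F4} (hs : Λ.Ov s (Λ.D.y d)) (hd : d ≠ 0) :
    ∃ u t, k u t = s := by
  by_contra hn
  push Not at hn
  have z1 : ∀ t, k 0 t = 1 := fun t => by simpa using h.add1 0 0 t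
  have z2 : ∀ u, k u 0 = 1 := fun u => ad_zero (h.add2 u)
  obtain ⟨η, -, hη⟩ := h.eta
  let Pr : F4 → Prop := fun e => ∀ u t u' t', u * t = e → u' * t' = e → k u t = k u' t'
  have p0 : Pr d := fun u t u' t' e e' =>
    ((hs.eq (e ▸ h.ov u t)).resolve_left (hn u t)).trans
      ((hs.eq (e' ▸ h.ov u' t')).resolve_left (hn u' t')).symm
  have p1 : ∀ e, Pr e → Pr (F4.v * e) := fun e p u t u' t' k1 k2 => by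
    have a : ∀ u : F4, F4.w * (F4.v * u) = u := by decide
    have b : ∀ u t e : F4, u * t = F4.v * e → F4.v * u * (F4.v * t) = e := by decide
    rw [← a u, ← a t, ← a u', ← a t', ← hη, ← hη, p _ _ _ _ (b _ _ _ k1) (b _ _ _ k2)]
  have p2 : ∀ u t, k u t = k 1 (u * t) := fun u t => by
    have b : ∀ d e : F4, d ≠ 0 → e = 0 ∨ e = d ∨ e = F4.v * d ∨ e = F4.v * (F4.v * d) := by decide
    rcases b d (u * t) hd with e | e | e | e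
    · rw [e, z2]
      rcases mul_eq_zero.1 e with rfl | rfl
      exacts [z1 t, z2 u]
    · exact p0 _ _ _ _ e ((one_mul _).trans e)
    · exact p1 _ p0 _ _ _ _ e ((one_mul _).trans e)
    · exact p1 _ (p1 _ p0) _ _ _ _ e ((one_mul _).trans e)
  obtain ⟨t, e⟩ := h.gen (X := rg (k 1) (h.add2 1)) fun u t => ⟨_, (p2 u t).symm⟩
  have := Λ.D.y_eq_one ((e ▸ h.ov 1 t).io.inj Λ.ov_c.io)
  rw [one_mul] at this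
  exact Λ.c1 (by rw [← e, this, z2])

variable (Λ)

variable {Λ} in
theorem GSx.perf_of {X : Subgroup S} (hX : X ≤ ⁅X, X⁆) (h3 : ∀ u, Λ.D.x3 u ∈ X)
    (hb : ∀ u, Λ.D.xb u ∈ X) : Λ.pr X ≤ ⁅Λ.pr X, Λ.pr X⁆ := by
  obtain ⟨k, hk⟩ := Λ.ex_kap
  have hc : Λ.c ∈ ⁅Λ.pr X, Λ.pr X⁆ := hk.gen fun u t => by
    obtain ⟨x, hx⟩ := Λ.ex_ov (Λ.D.x3 u)
    obtain ⟨y, hy⟩ := Λ.ex_ov (Λ.D.xb t)
    have := hk.eq x y u 0 ![0, 0, t, 0, 0, 0] 0 (by rwa [ad_zero Λ.D.y_add, mul_one])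
      (Λ.D.xb_qa t ▸ hy)
    exact (show k u t = _ from this.symm) ▸ commutator_mem_commutator ⟨_, h3 u, hx⟩ ⟨_, hb t, hy⟩
  have hle : ⁅X, X⁆ ≤ Λ.io ⁅Λ.pr X, Λ.pr X⁆ := commutator_le.2 fun g hg g' hg' => by
    obtain ⟨a, ha⟩ := Λ.ex_ov g
    obtain ⟨b, hb⟩ := Λ.ex_ov g'
    exact ⟨_, commutator_mem_commutator ⟨_, hg, ha⟩ ⟨_, hg', hb⟩, ((ha.cj hb).mul hb.inv).io⟩
  rintro x ⟨m, hm, hx⟩
  obtain ⟨a, ha, ha'⟩ := hle (hX hm)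
  have hA : ⁅Λ.pr X, Λ.pr X⁆ ≤ Λ.A := commutator_le.2 fun a ha b hb =>
    mul_mem (mul_mem (mul_mem (Λ.pr_le _ ha) (Λ.pr_le _ hb)) (inv_mem (Λ.pr_le _ ha)))
      (inv_mem (Λ.pr_le _ hb))
  rcases Ov.eq ⟨hA ha, ha'.2⟩ hx with rfl | rfl
  exacts [ha, mul_mem ha hc]

theorem perf_J2 : Λ.pr Λ.D.J2 ≤ ⁅Λ.pr Λ.D.J2, Λ.pr Λ.D.J2⁆ :=
  GSx.perf_of Λ.D.J2_perf (fun u => Λ.D.VV_le_J2 (GSx.v3 Λ.D u)) Λ.D.xb_J2
theorem perf_J : Λ.pr Λ.D.J ≤ ⁅Λ.pr Λ.D.J, Λ.pr Λ.D.J⁆ :=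
  GSx.perf_of Λ.D.J_perf (fun u => Λ.D.QA_le_J (GSx.m3 Λ.D u)) fun u => Λ.D.QA_le_J (GSx.mb Λ.D u)

end CL.C41.CG
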