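import Cfsg.Agent.INV.C41.St2

/-!
# Hypothesis (H), part 1: involutions of type `(false, true)` and four-groups

`Λ.fr l` has the same underlying `Cv` as `Λ` (by `rfl`), so `H`, `Adj`, `B`, `El`, `Inn` do not change with the frame.
Write `x^t = t x t⁻¹`. A *key element* is an involution `a = x (t x⁻¹ t⁻¹)`, `x ∈ A`; by `Cv.H.key` it lies in `N'`
and is not inner on `A'`. On the other hand `D = Uh ⊓ C(t)` is a 2-subgroup of `N'` (`cenN`), so squares and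
commutators of its elements are inner on `A'` (`inn_sq`, `inn_comm` for `Λ'`).
-/

set_option autoImplicit false
set_option linter.unusedSectionVars false

namespace CL.C41.C3

open Subgroup CL.MSS CL.SZ4 Cv

universe u v
variable {G : Type u} {M : Type v} [Group G] [Group M] [Finite G] [Finite M] {Λ Λ' : C3 G M}

/-- PROOF. `k²` is inner on `A'` (`inn_sq`); `H.out` for `h.adj ad`, `ad.symm`. -/
theorem sq1 (h : Λ.H) (ad : Adj Λ.toCv Λ'.toCv) {k : G} (hk : k ∈ Λ.K) (hN : k ∈ Λ'.N) (p : P2 k) : k * k = 1 := by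
  exact (h.adj ad).out ad.symm (mul_mem hk hk) (p.mul p rfl) (Λ'.inn_sq hN p)

theorem H1.cj2 {t : G} (t2 : t * t = 1) (x : G) : t * (t * x * t⁻¹) * t⁻¹ = x := by
  rw [cj_cj, t2, one_mul, inv_one, mul_one]

theorem H1.ne1 {x : G} {a b c : F4} (h : Λ.Ov x a b c) (hc : c ≠ 0) : x ≠ 1 := fun e =>
  hc (h.not_K (e ▸ one_mem _)).2.2

theorem H1.sqW (hE : Λ.El) : ∀ x ∈ Λ.W, x * x = 1 := fun _ hx => let ⟨_, _, e⟩ := Λ.mem_W.1 hx; sq_W hE e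

theorem H1.cjW {t x : G} {σ : Bool} {α β : F4} (ty : Λ.Ty t false σ α β) (hx : x ∈ Λ.W) : t * x * t⁻¹ ∈ Λ.W := by
  obtain ⟨a, c, h⟩ := Λ.mem_W.1 hx
  obtain ⟨d, e⟩ := ty.ov h
  exact Λ.mem_W.2 ⟨_, d, Ov.congr e rfl (by rw [Bas.fr_zero, mul_zero]) rfl⟩

/-- an element over `(a, 0)`, `a ≠ 0`, of the form `x x^t` -/
theorem H1.tr (hE : Λ.El) {t : G} (t2 : t * t = 1) {α β : F4} (ty : Λ.Ty t false true α β) :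
    ∃ x ∈ Λ.W, ∃ a c, a ≠ 0 ∧ Λ.Ov (x * (t * x * t⁻¹)) a 0 c ∧
      x * (t * x * t⁻¹) * t = t * (x * (t * x * t⁻¹)) := by
  obtain ⟨a, ha⟩ := (by decide : ∀ α : F4, ∃ a, a + α * (a * a) ≠ 0) α
  obtain ⟨x, hx⟩ := Λ.ex_ov a 0 0
  obtain ⟨d, e⟩ := ty.ov hx
  have hW := Λ.mem_W.2 ⟨_, _, hx⟩
  refine ⟨x, hW, _, _, ha, (hx.mul e).congr rfl (by simp [SZ4.fr]) rfl, (comm_of_cj ?_).symm⟩
  rw [cj_mul', H1.cj2 t2, comm_of_sq (H1.sqW hE) hW (H1.cjW ty hW)]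

theorem H1.innD {t x y : G} (ht : t ∈ Λ'.K) (t2 : t * t = 1) (t1 : t ≠ 1) (hx : x ∈ Λ.Uh) (hy : y ∈ Λ.Uh)
    (ex : x * t = t * x) (ey : y * t = t * y) : Λ'.Inn (cm x y) :=
  Λ'.inn_comm (D := Λ.Uh ⊓ centralizer {t}) (Λ.pg_Uh.to_le inf_le_left)
    (fun _ hd => Λ'.cenN ht t2 t1 (mem_centralizer_singleton_iff.1 hd.2))
    (commutator_mem_commutator ⟨hx, mem_centralizer_singleton_iff.2 ex⟩ ⟨hy, mem_centralizer_singleton_iff.2 ey⟩)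


/-- T1e. PROOF. Choose `a₀`, `b₀` with `a = a₀ + α a₀² ≠ 0`, `b = b₀ + β b₀² ≠ 0`, `x` over `u a₀ 0 0`, `x₂` over `u 0 b₀ 0`.
`y₁ = x x^t` lies over `(a, 0)`, `y₂ = x₂ x₂^t` over `(0, b)`; both commute with `t` (`W`, `sw.W` are elementary abelian,
`sq_W`). `e = cm y₂ y₁` lies over `z (a b)`, so it is an involution, inner on `A'` (`inn_comm`). With
`x' = (y₂ x y₂⁻¹) x ∈ W` we have `e = (y₂ y₁ y₂⁻¹) y₁⁻¹ = x' x'^t = x' (t x'⁻¹ t⁻¹)`: a key element. -/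
theorem T1e (h : Λ.H) (ad : Adj Λ.toCv Λ'.toCv) (hE : Λ.El) {t : G} (ht : t ∈ Λ'.K) (t2 : t * t = 1) (t1 : t ≠ 1)
    {α β : F4} (ty : Λ.Ty t false true α β) : False := by
  obtain ⟨x, hx, a, c, ha, h1, e1⟩ := H1.tr hE t2 ty
  obtain ⟨x₂, -, b, c', hb, h2, e2⟩ := H1.tr (Λ := Λ.sw) hE t2 ty.sw
  rw [sw_Ov] at h2
  generalize x₂ * (t * x₂ * t⁻¹) = y at h2 e2
  have he := (h2.cm h1).congr rfl rfl (show _ = a * b by simp)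
  have hp : y * x * y⁻¹ ∈ Λ.W := by
    obtain ⟨a', c'', k⟩ := Λ.mem_W.1 hx
    exact Λ.mem_W.2 ⟨_, _, h2.cj k⟩
  refine (h.key ad ht ty.1 t2 t1 (Λ.Uh_le_A (Λ.W_le (mul_mem hp hx))) ?_ (sq_W hE he)
    (H1.ne1 he (mul_ne_zero ha hb))).2.2 (H1.innD ht t2 t1 h2.1 h1.1 e2 e1)
  have k1 : y * (t * x * t⁻¹) * y⁻¹ = t * (y * x * y⁻¹) * t⁻¹ := by rw [cj_cj, e2, cj_cj]
  have k2 := inv_of_sq (H1.sqW hE _ (mul_mem (mul_mem hx (H1.cjW ty hx)) (H1.cjW ty hp)))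
  have i1 := inv_of_sq (H1.sqW hE _ hx)
  have i2 := inv_of_sq (H1.sqW hE _ (H1.cjW ty hx))
  have i3 := inv_of_sq (H1.sqW hE _ (H1.cjW ty hp))
  calc cm y (x * (t * x * t⁻¹)) = y * x * y⁻¹ * (y * (t * x * t⁻¹) * y⁻¹ * (t * x * t⁻¹)⁻¹ * x⁻¹) := by
        simp only [cm]; group
    _ = y * x * y⁻¹ * (x * (t * x * t⁻¹) * (t * (y * x * y⁻¹) * t⁻¹))⁻¹ := by
        rw [k1, mul_inv_rev (x * _), mul_inv_rev x, i3, mul_assoc (t * (y * x * y⁻¹) * t⁻¹)]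
    _ = y * x * y⁻¹ * (x * (t * x * t⁻¹)⁻¹ * (t * (y * x * y⁻¹) * t⁻¹)⁻¹) := by rw [k2, i2, i3]
    _ = _ := by group

/-- PROOF. `δ = ζ^p ζ⁻¹ ≠ 1`. Put `η = ζ` if `δ² = 1` and `η = ζ²` otherwise (`ex4`): `β₀ = η^p η⁻¹` is an involution. If
`x^p = x β` with `β ∈ {1, β₀}` then `x` or `x η` is fixed. Take involutions `x₁` over `u (α²) 0 c₁`, `x₂` over `u 0 (β²) c₂`
(`MM.ft_fix`, `inv_V`, `inv_V'`): `x_i^p = x_i β_i` (`Ov.cj_of`), `β_i² = 1`. By `rk2 β₀ β₁ β₂` one of `β₁`, `β₂`, `β₁ β₂` lies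
in `{1, β₀}`; use `x₁`, `x₂` or `x₁ x₂`. -/
theorem fix_lift {p ζ : G} (p2 : p * p = 1) {α β : F4} (ty : Λ.Ty p false true α β) (hζ : ζ ∈ Λ.B)
    (e : p * ζ * p⁻¹ ≠ ζ) : ∃ x a b c, Λ.Ov x a b c ∧ (a ≠ 0 ∨ b ≠ 0) ∧ p * x = x * p := by
  have hN := ty.1
  obtain ⟨η, hη, β₀, hβ, e0, b2, b1⟩ : ∃ η ∈ Λ.B, ∃ β₀ ∈ Λ.B, p * η * p⁻¹ = η * β₀ ∧ β₀ * β₀ = 1 ∧ β₀ ≠ 1 := by
    have hδ : ζ⁻¹ * (p * ζ * p⁻¹) ∈ Λ.B := mul_mem (inv_mem hζ) (Λ.cjB hN hζ)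
    have e1 : p * ζ * p⁻¹ = ζ * (ζ⁻¹ * (p * ζ * p⁻¹)) := by group
    generalize ζ⁻¹ * (p * ζ * p⁻¹) = δ at hδ e1
    by_cases c : δ * δ = 1
    · exact ⟨ζ, hζ, δ, hδ, e1, c, fun k => e (by rw [e1, k, mul_one])⟩
    · exact ⟨_, mul_mem hζ hζ, _, mul_mem hδ hδ, by rw [cj_mul', e1, St2.sqB Λ hζ.1 hδ], Λ.ex4 δ hδ, c⟩
  have fin : ∀ x a b c, Λ.Ov x a b c → (a ≠ 0 ∨ b ≠ 0) → ∀ γ, (γ = 1 ∨ γ = β₀) → p * x * p⁻¹ = x * γ →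
      ∃ x a b c, Λ.Ov x a b c ∧ (a ≠ 0 ∨ b ≠ 0) ∧ p * x = x * p := by
    rintro x a b c hx hab _ (rfl | rfl) k
    · exact ⟨x, a, b, c, hx, hab, comm_of_cj (k.trans (mul_one x))⟩
    · refine ⟨x * η, a, b, c, hx.mulB hη, hab, comm_of_cj ?_⟩
      rw [cj_mul', k, e0, ← Λ.B_comm hβ hη.1, mul_assoc, ← mul_assoc _ _ η, b2, one_mul]
  obtain ⟨⟨c₁, k1⟩, c₂, k2⟩ := MM.ft_fix Λ.Γ ty.2 (Λ.π_sq hN p2)
  obtain ⟨x₁, h1, s1⟩ := Λ.inv_V (α * α) c₁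
  obtain ⟨x₂, h2, s2⟩ := Λ.inv_V' (β * β) c₂
  obtain ⟨β₁, g1, e1⟩ := h1.cj_of hN k1
  obtain ⟨β₂, g2, e2⟩ := h2.cj_of hN k2
  have q1 : β₁ * β₁ = 1 := by
    have := sq_cj p s1
    rwa [e1, St2.sqB Λ h1.A g1, s1, one_mul] at this
  have q2 : β₂ * β₂ = 1 := by
    have := sq_cj p s2
    rwa [e2, St2.sqB Λ h2.A g2, s2, one_mul] at this
  have a0 : α * α ≠ 0 := mul_ne_zero ty.2.a0 ty.2.a0
  have b0 : β * β ≠ 0 := mul_ne_zero ty.2.b0 ty.2.b0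
  have e3 : p * (x₁ * x₂) * p⁻¹ = x₁ * x₂ * (β₁ * β₂) := by
    rw [cj_mul', e1, e2, mul_assoc, ← mul_assoc β₁, Λ.B_comm g1 h2.A]; group
  rcases Λ.rk2 _ hβ _ g1 _ g2 b2 q1 q2 with k | k | k | k | k | k | k
  · exact absurd k b1
  · exact fin _ _ _ _ h1 (.inl a0) _ (.inl k) e1
  · exact fin _ _ _ _ h1 (.inl a0) _ (.inr k.symm) e1
  · exact fin _ _ _ _ h2 (.inr b0) _ (.inl k) e2
  · exact fin _ _ _ _ h2 (.inr b0) _ (.inr k) e2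
  · exact fin _ _ _ _ (h1.mul h2) (.inl (by rwa [add_zero])) _ (.inl (by rw [k, q1])) e3
  · exact fin _ _ _ _ (h1.mul h2) (.inl (by rwa [add_zero])) _
      (.inr (by rw [k, Λ.B_comm hβ g1.1, ← mul_assoc, q1, one_mul])) e3

theorem H1.three {t₁ t₂ t₃ : G} (h1 : t₁ ∈ Λ.N) (h2 : t₂ ∈ Λ.N) (h3 : t₃ ∈ Λ.N) (p1 : t₁ * t₁ = 1)
    (p2 : t₂ * t₂ = 1) (p3 : t₃ * t₃ = 1) (o1 : ¬ Λ.Inn t₁) (o2 : ¬ Λ.Inn t₂) (o3 : ¬ Λ.Inn t₃)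
    (e : Λ.π t₃ = Λ.π t₁ * Λ.π t₂) : ∃ l, ∀ s σ, s = true ∨ σ = true →
      ∃ α β, (Λ.fr l).Ty t₁ s σ α β ∨ (Λ.fr l).Ty t₂ s σ α β ∨ (Λ.fr l).Ty t₃ s σ α β := by
  have q3 := Λ.π_sq h3 p3
  rw [e] at q3
  have c : Λ.π t₁ * Λ.π t₂ = Λ.π t₂ * Λ.π t₁ := by
    rw [← inv_of_sq q3, mul_inv_rev, inv_of_sq (Λ.π_sq h1 p1), inv_of_sq (Λ.π_sq h2 p2)]
  obtain ⟨l, n1, n2⟩ := Λ.frame2 h1 h2 (P2.of_sq p1) (P2.of_sq p2) c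
  refine ⟨l, fun s σ hs => ?_⟩
  have hL : (Λ.fr l).Γ.L = Λ.L := (Λ.fr l).hL
  obtain ⟨α, β, k | k | k⟩ := MM.three (Λ.fr l).Γ (Λ.fr l).ΓK (Λ.fr l).ΓN n1.2 n2.2 (P2.of_sq (Λ.π_sq h1 p1))
    (P2.of_sq (Λ.π_sq h2 p2)) (P2.of_sq q3) (fun k => o1 ⟨h1, hL ▸ k⟩) (fun k => o2 ⟨h2, hL ▸ k⟩)
    (fun k => o3 ⟨h3, by rw [e, ← hL]; exact k⟩) s σ hs
  · exact ⟨α, β, .inl ⟨h1, k⟩⟩
  · exact ⟨α, β, .inr (.inl ⟨h2, k⟩)⟩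
  · exact ⟨α, β, .inr (.inr ⟨h3, by rw [show (Λ.fr l).π t₃ = _ from e]; exact k⟩)⟩


/-- N4. PROOF. `frame2`; all of `t₁, t₂, t₁ t₂` are outer (`H.out`), so by `MM.three` one of them, `p`, has type
`(false, true)` and one, `q`, has type `(true, false)`. Let `ζ ∈ B`, `ζ² ≠ 1`; `p` does not fix `ζ` (`cenN`, `sq1`). Take `x`
from `fix_lift`. `x ∈ N'`, so `cm x q ∈ K' ⊓ Uh` is trivial (`H.out`); `MM.tf_fix` gives `a = b = 0`. -/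
theorem N4 (h : Λ.H) (ad : Adj Λ.toCv Λ'.toCv) (hE : ¬ Λ.El) : ¬ Fo (Λ'.K ⊓ Λ.N) := by
  rintro ⟨r, hr, s, hs, r2, s2, r1, s1, rs, c⟩
  have q : r * s * (r * s) = 1 := by rw [mul_assoc, ← mul_assoc s, ← c, mul_assoc r s, s2, mul_one, r2]
  have q1 : r * s ≠ 1 := fun e => rs (by rw [eq_inv_of_mul_eq_one_left e, inv_of_sq s2])
  have hm := mul_mem hr hs
  obtain ⟨l, k⟩ := H1.three hr.2 hs.2 hm.2 r2 s2 q (fun i => r1 (h.out ad hr.1 (P2.of_sq r2) i))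
    (fun i => s1 (h.out ad hs.1 (P2.of_sq s2) i)) (fun i => q1 (h.out ad hm.1 (P2.of_sq q) i))
    (Λ.π_mul _ hr.2 _ hs.2)
  have k' : ∀ s σ, s = true ∨ σ = true →
      ∃ p ∈ Λ'.K, p * p = 1 ∧ p ≠ 1 ∧ ∃ α β, (Λ.fr l).Ty p s σ α β := fun _ _ e => by
    obtain ⟨α, β, j | j | j⟩ := k _ _ e
    exacts [⟨_, hr.1, r2, r1, α, β, j⟩, ⟨_, hs.1, s2, s1, α, β, j⟩, ⟨_, hm.1, q, q1, α, β, j⟩]
  obtain ⟨p, hp, p2, p1, α, β, tp⟩ := k' false true (.inr rfl)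
  obtain ⟨q, hq, q2, -, α', β', tq⟩ := k' true false (.inl rfl)
  obtain ⟨ζ, hζ, z2⟩ : ∃ ζ ∈ Λ.B, ζ * ζ ≠ 1 := by
    by_contra c
    exact hE fun b hb => by_contra fun e => c ⟨b, hb, e⟩
  obtain ⟨x, a, b, c, hx, hab, e⟩ := fix_lift p2 tp hζ fun e =>
    z2 (sq1 h ad hζ.2.1 (Λ'.cenN hp p2 p1 (comm_of_cj e).symm) hζ.2.2)
  have h1 : cm x q ∈ (Λ.fr l).Uh := by
    rw [show cm x q = x * (q * x⁻¹ * q⁻¹) by simp only [cm]; group]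
    exact mul_mem hx.1 (tq.nu.cj (inv_mem hx.1))
  have h2 := St2.comm_of_cm (h.out ad (mul_mem (Λ'.cjK (Λ'.cenN hp p2 p1 e.symm) hq) (inv_mem hq)) h1.2.2
    (Λ.inn_A h1.1))
  have h3 := (Λ.fr l).π_comm tq.1 hx.N h2.symm
  rw [hx.2] at h3
  have := MM.tf_fix (Λ.fr l).Γ tq.2 ((Λ.fr l).π_sq tq.1 q2) h3
  exact hab.elim (fun k => k this.1) fun k => k this.2

variable (Λ) in
/-- `B = ⟨ζ⟩` is cyclic of order 4, inverted by `t` -/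
structure Z4 (t ζ c : G) : Prop where
  mem : ζ ∈ Λ.B
  sq : ζ * ζ = c
  c1 : c ≠ 1
  c2 : c * c = 1
  one : ∀ β ∈ Λ.B, β * β = 1 → β = 1 ∨ β = c
  two : ∀ β ∈ Λ.B, β * β = 1 ∨ β * β = c
  inv : ∀ β ∈ Λ.B, t * β * t⁻¹ = β⁻¹

/-- PROOF. An element of `B` fixed by `t` lies in `N'` and has square 1 (`sq1`); by `N4` for the exchanged pair
(`H.adj`, `Adj.el`) there is at most one such involution. Let `ζ ∈ B`, `ζ² ≠ 1`. `ζ ζ^t` is fixed, so its square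
`ζ² (ζ²)^t` is trivial and `c = ζ²` (an involution by `ex4`) is THE fixed involution. `ζ ζ^t = c` would give `ζ^t = ζ`; so
`ζ^t = ζ⁻¹`. This holds for every element of order 4. If `d² = 1` then `ζ d` has order 4, so `d^t = d`, `d ∈ {1, c}`. -/
theorem ex_Z4 (h : Λ.H) (ad : Adj Λ.toCv Λ'.toCv) (hE : ¬ Λ.El) {t : G} (ht : t ∈ Λ'.K) (hN : t ∈ Λ.N)
    (t2 : t * t = 1) (t1 : t ≠ 1) : ∃ ζ c, Λ.Z4 t ζ c := by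
  have n4 := N4 (h.adj ad) ad.symm fun e => hE (ad.symm.el e)
  have F : ∀ β ∈ Λ.B, t * β * t⁻¹ = β → β ∈ Λ'.N ∧ β * β = 1 := fun β hβ e =>
    have k := Λ'.cenN ht t2 t1 (comm_of_cj e).symm
    ⟨k, sq1 h ad hβ.2.1 k hβ.2.2⟩
  have U : ∀ β ∈ Λ.B, ∀ β' ∈ Λ.B, t * β * t⁻¹ = β → t * β' * t⁻¹ = β' → β' ≠ 1 → β = 1 ∨ β = β' :=
    fun β hβ β' hβ' e e' b1 => by
      by_contra c
      exact n4 ⟨β, ⟨hβ.2.1, (F β hβ e).1⟩, β', ⟨hβ'.2.1, (F β' hβ' e').1⟩, (F β hβ e).2, (F β' hβ' e').2,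
        (not_or.1 c).1, b1, (not_or.1 c).2, Λ.B_comm hβ hβ'.1⟩
  have K : ∀ ζ ∈ Λ.B, ζ * ζ ≠ 1 → t * (ζ * ζ) * t⁻¹ = ζ * ζ ∧ t * ζ * t⁻¹ = ζ⁻¹ := fun ζ hζ z2 => by
    have hc := Λ.cjB hN hζ
    have f : t * (ζ * (t * ζ * t⁻¹)) * t⁻¹ = ζ * (t * ζ * t⁻¹) := by
      rw [cj_mul', H1.cj2 t2, Λ.B_comm hζ hc.1]
    have f2 := (F _ (mul_mem hζ hc) f).2
    rw [St2.sqB Λ hζ.1 hc, ← cj_mul'] at f2
    have f3 : t * (ζ * ζ) * t⁻¹ = ζ * ζ := by rw [eq_inv_of_mul_eq_one_right f2, inv_of_sq (Λ.ex4 ζ hζ)]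
    refine ⟨f3, ?_⟩
    rcases U _ (mul_mem hζ hc) _ (mul_mem hζ hζ) f f3 z2 with e | e
    · exact eq_inv_of_mul_eq_one_right e
    · exact absurd (F ζ hζ (mul_left_cancel e)).2 z2
  obtain ⟨ζ, hζ, z2⟩ : ∃ ζ ∈ Λ.B, ζ * ζ ≠ 1 := by
    by_contra c
    exact hE fun b hb => by_contra fun e => c ⟨b, hb, e⟩
  have I : ∀ β ∈ Λ.B, t * β * t⁻¹ = β⁻¹ := fun β hβ => by
    by_cases b2 : β * β = 1
    · have := (K _ (mul_mem hζ hβ) (by rwa [St2.sqB Λ hζ.1 hβ, b2, mul_one])).2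
      rw [cj_mul', (K ζ hζ z2).2, ← Λ.B_comm hβ hζ.1, mul_inv_rev] at this
      exact mul_left_cancel this
    · exact (K β hβ b2).2
  refine ⟨ζ, _, hζ, rfl, z2, Λ.ex4 ζ hζ, fun β hβ b2 => ?_, fun β hβ => ?_, I⟩
  · exact U β hβ _ (mul_mem hζ hζ) (by rw [I β hβ, inv_of_sq b2]) (K ζ hζ z2).1 z2
  · by_cases b2 : β * β = 1
    · exact .inl b2
    · exact U _ (mul_mem hβ hβ) _ (mul_mem hζ hζ) (K β hβ b2).1 (K ζ hζ z2).1 z2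

/-- PROOF. `x^t = x β` (`eq_B`), `β² = 1`. If `β = c` then `y = x ζ` commutes with `t`, lies in `N'`, and `y² = c` is inner on
`A'`: `c = 1` by `H.out` for the exchanged pair. -/
theorem Z4.fix {t ζ c : G} (z : Λ.Z4 t ζ c) (h : Λ.H) (ad : Adj Λ.toCv Λ'.toCv) (ht : t ∈ Λ'.K) (hN : t ∈ Λ.N)
    (t2 : t * t = 1) (t1 : t ≠ 1) {x : G} (hx : x ∈ Λ.A) (x2 : x * x = 1)
    (e : Λ.π t * Λ.π x = Λ.π x * Λ.π t) : t * x = x * t := by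
  obtain ⟨β, hβ, e'⟩ := Λ.eq_B hx (Λ.cjA hN hx) (P2.of_sq x2) ((P2.of_sq x2).cj t)
    (by rw [Λ.π_cj hN (Λ.A_le hx), cj_of_comm e])
  have q : β * β = 1 := by
    have := sq_cj t x2
    rwa [e', St2.sqB Λ hx hβ, x2, one_mul] at this
  rcases z.one β hβ q with rfl | rfl
  · exact comm_of_cj (e'.trans (mul_one x))
  have k : t * (x * ζ) * t⁻¹ = x * ζ := by rw [cj_mul', e', z.inv ζ z.mem, ← z.sq]; group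
  have i := Λ'.inn_sq (Λ'.cenN ht t2 t1 (comm_of_cj k).symm)
    ((P2.of_sq x2).mul z.mem.2.2 (Λ.B_comm z.mem hx).symm)
  rw [St2.sqB Λ hx z.mem, x2, one_mul, z.sq] at i
  exact absurd ((h.adj ad).out ad.symm hβ.2.1 hβ.2.2 i) z.c1

/-- PROOF. Let `ẑ` be an involution over `z d` (`inv_V`). `f₀ = ẑ (t ẑ⁻¹ t⁻¹)` is a product of two commuting involutions
(`Y_comm`) over `z (d + α β d²)`, and `f₀ c = (ẑ ζ) (t (ẑ ζ)⁻¹ t⁻¹)`. `f = f₀ β'` with `β'² = 1`, so `f ∈ {f₀, f₀ c}` is a key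
element. -/
theorem Z4.key {t ζ c : G} (z : Λ.Z4 t ζ c) (h : Λ.H) (ad : Adj Λ.toCv Λ'.toCv) (ht : t ∈ Λ'.K)
    (t2 : t * t = 1) (t1 : t ≠ 1) {s : Bool} {α β : F4} (ty : Λ.Ty t s true α β) {f : G} {d : F4}
    (hf : Λ.Ov f 0 0 (d + α * β * (d * d))) (hd : d + α * β * (d * d) ≠ 0) (f2 : f * f = 1) : ¬ Λ'.Inn f := by
  obtain ⟨y, hy, y2⟩ := Λ.inv_V 0 d
  have h1 := ty.ovz hy
  have h0 : Λ.Ov (y * (t * y * t⁻¹)) 0 0 (d + α * β * (d * d)) :=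
    (hy.mul h1).congr (add_zero _) (add_zero _) (by simp [SZ4.fr])
  obtain ⟨γ, hγ, rfl⟩ := h0.eq hf
  have q : γ * γ = 1 := by
    have : y * (t * y * t⁻¹) * (y * (t * y * t⁻¹)) = 1 := by
      rw [mul_assoc y, ← mul_assoc (t * y * t⁻¹), ← Y_comm hy h1, mul_assoc y, sq_cj t y2, mul_one, y2]
    rwa [St2.sqB Λ h0.A hγ, this, one_mul] at f2
  rcases z.one γ hγ q with rfl | rfl
  · exact (h.key ad ht ty.1 t2 t1 hy.A (by rw [inv_of_sq y2, mul_one]) f2 (H1.ne1 hf hd)).2.2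
  · refine (h.key ad ht ty.1 t2 t1 (mul_mem hy.A z.mem.1) ?_ f2 (H1.ne1 hf hd)).2.2
    rw [mul_inv_rev, cj_mul', z.inv _ (inv_mem z.mem), inv_inv, inv_of_sq y2, mul_assoc, ← Λ.B_comm hγ h1.A, ← z.sq]
    group

/-- T1z. PROOF. Involutions `x` over `u (α²) 0 c₁`, `y` over `u 0 (β²) c₂` (`MM.ft_fix`) commute with `t` (`Z4.fix`).
`s = (x y)²` lies over `z γ`, `γ = α² β²`, and is inner on `A'`. `s² ∈ K ⊓ N'` is inner on `A'`, hence trivial (`H.out`).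
`γ = d + α β d²` for `d = w γ`; `Z4.key`. -/
theorem T1z {t ζ c : G} (z : Λ.Z4 t ζ c) (h : Λ.H) (ad : Adj Λ.toCv Λ'.toCv) (ht : t ∈ Λ'.K)
    (t2 : t * t = 1) (t1 : t ≠ 1) {α β : F4} (ty : Λ.Ty t false true α β) : False := by
  obtain ⟨⟨c₁, k1⟩, c₂, k2⟩ := MM.ft_fix Λ.Γ ty.2 (Λ.π_sq ty.1 t2)
  obtain ⟨x, h1, s1⟩ := Λ.inv_V (α * α) c₁
  obtain ⟨y, h2, s2⟩ := Λ.inv_V' (β * β) c₂
  have e1 := z.fix h ad ht ty.1 t2 t1 h1.A s1 (by rw [h1.2]; exact k1)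
  have e2 := z.fix h ad ht ty.1 t2 t1 h2.A s2 (by rw [h2.2]; exact k2)
  have h3 := h1.mul h2
  have i := Λ'.inn_sq (Λ'.cenN ht t2 t1 (by rw [mul_assoc, ← e2, ← mul_assoc, ← e1, mul_assoc])) h3.p2
  have hB := Λ.ov_B.1 (h3.sq.sq.congr rfl rfl (mul_zero _))
  obtain ⟨d, hd, d0⟩ := (by decide : ∀ α β : F4, α ≠ 0 → β ≠ 0 → ∃ d, (α * α + 0) * (0 + β * β) =
    d + α * β * (d * d) ∧ d + α * β * (d * d) ≠ 0) α β ty.2.a0 ty.2.b0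
  exact z.key h ad ht t2 t1 ty (h3.sq.congr rfl rfl hd) d0
    ((h.adj ad).out ad.symm hB.2.1 hB.2.2 (i.mul i)) i

theorem T1 (h : Λ.H) (ad : Adj Λ.toCv Λ'.toCv) {t : G} (ht : t ∈ Λ'.K) (t2 : t * t = 1) (t1 : t ≠ 1)
    {α β : F4} (ty : Λ.Ty t false true α β) : False := by
  by_cases hE : Λ.El
  · exact T1e h ad hE ht t2 t1 ty
  · obtain ⟨ζ, c, z⟩ := ex_Z4 h ad hE ht ty.1 t2 t1
    exact T1z z h ad ht t2 t1 ty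

variable (Λ) in
/-- an involution of another conjugate of `K` which lies in `N` -/
def Out (t : G) : Prop := t ∈ Λ.N ∧ t * t = 1 ∧ t ≠ 1 ∧ ∃ Λ' : C3 G M, Adj Λ.toCv Λ'.toCv ∧ t ∈ Λ'.K

/-- PROOF. The images of `t₁`, `t₂` commute (`π t₃` is an involution); `frame2`; all three images are outside `L`
(`H.out`); `MM.three` gives one of type `(false, true)`; `T1` for `Λ.fr l`. -/
theorem no4 (h : Λ.H) {t₁ t₂ t₃ : G} (h1 : Λ.Out t₁) (h2 : Λ.Out t₂) (h3 : Λ.Out t₃)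
    (e : Λ.π t₃ = Λ.π t₁ * Λ.π t₂) : False := by
  have o : ∀ {t}, Λ.Out t → ¬ Λ.Inn t := fun ⟨_, t2, t1, _, ad, ht⟩ i => t1 (h.out ad ht (P2.of_sq t2) i)
  obtain ⟨l, k⟩ := H1.three h1.1 h2.1 h3.1 h1.2.1 h2.2.1 h3.2.1 (o h1) (o h2) (o h3) e
  have f : ∀ {t α β}, Λ.Out t → ¬ (Λ.fr l).Ty t false true α β := fun ⟨_, t2, t1, Λ', ad, ht⟩ ty =>
    T1 (Λ := Λ.fr l) (Λ' := Λ') h ad ht t2 t1 ty
  obtain ⟨α, β, j | j | j⟩ := k false true (.inr rfl)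
  exacts [f h1 j, f h2 j, f h3 j]

variable (Λ) in
/-- key elements -/
def Key (t a : G) : Prop := a * a = 1 ∧ a ≠ 1 ∧ ∃ x ∈ Λ.A, a = x * (t * x⁻¹ * t⁻¹)

/-- PROOF. For a key element `a`: `a t = x t x⁻¹ ∈ (Λ'.cj x).K`, `x ∉ N'` (else `a ∈ K'` is inner on `A'`), so
`Λ'.Out (a t)` (`adj_cj`), and `π' (a t) = π' a`. `no4` for `Λ'`. -/
theorem no_key3 (h : Λ.H) (ad : Adj Λ.toCv Λ'.toCv) {t : G} (ht : t ∈ Λ'.K) (hN : t ∈ Λ.N) (t2 : t * t = 1)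
    (t1 : t ≠ 1) {a b : G} (h1 : Λ.Key t a) (h2 : Λ.Key t b) (h3 : Λ.Key t (a * b)) : False := by
  have f : ∀ {a}, Λ.Key t a → a ∈ Λ'.N ∧ Λ'.Out (a * t) := by
    rintro a ⟨a2, a1, x, hx, e⟩
    obtain ⟨-, k2, k3⟩ := h.key ad ht hN t2 t1 hx e a2 a1
    have e1 : a * t = x * t * x⁻¹ := by rw [e]; group
    refine ⟨k2, mul_mem k2 (Λ'.K_le ht), e1 ▸ sq_cj x t2, e1 ▸ cj_ne x t1, Λ'.cj x, adj_cj fun c => k3 ?_,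
      (K_cj rfl).2 (by rw [e1]; simpa [mul_assoc] using ht)⟩
    exact Λ'.inn_K ((mul_mem_cancel_right ht).1 (e1 ▸ Λ'.cjK c ht))
  refine no4 (h.adj ad) (f h1).2 (f h2).2 (f h3).2 ?_
  rw [Λ'.π_mul _ (f h3).1 _ (Λ'.K_le ht), Λ'.π_mul _ (f h1).1 _ (Λ'.K_le ht), Λ'.π_mul _ (f h2).1 _ (Λ'.K_le ht),
    Λ'.π_K ht, mul_one, mul_one, mul_one, Λ'.π_mul _ (f h1).1 _ (f h2).1]

end CL.C41.C3
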