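import Cfsg.Agent.INV.C41.H1

/-! # Hypothesis (H), part 2: it cannot hold (notation as in `H1`) -/

set_option autoImplicit false
set_option linter.unusedSectionVars false

namespace CL.C41.C3

open Subgroup CL.MSS CL.SZ4 Cv

universe u v
variable {G : Type u} {M : Type v} [Group G] [Group M] [Finite G] [Finite M] {Λ Λ' : C3 G M}

theorem H2.lifts {t : G} (t2 : t * t = 1) {α β : F4} (ty : Λ.Ty t true true α β) (P : G → Prop)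
    (hP : ∀ β₁ ∈ Λ.B, ∀ β₂ ∈ Λ.B, t * β₁ * t⁻¹ = β₁⁻¹ → t * β₂ * t⁻¹ = β₂⁻¹ → P β₁ ∨ P β₂ ∨ P (β₁ * β₂)) :
    ∃ x a c γ, a ≠ 0 ∧ Λ.Ov x a (α * (a * a)) c ∧ γ ∈ Λ.B ∧ P γ ∧ t * x * t⁻¹ = x * γ := by
  obtain ⟨-, k⟩ := MM.tt_fix Λ.Γ ty.2 (Λ.π_sq ty.1 t2)
  have f : ∀ a, ∃ x c γ, Λ.Ov x a (α * (a * a)) c ∧ γ ∈ Λ.B ∧ t * x * t⁻¹ = x * γ ∧ t * γ * t⁻¹ = γ⁻¹ := fun a => by
    obtain ⟨c, e⟩ := k a
    obtain ⟨x, hx⟩ := Λ.ex_ov a (α * (a * a)) c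
    obtain ⟨γ, hγ, e'⟩ := hx.cj_of ty.1 e
    refine ⟨x, c, γ, hx, hγ, e', eq_inv_of_mul_eq_one_right ?_⟩
    have := H1.cj2 t2 x
    rwa [e', cj_mul', e', mul_assoc, mul_eq_left] at this
  obtain ⟨x₁, c₁, β₁, h1, g1, e1, i1⟩ := f 1
  obtain ⟨x₂, c₂, β₂, h2, g2, e2, i2⟩ := f F4.w
  rcases hP _ g1 _ g2 i1 i2 with p | p | p
  · exact ⟨_, _, _, _, one_ne_zero, h1, g1, p, e1⟩
  · exact ⟨_, _, _, _, by decide, h2, g2, p, e2⟩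
  · refine ⟨_, 1 + F4.w, _, _, by decide, (h1.mul h2).congr rfl ?_ rfl, mul_mem g1 g2, p, ?_⟩
    · rw [← mul_add]; congr 1
    · rw [cj_mul', e1, e2, mul_assoc, ← mul_assoc β₁, Λ.B_comm g1 h2.A]; group

theorem H2.onto {t : G} (t2 : t * t = 1) {α β : F4} (ty : Λ.Ty t true false α β) (d : F4) :
    ∃ x ∈ Λ.Uh, Λ.Ov (x * (t * x⁻¹ * t⁻¹)) 0 0 d := by
  obtain ⟨a, e⟩ := (MM.tf_onto Λ.Γ ty.2 (Λ.π_sq ty.1 t2)).2 d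
  obtain ⟨x, hx⟩ := Λ.ex_ov a (α * a) 0
  have k := ty.nu.cj (inv_mem hx.1)
  refine ⟨x, hx.1, mul_mem hx.1 k, ?_⟩
  rw [Λ.π_mul _ hx.N _ (Λ.Uh_le_N k), Λ.π_cj ty.1 (inv_mem hx.N), Λ.π_inv hx.N, hx.2, e]


/-- T3e. PROOF. `B` has at most one involution fixed by `t` (two would give `Λ'.Out b₁`, `Out b₂`, `Out (b₁ b₂)`: `no4` for
`Λ'`). `MM.tt_fix`: lifts `x₁`, `x₂` of the fixed elements `u a (α a²) c_a`, `a = 1, w`, satisfy `x_i^t = x_i β_i` with `β_i` fixed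
by `t` (`t² = 1`); so one of `x₁`, `x₂`, `x₁ x₂` is fixed: `y` over `(a, α a², ·)`, `a ≠ 0`. `y²` lies over `z α` and is inner
on `A'`. Let `x` lie over `u a 0 0`, `j = x x^t`; `j^t = j⁻¹` and `y = j s` with `s` over `Y` (central, `s² = 1`: `cen_Y`,
`sq_W`). `y^t = y` gives `j² = s^t s`, so `y² = j² = s (t s⁻¹ t⁻¹)` is a key element. -/
theorem T3e (h : Λ.H) (ad : Adj Λ.toCv Λ'.toCv) (hE : Λ.El) {t : G} (ht : t ∈ Λ'.K) (t2 : t * t = 1) (t1 : t ≠ 1)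
    {α β : F4} (ty : Λ.Ty t true true α β) : False := by
  have o : ∀ b ∈ Λ.B, t * b * t⁻¹ = b⁻¹ → b ≠ 1 → Λ'.Out b := fun b hb e b1 =>
    ⟨Λ'.cenN ht t2 t1 (comm_of_cj (e.trans (inv_of_sq (hE b hb)))).symm, hE b hb, b1, Λ, ad.symm, hb.2.1⟩
  obtain ⟨y, a, c, _, ha, hy, -, rfl, e⟩ := H2.lifts t2 ty (· = 1) fun β₁ g1 β₂ g2 i1 i2 => by
    by_contra k
    simp only [not_or] at k
    have o1 := o _ g1 i1 k.1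
    have o2 := o _ g2 i2 k.2.1
    exact no4 (h.adj ad) o1 o2 (o _ (mul_mem g1 g2) (by rw [cj_mul', i1, i2, Λ.B_comm g1 g2.1, mul_inv_rev]) k.2.2)
      (Λ'.π_mul _ o1.1 _ o2.1)
  rw [mul_one] at e
  obtain ⟨x, hx⟩ := Λ.ex_ov a 0 0
  obtain ⟨d, hx'⟩ := ty.ov hx
  replace hx' : Λ.Ov (t * x * t⁻¹) 0 (α * (a * a)) d := Ov.congr hx' (by simp [SZ4.fr]) rfl rfl
  have hj := (hx.mul hx').congr (add_zero _) (zero_add _) rfl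
  have ej : t * (x * (t * x * t⁻¹)) * t⁻¹ = (x * (t * x * t⁻¹))⁻¹ := by
    rw [cj_mul', H1.cj2 t2, mul_inv_rev x, inv_of_sq (sq_W hE hx), inv_of_sq (sq_W' hE hx')]
  generalize x * (t * x * t⁻¹) = j at hj ej
  have hs := (hj.inv.mul hy).congr (add_self _) (add_self _) rfl
  obtain ⟨s, rfl⟩ : ∃ s, y = j * s := ⟨j⁻¹ * y, by group⟩
  rw [inv_mul_cancel_left] at hs
  refine (h.key ad ht ty.1 t2 t1 (Λ.cjA ty.1 hs.A) ?_ (sq_W hE hy.sq) (H1.ne1 hy.sq ?_)).2.2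
    (Λ'.inn_sq (Λ'.cenN ht t2 t1 (comm_of_cj e).symm) hy.p2)
  · rw [cj_mul', ej, inv_mul_eq_iff_eq_mul] at e
    rw [show (t * s * t⁻¹)⁻¹ = t * s⁻¹ * t⁻¹ by group, H1.cj2 t2, e, mul_assoc, ← mul_assoc s, ← cen_Y hE hj.1 hs,
      mul_assoc j s, sq_W hE hs]
    group
  · exact mul_ne_zero ha (mul_ne_zero ty.2.a0 (mul_ne_zero ha ha))

/-- T3z. PROOF. As in `T3e`, `x_i^t = x_i β_i`; by `Z4.two` one of `β₁`, `β₂`, `β₁ β₂` has square 1, so lies in `{1, c}`;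
then `y = x` or `y = x ζ` is fixed by `t`. `y² = ẑ β'` with an involution `ẑ` over `z α` fixed by `t` (`Z4.fix`), so `β'` is
fixed and inverted by `t` and `y²` is an involution, inner on `A'`. `α = d + α² d²` for `d = w α`; `Z4.key`. -/
theorem T3z {t ζ c : G} (z : Λ.Z4 t ζ c) (h : Λ.H) (ad : Adj Λ.toCv Λ'.toCv) (ht : t ∈ Λ'.K)
    (t2 : t * t = 1) (t1 : t ≠ 1) {α β : F4} (ty : Λ.Ty t true true α β) : False := by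
  obtain ⟨x, a, c', γ, ha, hx, hγ, g2, e⟩ := H2.lifts t2 ty (fun b => b * b = 1) fun β₁ g1 β₂ g2 _ _ =>
    (z.two _ g1).imp_right fun e1 => (z.two _ g2).imp_right fun e2 => by
      rw [St2.sqB Λ g1.1 g2, e1, e2, z.c2]
  obtain ⟨y, hy, e'⟩ : ∃ y, Λ.Ov y a (α * (a * a)) c' ∧ t * y * t⁻¹ = y := by
    rcases z.one γ hγ g2 with rfl | rfl
    · exact ⟨x, hx, e.trans (mul_one x)⟩
    · exact ⟨x * ζ, hx.mulB z.mem, by rw [cj_mul', e, z.inv ζ z.mem, ← z.sq]; group⟩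
  have i := Λ'.inn_sq (Λ'.cenN ht t2 t1 (comm_of_cj e').symm) hy.p2
  have hB := Λ.ov_B.1 (hy.sq.sq.congr rfl rfl (mul_zero _))
  obtain ⟨rfl, -⟩ := MM.tt_fix Λ.Γ ty.2 (Λ.π_sq ty.1 t2)
  obtain ⟨d, hd, d0⟩ := (by decide : ∀ α a : F4, α ≠ 0 → a ≠ 0 → ∃ d, a * (α * (a * a)) =
    d + α * α * (d * d) ∧ d + α * α * (d * d) ≠ 0) β a ty.2.a0 ha
  exact z.key h ad ht t2 t1 ty (hy.sq.congr rfl rfl hd) d0
    ((h.adj ad).out ad.symm hB.2.1 hB.2.2 (i.mul i)) i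

/-- T2e. PROOF. `φ x = x (t x⁻¹ t⁻¹)`. By `MM.tf_onto` there are `x₁`, `x₂ ∈ Uh` with `φ x₁` over `z 1`, `φ x₂` over `z w`;
`φ (x₁ x₂) = x₁ (φ x₂) x₁⁻¹ φ x₁ = φ x₁ φ x₂`. `no_key3`. -/
theorem T2e (h : Λ.H) (ad : Adj Λ.toCv Λ'.toCv) (hE : Λ.El) {t : G} (ht : t ∈ Λ'.K) (t2 : t * t = 1) (t1 : t ≠ 1)
    {α β : F4} (ty : Λ.Ty t true false α β) : False := by
  obtain ⟨x₁, h1, k1⟩ := H2.onto t2 ty 1
  obtain ⟨x₂, h2, k2⟩ := H2.onto t2 ty F4.w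
  have k3 := (k2.mul k1).congr (add_zero _) (add_zero _) rfl
  refine no_key3 h ad ht ty.1 t2 t1 ⟨sq_W hE k2, H1.ne1 k2 (by decide), x₂, h2.1, rfl⟩
    ⟨sq_W hE k1, H1.ne1 k1 one_ne_zero, x₁, h1.1, rfl⟩
    ⟨sq_W hE k3, H1.ne1 k3 (by decide), x₁ * x₂, mul_mem h1.1 h2.1, ?_⟩
  rw [← mul_assoc, ← cen_Y hE h1 k2]
  group

/-- T2z. PROOF. `x₁`, `x₂`, `φ` as in `T2e`. An element over `Y` has square in `{1, c}` (`inv_V`, `Z4.two`), and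
`φ (x₁ x₂) = φ x₂ γ φ x₁` with `γ ∈ B`, `γ² = 1` (`cm_Y`), so its square is `(φ x₁)² (φ x₂)²` (`Y_comm`). Hence `f = φ x` is an
involution for some `x ∈ {x₁, x₂, x₁ x₂}`. `c = φ ζ`, `f c = φ (x ζ)`; `no_key3` for `f`, `c`. -/
theorem T2z {t ζ c : G} (z : Λ.Z4 t ζ c) (h : Λ.H) (ad : Adj Λ.toCv Λ'.toCv) (ht : t ∈ Λ'.K)
    (t2 : t * t = 1) (t1 : t ≠ 1) {α β : F4} (ty : Λ.Ty t true false α β) : False := by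
  have sq : ∀ s d, Λ.Ov s 0 0 d → s * s = 1 ∨ s * s = c := fun s d hs => by
    obtain ⟨y, hy, y2⟩ := Λ.inv_V 0 d
    obtain ⟨γ, hγ, rfl⟩ := hy.eq hs
    rw [St2.sqB Λ hy.A hγ, y2, one_mul]
    exact z.two γ hγ
  obtain ⟨x, hx, d, hd, k, f2⟩ : ∃ x ∈ Λ.Uh, ∃ d ≠ 0, Λ.Ov (x * (t * x⁻¹ * t⁻¹)) 0 0 d ∧
      x * (t * x⁻¹ * t⁻¹) * (x * (t * x⁻¹ * t⁻¹)) = 1 := by
    obtain ⟨x₁, h1, k1⟩ := H2.onto t2 ty 1
    obtain ⟨x₂, h2, k2⟩ := H2.onto t2 ty F4.w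
    rcases sq _ _ k1 with e1 | e1
    · exact ⟨x₁, h1, _, one_ne_zero, k1, e1⟩
    rcases sq _ _ k2 with e2 | e2
    · exact ⟨x₂, h2, _, by decide, k2, e2⟩
    obtain ⟨g1, g2⟩ := cm_Y h1 k2
    have k3 := (k2.mul k1).congr (add_zero _) (add_zero _) rfl
    have e : x₁ * x₂ * (t * (x₁ * x₂)⁻¹ * t⁻¹) =
        x₂ * (t * x₂⁻¹ * t⁻¹) * (x₁ * (t * x₁⁻¹ * t⁻¹)) * cm x₁ (x₂ * (t * x₂⁻¹ * t⁻¹)) := by
      rw [← Λ.B_comm g1 k3.A]; simp only [cm]; group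
    refine ⟨x₁ * x₂, mul_mem h1 h2, F4.w + 1 + 0 * 0, by decide, e ▸ k3.mulB g1, ?_⟩
    have cc := Y_comm k1 k2
    rw [e, St2.sqB Λ k3.A g1, g2, mul_one]
    generalize x₁ * (t * x₁⁻¹ * t⁻¹) = f₁ at *
    generalize x₂ * (t * x₂⁻¹ * t⁻¹) = f₂ at *
    rw [mul_assoc, ← mul_assoc f₁, cc, mul_assoc, e1, ← mul_assoc, e2, z.c2]
  have hc : c ∈ Λ.B := z.sq ▸ mul_mem z.mem z.mem
  refine no_key3 h ad ht ty.1 t2 t1 ⟨f2, H1.ne1 k hd, x, hx.1, rfl⟩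
    ⟨z.c2, z.c1, ζ, z.mem.1, by rw [z.inv _ (inv_mem z.mem), inv_inv, z.sq]⟩
    ⟨by rw [St2.sqB Λ k.A hc, f2, z.c2, mul_one], H1.ne1 (k.mulB hc) hd, x * ζ, mul_mem hx.1 z.mem.1, ?_⟩
  rw [mul_inv_rev, cj_mul' t ζ⁻¹, z.inv _ (inv_mem z.mem), inv_inv, mul_assoc,
    ← Λ.B_comm hc (Λ.cjA ty.1 (inv_mem hx.1)), ← z.sq]
  group

/-- PROOF. `frame2` (with `t, t`), `Nu.ty`; type `(false, false)` is inner (`Ty.inn`, `H.out`); `T1`, `T2e`/`T2z`,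
`T3e`/`T3z` (`ex_Z4`) for `Λ.fr l`. -/
theorem notH (h : Λ.H) (ad : Adj Λ.toCv Λ'.toCv) {t : G} (ht : t ∈ Λ'.K) (hN : t ∈ Λ.N) (t2 : t * t = 1)
    (t1 : t ≠ 1) : False := by
  obtain ⟨l, n, -⟩ := Λ.frame2 hN hN (P2.of_sq t2) (P2.of_sq t2) rfl
  obtain ⟨s, σ, α, β, ty⟩ := n.ty
  cases s <;> cases σ
  · exact t1 (h.out ad ht (P2.of_sq t2) (ty.inn (P2.of_sq t2)))
  · exact T1 (Λ := Λ.fr l) h ad ht t2 t1 ty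
  · by_cases hE : Λ.El
    · exact T2e (Λ := Λ.fr l) h ad hE ht t2 t1 ty
    · obtain ⟨ζ, c, z⟩ := ex_Z4 (Λ := Λ.fr l) h ad hE ht hN t2 t1
      exact T2z z h ad ht t2 t1 ty
  · by_cases hE : Λ.El
    · exact T3e (Λ := Λ.fr l) h ad hE ht t2 t1 ty
    · obtain ⟨ζ, c, z⟩ := ex_Z4 (Λ := Λ.fr l) h ad hE ht hN t2 t1
      exact T3z z h ad ht t2 t1 ty

end CL.C41.C3
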