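import Cfsg.Agent.INV.C41.St2

/-!
# An inner involution in `K'`: `B` is elementary abelian

`Adj.dis`: a 2-element of `K ⊓ K'` is trivial. `cenN`: the centraliser of an involution of `K'` lies in `N'`.
If `t ∈ N` and `π t = z 1` then `t = s k` with `s` over `z 1` and `k ∈ K` (`ex_ov`, `eq_of_π`), and `cm x t = cm x s` for `x ∈ A`.
-/

set_option autoImplicit false
set_option linter.unusedSectionVars false

namespace CL.C41.C3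

open Subgroup CL.MSS CL.SZ4 Cv

universe u v
variable {G : Type u} {M : Type v} [Group G] [Group M] [Finite G] [Finite M] {Λ Λ' : C3 G M}

theorem dec_u {t : G} (hN : t ∈ Λ.N) {a b c : F4} (e : Λ.π t = Λ.Γ.u a b c) :
    ∃ s k, Λ.Ov s a b c ∧ k ∈ Λ.K ∧ t = s * k := by
  obtain ⟨s, hs⟩ := Λ.ex_ov a b c
  obtain ⟨k, hk, e'⟩ := Λ.eq_of_π hs.N hN (hs.2.trans e.symm)
  exact ⟨s, k, hs, hk, e'⟩

theorem cm_K {x k : G} (hx : x ∈ Λ.A) (s : G) (hk : k ∈ Λ.K) : cm x (s * k) = cm x s := by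
  rw [cm, cm, show x * (s * k) * x⁻¹ * (s * k)⁻¹ = x * s * (k * x⁻¹) * k⁻¹ * s⁻¹ by group, Λ.comm hk (inv_mem hx)]
  group

theorem cen_t {t x : G} (hN : t ∈ Λ.N) {a c d : F4} (e : Λ.π t = Λ.Γ.z d) (hx : Λ.Ov x a (d * (a * a)) c) :
    x * t = t * x := by
  obtain ⟨s, k, hs, hk, rfl⟩ := dec_u hN e
  rw [← mul_assoc, cen_pl hx hs, mul_assoc, ← Λ.comm hk hx.A, mul_assoc]

theorem ne_of_z {t : G} {d : F4} (hd : d ≠ 0) (e : Λ.π t = Λ.Γ.z d) : t ≠ 1 := fun l =>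
  hd (Λ.Γ.z_eq_one.1 (by rw [← e, l, Λ.π_one]))

/-- PROOF. Elements over `(a, a², ·)` centralise `t`, elements over `(a, d a², ·)` centralise `t'` (`cen_pl`); they lie in
`N'` and every element of `Uh` is a product of two such (`(a, b) = (a₁, a₁²) + (a₂, d a₂²)`, `decide`; the `Y`-part goes
into the first factor). So `Uh ≤ N'`, and `cm x t = cm x s ∈ K' ⊓ B` is trivial (`cm_Y`, `Adj.dis`); `el_of_cen`. -/
theorem nf0 (ad : Adj Λ.toCv Λ'.toCv) {t t' : G} (ht : t ∈ Λ'.K) (hN : t ∈ Λ.N) (t2 : t * t = 1)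
    (e : Λ.π t = Λ.Γ.z 1) (ht' : t' ∈ Λ'.K) (hN' : t' ∈ Λ.N) (t2' : t' * t' = 1) {d : F4} (d0 : d ≠ 0) (d1 : d ≠ 1)
    (e' : Λ.π t' = Λ.Γ.z d) : Λ.El := by
  have hU : ∀ x ∈ Λ.Uh, x ∈ Λ'.N := fun x hx => by
    obtain ⟨a, b, c, ox⟩ := Λ.ov_of_mem hx
    obtain ⟨a₂, e₂⟩ := (by decide : ∀ a b d : F4, d ≠ 0 → d ≠ 1 →
      ∃ a₂, b + d * (a₂ * a₂) = 1 * ((a + a₂) * (a + a₂))) a b d d0 d1
    obtain ⟨y, oy⟩ := Λ.ex_ov a₂ (d * (a₂ * a₂)) 0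
    have h1 := Λ'.cenN ht' t2' (ne_of_z d0 e') (cen_t hN' e' oy)
    have h2 := Λ'.cenN ht t2 (ne_of_z one_ne_zero e) (cen_t hN e ((ox.mul oy.inv).congr rfl e₂ rfl))
    simpa using mul_mem h2 h1
  obtain ⟨s, k, hs, hk, rfl⟩ := dec_u hN e
  refine el_of_cen hs one_ne_zero fun x hx => ?_
  have h1 := (cm_Y hx hs).1
  have h2 : cm x s ∈ Λ'.K := cm_K (Λ.Uh_le_A hx) s hk ▸ mul_mem (Λ'.cjK (hU x hx) ht) (inv_mem ht)
  exact comm_of_cj (mul_inv_eq_one.1 (ad.dis h1.2.1 h2 h1.2.2))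

/-- NF. PROOF. `π t'` commutes with `z 1`, so `π t' = u a b c` (`cenL`), `a b = 0`. If `a = b = 0`: `c = 0` gives `t' = 1`,
`c = 1` gives `t t' = 1` (`Adj.dis`), otherwise `nf0`. If not, choose `a'` with `d = a' b + a a'² ∉ {0, 1}` (`decide`) and `x`
over `u a' (a'²) 0`; `x` centralises `t`, so `x ∈ N'` and `t₃ = cm x t' ∈ K'`; `t' = y k` with `y` over `(a, b, c)`, so
`t₃ = cm x y` lies over `z d`; `t₃² ∈ B ⊓ K'` is trivial; `nf0`. -/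
theorem NF (ad : Adj Λ.toCv Λ'.toCv) (hE : ¬ Λ.El) {t t' : G} (ht : t ∈ Λ'.K) (hN : t ∈ Λ.N) (t2 : t * t = 1)
    (e : Λ.π t = Λ.Γ.z 1) (ht' : t' ∈ Λ'.K) (hi : Λ.Inn t') (t2' : t' * t' = 1) (c : t * t' = t' * t) :
    t' = 1 ∨ t' = t := by
  obtain ⟨a, b, d, e'⟩ := Λ.Γ.cenL _ (Λ.hL ▸ hi.2) 1 one_ne_zero (by
    rw [show Λ.Γ.u 0 0 1 = Λ.π t from e.symm]; exact Λ.π_comm hi.1 hN c.symm)
  have ab : a * b = 0 := Λ.Γ.z_eq_one.1 (by rw [← Λ.Γ.u_sq a b d, ← e']; exact Λ.π_sq hi.1 t2')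
  by_cases h0 : a = 0 ∧ b = 0
  · obtain ⟨rfl, rfl⟩ := h0
    by_cases d0 : d = 0
    · subst d0
      exact Or.inl (ad.dis ((Λ.ker _ hi.1).1 (e'.trans Λ.Γ.u_zero)) ht' (P2.of_sq t2'))
    by_cases d1 : d = 1
    · subst d1
      have := ad.dis ((Λ.ker _ (mul_mem hN hi.1)).1 (by rw [Λ.π_mul _ hN _ hi.1, e, e']; exact Λ.Γ.z_sq 1))
        (mul_mem ht ht') ((P2.of_sq t2).mul (P2.of_sq t2') c)
      exact Or.inr (by rw [eq_inv_of_mul_eq_one_right this, inv_of_sq t2])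
    exact absurd (nf0 ad ht hN t2 e ht' hi.1 t2' d0 d1 e') hE
  obtain ⟨a', n0, n1⟩ := (by decide : ∀ a b : F4, a * b = 0 → ¬ (a = 0 ∧ b = 0) →
    ∃ a', a' * b + a * (1 * (a' * a')) ≠ 0 ∧ a' * b + a * (1 * (a' * a')) ≠ 1) a b ab h0
  obtain ⟨x, ox⟩ := Λ.ex_ov a' (1 * (a' * a')) 0
  have xN := Λ'.cenN ht t2 (ne_of_z one_ne_zero e) (cen_t hN e ox)
  obtain ⟨y, k, oy, hk, rfl⟩ := dec_u hi.1 e'
  have h2 : cm x y ∈ Λ'.K := cm_K ox.A y hk ▸ mul_mem (Λ'.cjK xN ht') (inv_mem ht')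
  have o := ox.cm oy
  have hb := Λ.ov_B.1 (o.sq.congr rfl rfl (mul_zero _))
  exact absurd (nf0 ad ht hN t2 e h2 o.N (ad.dis hb.2.1 (mul_mem h2 h2) hb.2.2) n0 n1 o.2) hE

/-- N1. PROOF. `c' = ζ'²` is an involution (`ex4`). `ζ'` normalises `Uh` (`nu_of_comm`). For `x` over `(a, a², c)`: `x ∈ N'`
and `cm x ζ' ∈ B' ⊓ Uh` (`cjB`, `Nu.cj`). If one of these is non-trivial, a power of it is an involution of `B' ⊓ A`
commuting with `c'`, so it is `c'` by `NF`. Otherwise `MM.no_root` applies to `π ζ'`. -/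
theorem N1 (ad : Adj Λ.toCv Λ'.toCv) (hE : ¬ Λ.El) {ζ : G} (hζ : ζ ∈ Λ'.B) (hN : ζ ∈ Λ.N)
    (e : Λ.π (ζ * ζ) = Λ.Γ.z 1) : ζ * ζ ∈ Λ.A := by
  have cK : ζ * ζ ∈ Λ'.K := mul_mem hζ.2.1 hζ.2.1
  have c2 := Λ'.ex4 ζ hζ
  have e' : Λ.π ζ * Λ.π ζ = Λ.Γ.z 1 := by rw [← Λ.π_mul _ hN _ hN, e]
  have nu : Λ.Nu ζ := nu_of_comm hN one_ne_zero (by rw [← e', mul_assoc])
  by_contra hc
  refine MM.no_root Λ.Γ Λ.ΓK Λ.ΓN e' fun a c => ?_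
  obtain ⟨x, ox⟩ := Λ.ex_ov a (1 * (a * a)) c
  have xN := Λ'.cenN cK c2 (ne_of_z one_ne_zero e) (cen_t (mul_mem hN hN) e ox)
  have h1 : cm x ζ ∈ Λ'.B := mul_mem (Λ'.cjB xN hζ) (inv_mem hζ)
  have h2 : cm x ζ ∈ Λ.Uh := by
    rw [show cm x ζ = x * (ζ * x⁻¹ * ζ⁻¹) by rw [cm]; group]
    exact mul_mem ox.1 (nu.cj (inv_mem ox.1))
  have h3 : cm x ζ = 1 := by
    by_contra n
    obtain ⟨m, m2, m1⟩ := h1.2.2.exists_inv n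
    rcases NF ad hE cK (mul_mem hN hN) c2 e (pow_mem h1 m).2.1 (Λ.inn_A (pow_mem h2 m).1) m2
      (Λ'.comm cK (pow_mem h1 m).1) with l | l
    exacts [m1 l, hc (l ▸ (pow_mem h2 m).1)]
  have := Λ.π_comm hN ox.N (comm_of_cj (mul_inv_eq_one.1 h3)).symm
  rwa [ox.2, one_mul] at this

/-- (Q). PROOF. `q` fixes `z 1` and `q²` acts trivially modulo `Y`: `α β = 1 = β α²`, so `α = β = 1`. For `a ≠ 0` let `x` be an
involution over `u a 0 0`, `x' = q x q⁻¹` (over `(0, a²)`), `j = x x'`, `e = j² = s β` (over `z (a³) = z 1`). `q² x q⁻² = x γ`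
with `γ ∈ B`, `γ² = 1` (`cm_Y`), so `q j q⁻¹ = x' x γ = j⁻¹ γ` and `q` inverts `e`; it also centralises `e = s β`. So `β² = 1`.
`x` inverts `j` and `e`: `x s x⁻¹ β = s β⁻¹`, so `x` centralises `s`. Hence all elements over `(a, 0, ·)` centralise `s`
(`Y_comm`), and so do the elements over `(a, a², ·)` (`cen_pl`); they generate `Uh`; `el_of_cen`. -/
theorem Qtt {s q : G} (hs : Λ.Ov s 0 0 1) (s2 : s * s = 1) {α β : F4} (ty : Λ.Ty q true true α β)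
    (q2 : q * q = 1 ∨ q * q = s) (c : q * s = s * q) (hB : ∀ b ∈ Λ.B, q * b = b * q) : Λ.El := by
  have h1 := (ty.ovz hs)
  rw [cj_of_comm c] at h1
  have gam : ∀ x ∈ Λ.Uh, ∃ γ ∈ Λ.B, γ * γ = 1 ∧ q * (q * x * q⁻¹) * q⁻¹ = x * γ := fun x hx => by
    rw [cj_cj]
    rcases q2 with l | l <;> rw [l]
    · exact ⟨1, one_mem _, mul_one _, by simp⟩
    · exact ⟨_, (cm_Y (inv_mem hx) hs).1, (cm_Y (inv_mem hx) hs).2, by rw [cm]; group⟩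
  obtain ⟨rfl, rfl⟩ : α = 1 ∧ β = 1 := by
    obtain ⟨x, ox⟩ := Λ.ex_ov 1 0 0
    obtain ⟨d, o1⟩ := ty.ov ox
    obtain ⟨d', o2⟩ := ty.ov o1
    obtain ⟨γ, hγ, -, l⟩ := gam x ox.1
    rw [l] at o2
    exact (by decide : ∀ α β : F4, 1 = α * β * SZ4.fr true 1 → 1 = β * SZ4.fr true (α * SZ4.fr true 1) →
      α = 1 ∧ β = 1) α β (hs.inj h1).2.2 ((ox.mulB hγ).inj o2).1
  have V : ∀ y a c', Λ.Ov y a 0 c' → y * s = s * y := fun y a c' oy => by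
    by_cases a0 : a = 0
    · subst a0; exact Y_comm oy hs
    obtain ⟨x, ox, x2⟩ := Λ.inv_V a 0
    obtain ⟨d, o1⟩ := ty.ov ox
    obtain ⟨γ, hγ, γ2, l⟩ := gam x ox.1
    have x2' := sq_cj q x2
    generalize hx' : q * x * q⁻¹ = x' at o1 l x2'
    have o2 := (ox.mul o1).sq.congr rfl rfl
      ((by decide : ∀ a : F4, a ≠ 0 → (a + 1 * SZ4.fr true 0) * (0 + 1 * SZ4.fr true a) = 1) a a0)
    obtain ⟨β₀, hβ, eβ⟩ := hs.eq o2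
    have i1 : (x * x')⁻¹ = x' * x := by rw [mul_inv_rev, inv_of_sq x2, inv_of_sq x2']
    have i2 : q * (x * x' * (x * x')) * q⁻¹ = x' * x * (x' * x) := by
      rw [cj_mul', cj_mul', hx', l, show x' * (x * γ) * (x' * (x * γ)) = x' * x * (γ * (x' * x)) * γ by group,
        Λ.B_comm hγ (mul_mem o1.A ox.A), mul_assoc, mul_assoc (x' * x) γ, γ2, mul_one]
    rw [cj_of_comm (by rw [eβ, ← mul_assoc, c, mul_assoc, hB _ hβ, mul_assoc])] at i2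
    have i3 : x * (s * β₀) = s * β₀ * x := by
      rw [← eβ]
      calc _ = x * (x' * x * (x' * x)) := by rw [i2]
        _ = _ := by group
    have i4 : x * s = s * x := by
      rw [mul_assoc, Λ.B_comm hβ ox.A, ← mul_assoc, ← mul_assoc] at i3
      exact mul_right_cancel i3
    have i5 := Y_comm ((ox.inv.mul oy).congr (add_self _) (add_zero _) rfl) hs
    calc y * s = x * (x⁻¹ * y * s) := by group
      _ = _ := by rw [i5, ← mul_assoc, i4]; group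
  refine el_of_cen hs one_ne_zero fun y hy => ?_
  obtain ⟨a, b, d, oy⟩ := Λ.ov_of_mem hy
  obtain ⟨p, op⟩ := Λ.ex_ov (b * b) (1 * (b * b * (b * b))) 0
  have i1 := V _ _ _ ((oy.mul op.inv).congr rfl ((by decide : ∀ b : F4, b + 1 * (b * b * (b * b)) = 0) b) rfl)
  calc y * s = y * p⁻¹ * (p * s) := by group
    _ = _ := by rw [cen_pl op hs, ← mul_assoc, i1]; group

/-- PROOF. `t` centralises `B` (`Inn.comm`), so `B ≤ N'`; `inn_sq`. -/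
theorem swap (ad : Adj Λ.toCv Λ'.toCv) {t : G} (ht : t ∈ Λ'.K) (t2 : t * t = 1) (t1 : t ≠ 1) (hi : Λ.Inn t)
    {ζ : G} (hζ : ζ ∈ Λ.B) : ζ ∈ Λ'.N ∧ Λ'.Inn (ζ * ζ) := by
  have h := Λ'.cenN ht t2 t1 (hi.comm hζ.1 hζ.2.1).symm
  exact ⟨h, Λ'.inn_sq h hζ.2.2⟩

/-- PROOF. `s = ζ²` lies over `z 1`. Let `p ∈ K'` be an involution different from `s` (`Adj.fo`, `Fo.exists_ne`); it commutes
with `ζ ∈ A'`. `p`, `ζ` normalise `Uh` (`nu_of_comm`). Elements `k ∈ K'` centralise `B`: `cm k b ∈ B ⊓ K'`. `p` is outer (`NF`),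
and none of `p`, `ζ`, `ζ p` has type `(true, true)` (`Qtt`). So (`Ty.mul`) some `ξ ∈ {ζ, ζ p}` has type `(false, false)`:
`ξ ∈ K'`, `ξ² = s`, `ξ p = p ξ`, `π ξ = u a₀ b₀ c₀` with `a₀ b₀ = 1` (`Ty.inn`, `Nu.inn`), fixed by `π p`.
Type `(true, false)` of `p` contradicts `MM.tf_fix`. Let `p` have type `(false, true, α, β)`: `α β = 1`, `a₀ = α a₀²`,
`b₀ = β b₀²`. Choose `a` with `a + α a² ≠ 0` and `x` over `u a (a²) 0`; `x` centralises `s`, so `x ∈ N'` and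
`e = cm x p ∈ K' ⊓ Uh` lies over `(a + α a², a² + β a) = (a₀, b₀)` (`decide`). `r = ξ e⁻¹ ∈ K'` is a 2-element (`pg_sup`) with
`π r ∈ Y`, so `r² ∈ K ⊓ K'` is trivial and `r ∈ {1, s}` by `NF`. Hence `p` centralises `e`; but `p` inverts `e`, and `e²` lies
over `z 1`. -/
theorem fin_ne (ad : Adj Λ.toCv Λ'.toCv) (hE : ¬ Λ.El) (h4 : Fo Λ.K) {ζ : G} (hζ : ζ ∈ Λ'.B) (hA : ζ * ζ ∈ Λ.A)
    (e : Λ.π (ζ * ζ) = Λ.Γ.z 1) (k1 : Λ.K ≤ Λ'.N) (k2 : Λ'.K ≤ Λ.N) : False := by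
  have zK := hζ.2.1
  have s2 := Λ'.ex4 ζ hζ
  have sA : ζ * ζ ∈ Λ'.A := mul_mem hζ.1 hζ.1
  have sK : ζ * ζ ∈ Λ'.K := mul_mem zK zK
  have zz : ∀ p ∈ Λ'.K, p * ζ = ζ * p := fun p hp => Λ'.comm hp hζ.1
  generalize es : ζ * ζ = s at *
  have hs : Λ.Ov s 0 0 1 := ⟨⟨hA, e ▸ Λ.Γ.u_mem .., P2.of_sq s2⟩, e⟩
  have cs : ∀ k ∈ Λ'.K, k * s = s * k := fun k hk => Λ'.comm hk sA
  have nu : ∀ k ∈ Λ'.K, Λ.Nu k := fun k hk =>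
    nu_of_comm (k2 hk) one_ne_zero (e ▸ Λ.π_comm (k2 hk) hs.N (cs k hk))
  have cB : ∀ k ∈ Λ'.K, ∀ b ∈ Λ.B, k * b = b * k := fun k hk b hb => by
    have h1 : cm k b ∈ Λ.B := mul_mem (Λ.cjB (k2 hk) hb) (inv_mem hb)
    have h2 : cm k b ∈ Λ'.K := by
      rw [show cm k b = k * (b * k⁻¹ * b⁻¹) by rw [cm]; group]
      exact mul_mem hk (Λ'.cjK (k1 hb.2.1) (inv_mem hk))
    exact comm_of_cj (mul_inv_eq_one.1 (ad.dis h1.2.1 h2 h1.2.2))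
  have tt : ∀ q ∈ Λ'.K, (q * q = 1 ∨ q * q = s) → ∀ α β, ¬ Λ.Ty q true true α β := fun q hq q2 α β ty =>
    hE (Qtt hs s2 ty q2 (cs q hq) (cB q hq))
  obtain ⟨p, hp, p2, p1, ps⟩ := (ad.fo h4).exists_ne s
  have po : ¬ Λ.Inn p := fun hi => (NF ad hE sK hs.N s2 e hp hi p2 (cs p hp).symm).elim p1 ps
  have zp : ζ * p * (ζ * p) = s := by
    rw [show ζ * p * (ζ * p) = ζ * (p * ζ) * p by group, zz p hp, show ζ * (ζ * p) * p = ζ * ζ * (p * p) by group,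
      es, p2, mul_one]
  obtain ⟨s₁, σ₁, α, β, tp⟩ := (nu p hp).ty
  obtain ⟨ξ, hξ, ξ2, ξp, α', β', tξ⟩ : ∃ ξ ∈ Λ'.K, ξ * ξ = s ∧ p * ξ = ξ * p ∧ ∃ α β, Λ.Ty ξ false false α β := by
    obtain ⟨s₂, σ₂, α₂, β₂, tz⟩ := (nu ζ zK).ty
    obtain ⟨α₃, β₃, t3⟩ := tz.mul tp
    have A1 : ∀ α β, Λ.Ty ζ false false α β →
        ∃ ξ ∈ Λ'.K, ξ * ξ = s ∧ p * ξ = ξ * p ∧ ∃ α β, Λ.Ty ξ false false α β :=
      fun _ _ h => ⟨ζ, zK, es, zz p hp, _, _, h⟩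
    have A2 : ∀ α β, Λ.Ty (ζ * p) false false α β →
        ∃ ξ ∈ Λ'.K, ξ * ξ = s ∧ p * ξ = ξ * p ∧ ∃ α β, Λ.Ty ξ false false α β :=
      fun _ _ h => ⟨_, mul_mem zK hp, zp, by rw [← mul_assoc, zz p hp], _, _, h⟩
    have A3 := tt ζ zK (Or.inr es)
    have A4 := tt _ (mul_mem zK hp) (Or.inr zp)
    have A5 := tt p hp (Or.inl p2)
    have A6 : ∀ α β, ¬ Λ.Ty p false false α β := fun _ _ h => po (h.inn (P2.of_sq p2))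
    cases s₁ <;> cases σ₁ <;> cases s₂ <;> cases σ₂ <;>
      first | exact A1 _ _ tz | exact A2 _ _ t3 | exact absurd tz (A3 _ _) | exact absurd t3 (A4 _ _) |
        exact absurd tp (A5 _ _) | exact absurd tp (A6 _ _)
  have pξ : P2 ξ := ⟨2, by rw [show 2 ^ 2 = 2 * 2 from rfl, pow_mul, pow_two, pow_two, ξ2, s2]⟩
  obtain ⟨y, a₀, b₀, c₀, oy, k, hk, ey⟩ := tξ.nu.inn pξ (tξ.inn pξ)
  have eξ : Λ.π ξ = Λ.Γ.u a₀ b₀ c₀ := by rw [ey, Λ.π_mul _ oy.N _ (Λ.K_le hk), Λ.π_K hk, mul_one, oy.2]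
  have ab : a₀ * b₀ = 1 := Λ.Γ.z_inj (by rw [← Λ.Γ.u_sq a₀ b₀ c₀, ← eξ, ← Λ.π_mul _ (k2 hξ) _ (k2 hξ), ξ2, e])
  have cp := Λ.π_comm (k2 hp) (k2 hξ) ξp
  rw [eξ] at cp
  cases s₁ <;> cases σ₁
  · exact po (tp.inn (P2.of_sq p2))
  · have h1 := tp.ovz hs
    rw [cj_of_comm (cs p hp)] at h1
    obtain ⟨d, h2⟩ := tp.2.u a₀ b₀ c₀
    rw [cj_of_comm cp] at h2
    obtain ⟨a, e1, e2⟩ := (by decide : ∀ α β a₀ b₀ : F4, 1 = α * β * SZ4.fr true 1 → a₀ * b₀ = 1 →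
      a₀ = α * SZ4.fr true a₀ → b₀ = β * SZ4.fr true b₀ →
      ∃ a, a + α * SZ4.fr true a = a₀ ∧ 1 * (a * a) + β * SZ4.fr true (1 * (a * a)) = b₀)
      α β a₀ b₀ (hs.inj h1).2.2 ab (Λ.Γ.u_inj h2).1 (Λ.Γ.u_inj h2).2.1
    obtain ⟨x, ox⟩ := Λ.ex_ov a (1 * (a * a)) 0
    have xN := Λ'.cenN sK s2 (ne_of_z one_ne_zero e) (cen_pl ox hs)
    obtain ⟨d', o1⟩ := tp.ov ox.inv
    have o2 := (ox.mul o1).congr e1 e2 rfl
    have eK : x * (p * x⁻¹ * p⁻¹) ∈ Λ'.K := by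
      rw [← mul_assoc, ← mul_assoc]; exact mul_mem (Λ'.cjK xN hp) (inv_mem hp)
    have ie : p * (x * (p * x⁻¹ * p⁻¹)) * p⁻¹ = (x * (p * x⁻¹ * p⁻¹))⁻¹ := by
      rw [cj_mul', cj_cj, p2]; group
    generalize x * (p * x⁻¹ * p⁻¹) = f at o2 eK ie
    have rK : ξ * f⁻¹ ∈ Λ'.K := mul_mem hξ (inv_mem eK)
    have pr : P2 (ξ * f⁻¹) := P2.of_mem (Cv.pg_sup Λ.pg_Uh pξ fun d hd => tξ.nu.cj hd)
      (mul_mem (mem_sup_left (mem_zpowers _)) (mem_sup_right (inv_mem o2.1)))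
    obtain ⟨c₂, er⟩ : ∃ c₂, Λ.π (ξ * f⁻¹) = Λ.Γ.z c₂ :=
      ⟨_, by rw [Λ.π_mul _ (k2 hξ) _ o2.inv.N, eξ, o2.inv.2, Λ.Γ.u_mul, add_self, add_self]⟩
    have r2 := ad.dis ((Λ.ker _ (k2 (mul_mem rK rK))).1 (by rw [Λ.π_mul _ (k2 rK) _ (k2 rK), er, Λ.Γ.z_sq]))
      (mul_mem rK rK) (pr.mul pr rfl)
    have pf : p * f = f * p := by
      have : p * (ξ * f⁻¹) = ξ * f⁻¹ * p := by
        rcases NF ad hE sK hs.N s2 e rK ⟨k2 rK, er ▸ Λ.hL ▸ Λ.Γ.uL ..⟩ r2 (cs _ rK).symm with l | l <;> rw [l]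
        exacts [by simp, cs p hp]
      rw [← mul_assoc, ξp, mul_assoc, mul_assoc] at this
      exact Commute.inv_right_iff.1 (mul_left_cancel this)
    rw [cj_of_comm pf] at ie
    have o3 := o2.sq
    rw [ab, mul_eq_one_iff_eq_inv.2 ie] at o3
    exact one_ne_zero (o3.not_K (one_mem _)).2.2
  · rw [(MM.tf_fix Λ.Γ tp.2 (Λ.π_sq (k2 hp) p2) cp).1, zero_mul] at ab
    exact zero_ne_one ab
  · exact tt p hp (Or.inl p2) _ _ tp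

/-- PROOF. Suppose not; take `ζ ∈ B`, `ζ' ∈ B'` with non-trivial squares `c`, `c'` (`Adj.el`). `swap` gives `ζ ∈ N'`, `c`
inner on `A'`; `swap` for the exchanged pair and the involution `c` gives `ζ' ∈ N`, `c'` inner on `A`. `frame_z` and `N1`
(twice) give `c' ∈ A`, `c ∈ A'`; so `K ≤ C(c') ≤ N'`, `K' ≤ N`. `fin_ne` for `Λ.fr l`. -/
theorem el_of_inn (ad : Adj Λ.toCv Λ'.toCv) (h4 : Fo Λ.K) {t : G} (ht : t ∈ Λ'.K) (t2 : t * t = 1) (t1 : t ≠ 1)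
    (hi : Λ.Inn t) : Λ.El := by
  by_contra hE
  have hE' : ¬ Λ'.El := fun h => hE (ad.symm.el h)
  obtain ⟨ζ, hζ, z1⟩ : ∃ ζ ∈ Λ.B, ζ * ζ ≠ 1 := by simpa [Cv.El] using hE
  obtain ⟨ζ', hζ', z1'⟩ : ∃ ζ ∈ Λ'.B, ζ * ζ ≠ 1 := by simpa [Cv.El] using hE'
  have cK := mul_mem hζ.2.1 hζ.2.1
  have cK' := mul_mem hζ'.2.1 hζ'.2.1
  have c2 := Λ.ex4 ζ hζ
  have c2' := Λ'.ex4 ζ' hζ'
  obtain ⟨n1, i1⟩ := swap ad ht t2 t1 hi hζ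
  obtain ⟨n2, i2⟩ := swap ad.symm cK c2 z1 i1 hζ'
  obtain ⟨l, el⟩ := Λ.frame_z i2 c2' fun h => z1' (ad.dis h cK' (P2.of_sq c2'))
  obtain ⟨l', el'⟩ := Λ'.frame_z i1 c2 fun h => z1 (ad.dis cK h (P2.of_sq c2))
  have a1 := N1 (Λ := Λ.fr l) ad hE hζ' n2 el
  have a2 := N1 (Λ := Λ'.fr l') ad.symm hE' hζ n1 el'
  exact fin_ne (Λ := Λ.fr l) ad hE h4 hζ' a1 el (fun k hk => Λ'.cenN cK' c2' z1' (Λ.comm hk a1))
    fun k hk => Λ.cenN cK c2 z1 (Λ'.comm hk a2)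

end CL.C41.C3
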