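import Cfsg.Agent.INV.C41.I1
import Cfsg.Agent.INV.C41.H2

/-! # An inner involution in `K'`, `B` elementary abelian; the main theorem for `O₂(Z(A)) ≠ 1` -/

set_option autoImplicit false
set_option linter.unusedSectionVars false

namespace CL.C41.C3

open Subgroup CL.MSS CL.SZ4 Cv

universe u v
variable {G : Type u} {M : Type v} [Group G] [Group M] [Finite G] [Finite M] {Λ Λ' : C3 G M}

/-- PROOF. `t = s k` with `s` over `z d`; `cen_Y`, `cenN`. -/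
theorem Uh_le (hE : Λ.El) {t : G} (ht : t ∈ Λ'.K) (hN : t ∈ Λ.N) (t2 : t * t = 1) (t1 : t ≠ 1) {d : F4}
    (e : Λ.π t = Λ.Γ.z d) : Λ.Uh ≤ Λ'.N := by
  obtain ⟨s, hs⟩ := Λ.ex_ov 0 0 d
  obtain ⟨k, hk, rfl⟩ := Λ.eq_of_π hs.N hN (hs.2.trans e.symm)
  refine fun x hx => Λ'.cenN ht t2 t1 ?_
  rw [← mul_assoc, cen_Y hE hx hs, mul_assoc, ← Λ.comm hk (Λ.Uh_le_A hx), mul_assoc]

/-- PROOF. `e = x k` with `x` over `(a, 0, c)`; for `y` over `(0, b, 0)`: `κ a b = cm x y = cm e y ∈ K'`. -/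
theorem kap_mem {κ : F4 → F4 → G} (h : Λ.Kap κ) (hU : Λ.Uh ≤ Λ'.N) {e : G} (he : e ∈ Λ'.K) (hN : e ∈ Λ.N)
    {a c : F4} (p : Λ.π e = Λ.Γ.u a 0 c) (b : F4) : κ a b ∈ Λ'.K := by
  obtain ⟨x, hx⟩ := Λ.ex_ov a 0 c
  obtain ⟨y, hy⟩ := Λ.ex_ov 0 b 0
  obtain ⟨k, hk, rfl⟩ := Λ.eq_of_π hx.N hN (hx.2.trans p.symm)
  have : cm x y = x * k * (y * (x * k)⁻¹ * y⁻¹) := by
    rw [show x * k * (y * (x * k)⁻¹ * y⁻¹) = x * (k * y) * k⁻¹ * x⁻¹ * y⁻¹ by group, Λ.comm hk hy.A, cm]; group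
  rw [← h.eq x y a b c 0 hx hy, this]
  exact mul_mem he (Λ'.cjK (hU hy.1) (inv_mem he))

/-- I2a. PROOF. Let `a ≠ 0`, `m` from `conj_V` (`m z₁ m⁻¹ = u a 0 c`, `m ∈ L ⊓ N(V)`), `Λ₁ = Λ.fr m`, so `π e = Γ₁.z 1`,
`Γ₁.V = V`, and `Λ₁.Uh ≤ N'` (`Uh_le`). (*) `z d = Γ₁.z d'` forces `d = 0`: otherwise `u 0 1 0` commutes with `Γ₁.z d'`, lies in
`Γ₁.U` (`cenL`) and commutes with `Γ₁.z 1 = u a 0 c`, so `a = 0`. `s = κ a a⁻¹ ∈ K'` (`kap_mem`) lies over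
`z 1 = Γ₁.u a₁ 0 c₁`, `a₁ ≠ 0` by (*). By `kap_mem` for `Λ₁` (`ex_kap`), `κ₁ a₁ b ∈ K' ⊓ A` lies over
`Γ₁.z (a₁ b) = u a_b 0 c_b`; by (*) `a_1`, `a_w`, `a_1 + a_w = a_v` are non-zero. `kap_mem`: `κ a_1 b, κ a_w b ∈ K'`, so all
`κ a' b ∈ K'` (`add1`) and `B ≤ K'` (`gen`), against `Adj.dis`. -/
theorem I2a (ad : Adj Λ.toCv Λ'.toCv) (hE : Λ.El) (hB : ∃ b ∈ Λ.B, b ≠ 1) (hU : Λ.Uh ≤ Λ'.N) {e : G}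
    (he : e ∈ Λ'.K) (hN : e ∈ Λ.N) (e2 : e * e = 1) {a c : F4} (p : Λ.π e = Λ.Γ.u a 0 c) : a = 0 := by
  by_contra a0
  obtain ⟨m, -, mV, em⟩ := Λ.Γ.conj_V (a := a) (c := c) (Or.inl a0)
  have p1 : Λ.π e = (Λ.fr m).Γ.z 1 := p.trans em.symm
  have e1 : e ≠ 1 := fun l => a0 (Λ.Γ.u_eq_one.1 (by rw [← p, l, Λ.π_one])).1
  have hU1 : (Λ.fr m).Uh ≤ Λ'.N := Uh_le (Λ := Λ.fr m) hE he hN e2 e1 p1
  have st : ∀ d d', Λ.Γ.z d = (Λ.fr m).Γ.z d' → d' = 0 := fun d d' l => by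
    by_contra n
    obtain ⟨a', b', c', l'⟩ := (Λ.fr m).Γ.cenL (Λ.Γ.u 0 1 0) (by rw [(Λ.fr m).hL]; exact Λ.hL ▸ Λ.Γ.uL ..) d' n
      (by rw [show (Λ.fr m).Γ.u 0 0 d' = Λ.Γ.z d from l.symm]; exact (Λ.Γ.z_comm ..).symm)
    have := (Λ.fr m).Γ.z_comm a' b' c' 1
    rw [← l', ← p1, p, Λ.Γ.u_comm_iff] at this
    exact a0 (by simpa using this)
  obtain ⟨κ, hκ⟩ := Λ.ex_kap hE
  obtain ⟨κ₁, hκ₁⟩ := (Λ.fr m).ex_kap hE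
  have hs := hκ.ov a a⁻¹
  rw [mul_inv_cancel₀ a0] at hs
  obtain ⟨a₁, c₁, e₁⟩ := (mem_normalizer_iff.1 (inv_mem mV) _).1 (Λ.Γ.v_mem 0 1)
  have e₁' : Λ.Γ.z 1 = (Λ.fr m).Γ.u a₁ 0 c₁ := by
    change _ = m * Λ.Γ.u a₁ 0 c₁ * m⁻¹
    rw [← e₁]; group
  have n₁ : a₁ ≠ 0 := by
    rintro rfl
    rw [st _ _ e₁', Lz.u_zero, Λ.Γ.z_eq_one] at e₁'
    exact one_ne_zero e₁'
  have key : ∀ b, ∃ a' c', (Λ.fr m).Γ.z (a₁ * b) = Λ.Γ.u a' 0 c' ∧ ∀ b', κ a' b' ∈ Λ'.K := fun b => by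
    obtain ⟨a', c', l⟩ := (mem_normalizer_iff.1 mV _).1 (Λ.Γ.v_mem 0 (a₁ * b))
    exact ⟨a', c', l, kap_mem hκ hU (kap_mem hκ₁ hU1 (kap_mem hκ hU he hN p a⁻¹) hs.N (hs.2.trans e₁') b)
      (hκ₁.ov a₁ b).N ((hκ₁.ov a₁ b).2.trans l)⟩
  obtain ⟨p₁, q₁, l₁, k₁⟩ := key 1
  obtain ⟨p₂, q₂, l₂, k₂⟩ := key F4.w
  have m₁ : p₁ ≠ 0 := by rintro rfl; exact n₁ (by simpa using st _ _ l₁.symm)
  have m₂ : p₂ ≠ 0 := by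
    rintro rfl; exact mul_ne_zero n₁ (by decide) (st _ _ l₂.symm)
  have m₃ : p₁ + p₂ ≠ 0 := fun l => by
    have := (Λ.fr m).Γ.z_mul (a₁ * 1) (a₁ * F4.w)
    rw [l₁, l₂, Λ.Γ.v_mul, l, ← mul_add] at this
    exact mul_ne_zero n₁ (by decide) (st _ _ this)
  obtain ⟨b, hb, b1⟩ := hB
  refine b1 (ad.dis hb.2.1 (hκ.gen _ (fun a' b' => ?_) hb) hb.2.2)
  rcases (by decide : ∀ p q r : F4, p ≠ 0 → q ≠ 0 → p + q ≠ 0 → r = p + p ∨ r = p ∨ r = q ∨ r = p + q)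
    p₁ p₂ a' m₁ m₂ m₃ with rfl | rfl | rfl | rfl
  exacts [hκ.add1 .. ▸ mul_mem (k₁ _) (k₁ _), k₁ _, k₂ _, hκ.add1 .. ▸ mul_mem (k₁ _) (k₂ _)]

theorem mem_rs {r x : G} (hr : r ∈ Λ.K) (r2 : r * r = 1) :
    x ∈ zpowers r ⊔ Λ.W ↔ ∃ w ∈ Λ.W, x = w ∨ x = r * w := by
  rw [mem_sup_of_normalizes_right (zpowers_le.2 (centralizer_le_normalizer _
    (mem_centralizer_iff.2 fun y hy => (Λ.comm hr (Λ.Uh_le_A (Λ.W_le hy))).symm)))]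
  constructor
  · rintro ⟨_, ⟨k, rfl⟩, w, hw, rfl⟩
    have h2 : r ^ (2 : ℤ) = 1 := by rw [zpow_two, r2]
    refine ⟨w, hw, ?_⟩
    rcases Int.even_or_odd' k with ⟨m, rfl | rfl⟩
    · left; simp only [zpow_mul, h2, one_zpow, one_mul]
    · right; simp only [zpow_add, zpow_mul, h2, one_zpow, one_mul, zpow_one]
  · rintro ⟨w, hw, rfl | rfl⟩
    exacts [⟨1, one_mem _, x, hw, one_mul x⟩, ⟨r, mem_zpowers r, w, hw, rfl⟩]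

theorem big (ad : Adj Λ.toCv Λ'.toCv) (hE : Λ.El) (hB : ∃ b ∈ Λ.B, b ≠ 1) (hU : Λ.Uh ≤ Λ'.N)
    (cB : Nat.card Λ.B = 2) {r : G} (hr : r ∈ Λ.K) (r2 : r * r = 1) (rN : r ∈ Λ'.N) (rA : r ∉ Λ.A) :
    zpowers r ⊔ Λ.W ≤ Λ'.N ∧ (∀ d ∈ zpowers r ⊔ Λ.W, d * d = 1) ∧ 16 ≤ Nat.card (Λ'.im (zpowers r ⊔ Λ.W)) := by
  have le : zpowers r ⊔ Λ.W ≤ Λ'.N := sup_le (zpowers_le.2 rN) (Λ.W_le.trans hU)
  have leN : zpowers r ⊔ Λ.W ≤ Λ.N := sup_le (zpowers_le.2 (Λ.K_le hr)) (Λ.W_le.trans Λ.Uh_le_N)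
  have sq : ∀ d ∈ zpowers r ⊔ Λ.W, d * d = 1 := fun d hd => by
    obtain ⟨w, hw, e⟩ := (mem_rs hr r2).1 hd
    obtain ⟨a, c, o⟩ := Λ.mem_W.1 hw
    rcases e with rfl | rfl
    · exact sq_W hE o
    · rw [mul_assoc, ← mul_assoc w, ← Λ.comm hr o.A, mul_assoc, sq_W hE o, mul_one, r2]
  refine ⟨le, sq, ?_⟩
  have c1 : Λ.W.relIndex (zpowers r ⊔ Λ.W) = 2 := relIndex_eq_two_iff_exists_notMem_and.2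
    ⟨r, mem_sup_left (mem_zpowers r), fun l => rA (Λ.Uh_le_A (Λ.W_le l)), fun b hb => by
      obtain ⟨w, hw, rfl | rfl⟩ := (mem_rs hr r2).1 hb
      · exact Or.inr hw
      · left; rwa [Λ.comm hr (Λ.Uh_le_A (Λ.W_le hw)), mul_assoc, r2, mul_one]⟩
  have c2 := (Λ.W.subgroupOf (zpowers r ⊔ Λ.W)).card_mul_index
  rw [show (Λ.W.subgroupOf (zpowers r ⊔ Λ.W)).index = 2 from c1,
    Nat.card_congr (subgroupOfEquivOfLe le_sup_right).toEquiv, Λ.card_W, cB, Λ'.card_im le] at c2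
  have c3 := Λ.card_im (D := (zpowers r ⊔ Λ.W) ⊓ Λ'.K) (inf_le_left.trans leN)
  rw [(eq_bot_iff_forall ((zpowers r ⊔ Λ.W) ⊓ Λ'.K ⊓ Λ.K)).2 fun d hd => ad.dis hd.2 hd.1.2 (P2.of_sq (sq d hd.1.1)),
    card_bot, mul_one] at c3
  have c4 : Λ.im ((zpowers r ⊔ Λ.W) ⊓ Λ'.K) ≤ Λ.Γ.Y := fun m hm => by
    obtain ⟨d, hd, rfl⟩ := (Λ.mem_im (inf_le_left.trans leN)).1 hm
    obtain ⟨w, hw, e⟩ := (mem_rs hr r2).1 hd.1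
    obtain ⟨a, c, o⟩ := Λ.mem_W.1 hw
    have p : Λ.π d = Λ.Γ.u a 0 c := by
      rcases e with rfl | rfl
      · exact o.2
      · rw [Λ.π_mul _ (Λ.K_le hr) _ o.N, Λ.π_K hr, one_mul, o.2]
    obtain rfl := I2a ad hE hB hU hd.2 (leN hd.1) (sq d hd.1) p
    exact ⟨c, p⟩
  have c5 := card_le_of_le c4
  rw [Λ.Γ.card_Y, ← c3] at c5
  nlinarith

/-- PROOF. `W ≤ N'` is elementary abelian of order 32 (`card_W`), so by `card_le` for `Λ'` there is `1 ≠ s ∈ W ⊓ K'`; `s` lies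
over `z d` (`I2a`), `d ≠ 0` (`Adj.dis`). `K ≤ C(s) ≤ N'`. Let `r ∈ K` be an involution, `r ≠ c`; `r ∉ A`.
`D₁ = zpowers r ⊔ W`, `D₂ = zpowers r ⊔ sw.W` are elementary abelian of order 64 in `N'`. `π` is injective on `D_i ⊓ K'`
(`Adj.dis`) with image in `Y` (`I2a` for `Λ`, `Λ.sw`), so `|D_i ⊓ K'| ≤ 4` and `|im' D_i| ≥ 16` (`card_im`). Take `a, b₁, b₂`
from `Kap.half` for `X = K'`, `x` over `(a, 0, 0)`, `y` over `(0, b₂, 0)`. `MM.two_big` (inside the 2-group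
`im' (zpowers r ⊔ Uh)`) gives `y' = π' (r^i y_b)` with `cm (π' x) y' = π' (κ a b) ∉ {1, π' (κ a b₂)}`; but
`b ∈ {0, b₁, b₂, b₁ + b₂}` and `π' (κ a b₁) = 1`. -/
theorem two_false (ad : Adj Λ.toCv Λ'.toCv) (h4 : Fo Λ.K) {c : G} (hc : c ∈ Λ.B) (c1 : c ≠ 1)
    (hB : ∀ β ∈ Λ.B, β = 1 ∨ β = c) (hU : Λ.Uh ≤ Λ'.N) : False := by
  have hE : Λ.El := fun b hb => by
    rcases hB b hb with rfl | rfl
    · simp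
    · exact (hB _ (mul_mem hb hb)).resolve_right fun l => c1 (by simpa using l)
  have cB : Nat.card Λ.B = 2 := by
    rw [Nat.card_eq_two_iff' (1 : Λ.B)]
    exact ⟨⟨c, hc⟩, fun l => c1 (congrArg Subtype.val l), fun y hy =>
      Subtype.ext ((hB y y.2).resolve_left fun l => hy (Subtype.ext l))⟩
  have hB' : ∃ b ∈ Λ.B, b ≠ 1 := ⟨c, hc, c1⟩
  obtain ⟨s, hs, s1⟩ : ∃ s ∈ Λ.W ⊓ Λ'.K, s ≠ 1 := by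
    by_contra! n
    have := Λ'.card_le (Λ.W_le.trans hU) fun d hd => let ⟨_, _, o⟩ := Λ.mem_W.1 hd; sq_W hE o
    rw [Λ.card_W, cB, (eq_bot_iff_forall _).2 n, card_bot] at this
    omega
  obtain ⟨a₀, d, os⟩ := Λ.mem_W.1 hs.1
  obtain rfl := I2a ad hE hB' hU hs.2 os.N (sq_W hE os) os.2
  have d0 : d ≠ 0 := by
    rintro rfl
    exact s1 (ad.dis (Λ.ov_B.1 os).2.1 hs.2 os.p2)
  obtain ⟨r, hr, r2, r1, rc⟩ := h4.exists_ne c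
  have rN : r ∈ Λ'.N := Λ'.cenN hs.2 (sq_W hE os) s1 (Λ.comm hr os.A)
  have rA : r ∉ Λ.A := fun l => (hB r ⟨l, hr, P2.of_sq r2⟩).elim r1 rc
  obtain ⟨κ, hκ⟩ := Λ.ex_kap hE
  obtain ⟨a, b₁, b₂, n₁, k₁, k₂⟩ := hκ.half hc c1 hB (fun l => c1 (ad.dis hc.2.1 l hc.2.2)) os d0 hs.2
  obtain ⟨x, hx⟩ := Λ.ex_ov a 0 0
  obtain ⟨y, hy⟩ := Λ.ex_ov 0 b₂ 0
  obtain ⟨le1, sq1, c1'⟩ := big ad hE hB' hU cB hr r2 rN rA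
  obtain ⟨le2, sq2, c2'⟩ := big (Λ := Λ.sw) ad hE hB' (Λ.sw_Uh ▸ hU) cB hr r2 rN rA
  have kN : ∀ a b, κ a b ∈ Λ'.N := fun a b => hU (hκ.ov a b).1
  have k0 : κ a 0 = 1 := by simpa using hκ.add2 a 0 0
  have sqi : ∀ D ≤ Λ'.N, (∀ d ∈ D, d * d = 1) → ∀ d ∈ Λ'.im D, d * d = 1 := fun D le h d hd => by
    obtain ⟨d', hd', rfl⟩ := (Λ'.mem_im le).1 hd
    exact Λ'.π_sq (le hd') (h d' hd')
  have leU : zpowers r ⊔ Λ.Uh ≤ Λ'.N := sup_le (zpowers_le.2 rN) hU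
  have imle : ∀ D ≤ zpowers r ⊔ Λ.Uh, Λ'.im D ≤ Λ'.im (zpowers r ⊔ Λ.Uh) := fun D le m hm => by
    obtain ⟨d', hd', rfl⟩ := (Λ'.mem_im (le.trans leU)).1 hm
    exact (Λ'.mem_im leU).2 ⟨d', le hd', rfl⟩
  obtain ⟨y', hy', n1, n2⟩ := MM.two_big Λ'.Γ Λ'.ΓK Λ'.ΓN ((Λ'.pg_im (Cv.pg_sup Λ.pg_Uh (P2.of_sq r2) fun d hd => by
      rwa [cj_of_comm (Λ.comm hr (Λ.Uh_le_A hd))])).to_le
      (sup_le (imle _ (sup_le_sup_left Λ.W_le _)) (imle _ (sup_le_sup_left Λ.W'_le _))))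
    (sqi _ le1 sq1) (sqi _ le2 sq2) c1' c2' ((Λ'.mem_im le1).2 ⟨x, mem_sup_right (Λ.mem_W.2 ⟨_, _, hx⟩), rfl⟩)
    ((Λ'.mem_im le2).2 ⟨y, mem_sup_right (Λ.mem_W'.2 ⟨_, _, hy⟩), rfl⟩) (by
      rw [← Λ'.π_cm (hU hx.1) (hU hy.1)]
      exact fun l => k₂ (hκ.eq _ _ _ _ _ _ hx hy ▸ (Λ'.ker _ (hκ.eq _ _ _ _ _ _ hx hy ▸ kN a b₂)).1 l))
  obtain ⟨z, hz, rfl⟩ := (Λ'.mem_im le2).1 hy'
  obtain ⟨w, hw, ez⟩ := (mem_rs (Λ := Λ.sw) hr r2).1 hz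
  obtain ⟨b, c', ow⟩ := Λ.mem_W'.1 hw
  have : cm x z = κ a b := by
    rw [← hκ.eq _ _ _ _ _ _ hx ow]
    rcases ez with rfl | rfl
    · rfl
    · rw [cm, ← mul_assoc, ← Λ.comm hr hx.A, show r * x * w * x⁻¹ * (r * w)⁻¹ = r * cm x w * r⁻¹ by group,
        cj_of_comm (Λ.comm hr (hx.cm ow).A)]
  rw [← Λ'.π_cm (hU hx.1) (le2 hz), show x * z * x⁻¹ * z⁻¹ = κ a b from this] at n1 n2
  rw [← Λ'.π_cm (hU hx.1) (hU hy.1), show x * y * x⁻¹ * y⁻¹ = κ a b₂ from hκ.eq _ _ _ _ _ _ hx hy] at n2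
  rcases (by decide : ∀ p q r : F4, p ≠ 0 → q ≠ 0 → q ≠ p → r = 0 ∨ r = p ∨ r = q ∨ r = p + q) b₁ b₂ b n₁
    (fun l => k₂ (by rw [l, k0]; exact one_mem _)) (fun l => k₂ (l ▸ k₁)) with rfl | rfl | rfl | rfl
  · exact n1 (by rw [k0, Λ'.π_one])
  · exact n1 (Λ'.π_K k₁)
  · exact n2 rfl
  · exact n2 (by rw [hκ.add2, Λ'.π_mul _ (kN _ _) _ (kN _ _), Λ'.π_K k₁, one_mul])

/-- PROOF. `π' ρ` centralises the 2-group `D = im' Uh`; `⁅D, D⁆` contains the image of `B` (`B_le_comm`), on which `π'` is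
injective (`Adj.dis`); `MM.three_cen`. -/
theorem three_mem (ad : Adj Λ.toCv Λ'.toCv) (h4 : Fo Λ.B) (hU : Λ.Uh ≤ Λ'.N) {ρ : G} (hK : ρ ∈ Λ.K)
    (hN : ρ ∈ Λ'.N) (h3 : ρ ^ 3 = 1) : ρ ∈ Λ'.K := by
  have key : ∀ b ∈ Λ.B, Λ'.π b ∈ ⁅Λ'.im Λ.Uh, Λ'.im Λ.Uh⁆ := fun b hb => by
    have : ⁅Λ.Uh, Λ.Uh⁆ ≤ (⁅Λ'.im Λ.Uh, Λ'.im Λ.Uh⁆.comap Λ'.π0).map Λ'.N.subtype := commutator_le.2 fun x hx y hy =>
      ⟨⟨_, mul_mem (mul_mem (mul_mem (hU hx) (hU hy)) (inv_mem (hU hx))) (inv_mem (hU hy))⟩, by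
        change Λ'.π (x * y * x⁻¹ * y⁻¹) ∈ ⁅Λ'.im Λ.Uh, Λ'.im Λ.Uh⁆
        rw [Λ'.π_cm (hU hx) (hU hy)]
        exact commutator_mem_commutator ((Λ'.mem_im hU).2 ⟨x, hx, rfl⟩) ((Λ'.mem_im hU).2 ⟨y, hy, rfl⟩), rfl⟩
    obtain ⟨y, hy, rfl⟩ := this (Λ.B_le_comm hb)
    exact hy
  have BN : Λ.B ≤ Λ'.N := Λ.B_le_Uh.trans hU
  have inj : ∀ b ∈ Λ.B, Λ'.π b = 1 → b = 1 := fun b hb l => ad.dis hb.2.1 ((Λ'.ker b (BN hb)).1 l) hb.2.2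
  obtain ⟨r, hr, s, hs, r2, s2, r1, s1, rs, c⟩ := h4
  refine (Λ'.ker ρ hN).1 (MM.three_cen Λ'.Γ Λ'.ΓK Λ'.ΓN (Λ'.pg_im Λ.pg_Uh)
    ⟨_, key r hr, _, key s hs, Λ'.π_sq (BN hr) r2, Λ'.π_sq (BN hs) s2, mt (inj r hr) r1, mt (inj s hs) s1,
      fun l => rs ?_, Λ'.π_comm (BN hr) (BN hs) c⟩ (by rw [← Λ'.π_pow hN, h3, Λ'.π_one]) fun d hd => ?_)
  · have := inj _ (mul_mem hr hs) (by rw [Λ'.π_mul _ (BN hr) _ (BN hs), l, Λ'.π_sq (BN hs) s2])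
    rw [eq_inv_of_mul_eq_one_left this, inv_of_sq s2]
  · obtain ⟨x, hx, rfl⟩ := (Λ'.mem_im hU).1 hd
    exact Λ'.π_comm hN (hU hx) (Λ.comm hK (Λ.Uh_le_A hx))

/-- The main theorem. PROOF. (H) fails by `notH` (`adj_cj`); `exists_inn` gives `g ∉ N` and an inner involution
`t ∈ (Λ.cj g).K`. `el_of_inn`; `frame_z`, `Uh_le` for `Λ.fr l`. If `B` contains no four-group then `B = {1, c}`:
`two_false`. An element `ρ ∈ A ⊓ K` commutes with `t` (`Inn.comm`), so `ρ ∈ N'`; `three_mem`, `K_cj`. -/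
theorem even (Λ : C3 G M) (hB : ∃ b ∈ Λ.B, b ≠ 1) (h4 : Fo Λ.K)
    (ex : ∃ g, g ∉ Λ.N ∧ ∃ t ∈ Λ.K, t * t = 1 ∧ t ≠ 1 ∧ g * t * g⁻¹ ∈ Λ.N) :
    Λ.El ∧ Fo Λ.B ∧ ∃ g, g ∉ Λ.N ∧ ∀ ρ ∈ Λ.A, ρ ∈ Λ.K → ρ ^ 3 = 1 → g⁻¹ * ρ * g ∈ Λ.K := by
  have nH : ¬ Λ.H := fun h => by
    obtain ⟨g, hg, t, ht, t2, t1, hN⟩ := ex
    exact notH (Λ' := Λ.cj g) h (adj_cj hg) ((K_cj rfl).2 (by simpa [mul_assoc] using ht)) hN (sq_cj g t2) (cj_ne g t1)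
  obtain ⟨g, hg, t, ht, t2, t1, hi⟩ := exists_inn nH
  have ad : Adj Λ.toCv (Λ.cj g).toCv := adj_cj hg
  have hE := el_of_inn ad h4 ht t2 t1 hi
  obtain ⟨l, el⟩ := Λ.frame_z hi t2 fun l => t1 (ad.dis l ht (P2.of_sq t2))
  have hU : (Λ.fr l).Uh ≤ (Λ.cj g).N := Uh_le (Λ := Λ.fr l) hE ht hi.1 t2 t1 el
  have fB : Fo Λ.B := by
    by_contra n
    obtain ⟨c, hc, c1⟩ := hB
    refine two_false (Λ := Λ.fr l) ad h4 hc c1 (fun β hβ => ?_) hU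
    by_contra! m
    exact n ⟨β, hβ, c, hc, hE β hβ, hE c hc, m.1, c1, m.2, Λ.B_comm hβ hc.1⟩
  exact ⟨hE, fB, g, hg, fun ρ hA hK h3 => (K_cj rfl).1 (three_mem (Λ := Λ.fr l) ad fB hU hK
    ((Λ.cj g).cenN ht t2 t1 (hi.comm hA hK).symm) h3)⟩

end CL.C41.C3
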