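import Cfsg.Agent.INV.C41.Defs
import Cfsg.Agent.PLOC.PNormal

/-!
# 2-subgroups of `M ≤ Aut L₃(4)`

`Γ : Lz M` with `hK : Γ.K = ⊥` and `hN : ∀ m, m ∈ Γ.N`. Tools: `INV/SZ4/Bas` (`frame`, `exists_ty`, `Ty.mul`, `Ty.unique`,
`Ty.inner`, `Ty.two`, `ev`, `aut`, `mem_U_of`, `inv_conj`, `Bas.norm_U_of`), `INV/SZ4/RK` (`rk`, `RK.card_fix`).
Identities in `F4` are proved by `decide` (after `revert`).
-/

set_option autoImplicit false
set_option maxHeartbeats 200000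

namespace CL.C41.MM

open Subgroup CL.MSS CL.SZ4

universe v
variable {M : Type v} [Group M] [Finite M] (Γ : Lz M) (hK : Γ.K = ⊥) (hN : ∀ m, m ∈ Γ.N)

omit [Finite M] in
include hK in
theorem cjK (l : M) : (Γ.cj l).K = ⊥ := by rw [Lz.cj_K, hK]; exact Subgroup.map_bot _

omit [Finite M] in
include hN in
theorem cjN (l m : M) : m ∈ (Γ.cj l).N := Γ.mem_cj_N.2 (hN _)

omit [Finite M] in
theorem cm (a b c a' b' c' : F4) :
    Γ.u a b c * Γ.u a' b' c' * (Γ.u a b c)⁻¹ * (Γ.u a' b' c')⁻¹ = Γ.z (a * b' + a' * b) := by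
  rw [Γ.u_conj, mul_inv_eq_iff_eq_mul, Γ.z_mul_u, add_assoc]

omit [Finite M] in
theorem fix_of {t : M} {γ a b d : F4} (ht : t * t = 1) (hγ : γ ≠ 0)
    (hz : ∀ c, t * Γ.z c * t⁻¹ = Γ.z (γ * (c * c))) (e : t * Γ.u a b 0 * t⁻¹ = Γ.u a b d) :
    ∃ c, t * Γ.u a b c = Γ.u a b c * t := by
  have h1 : ∀ c, t * Γ.u a b c * t⁻¹ = Γ.u a b (d + γ * (c * c)) := fun c => by
    rw [← zero_add c, ← Γ.u_mul_z, cj_mul', e, hz, Γ.u_mul_z, zero_add]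
  have h2 := h1 d
  rw [← e, cj_cj, ht, one_mul, inv_one, mul_one] at h2
  have k : ∀ γ d : F4, γ ≠ 0 → 0 = d + γ * (d * d) → ∃ c, d + γ * (c * c) = c := by decide
  obtain ⟨c, hc⟩ := k γ d hγ (Γ.u_inj h2).2.2
  exact ⟨c, comm_of_cj (by rw [h1, hc])⟩

omit [Finite M] in
theorem tf_f {t : M} {α β : F4} (h : Γ.Ty t true false α β) (ht : t * t = 1) :
    α * β = 1 ∧ ∃ f : F4 → F4, (∀ a c, t * Γ.u a (α * a) c * t⁻¹ = Γ.u a (α * a) (c + f a)) ∧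
      Function.Surjective f := by
  have hu : ∀ a b c, ∃ d, t * Γ.u a b c * t⁻¹ = Γ.u (β * b) (α * a) d := h.u
  obtain ⟨-, -, hz, hs⟩ := (h.two ht (.inl rfl)).resolve_left fun k => absurd k.1 (by decide)
  have hab : α * β = 1 := by
    simpa [Bas.fr_one] using (Γ.z_inj ((cj_of_comm (hz 1)).symm.trans (h.z 1))).symm
  choose f hf using fun a => hu a (α * a) 0
  have h1 : ∀ a c, t * Γ.u a (α * a) c * t⁻¹ = Γ.u a (α * a) (c + f a) := fun a c => by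
    rw [← zero_add c, ← Γ.u_mul_z, cj_mul', hf, cj_of_comm (hz c), Γ.u_mul_z, zero_add, ← mul_assoc β,
      mul_comm β, hab, one_mul, add_comm]
  refine ⟨hab, f, h1, fun c => ?_⟩
  obtain ⟨_, ⟨a, b, c', rfl⟩, e⟩ := hs c
  have e' : t * Γ.u a b c' * t⁻¹ = Γ.u a b (c' + c) := by
    rw [← Γ.z_mul_u, inv_of_sq ht, mul_assoc, eq_mul_of_mul_inv_eq e, ← mul_assoc, ← mul_assoc, ht,
      one_mul]
  obtain ⟨d, hd⟩ := hu a b c'
  obtain rfl : b = α * a := (Γ.u_inj (e'.symm.trans hd)).2.1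
  exact ⟨a, add_left_cancel (Γ.u_inj ((h1 a c').symm.trans e')).2.2⟩

include hK hN in
theorem rk' {D : Subgroup M} (hU : D ≤ normalizer (Γ.U : Set M)) (h : ∀ d ∈ D, d * d = 1) :
    Nat.card D ≤ 8 ∨ (Nat.card D = 16 ∧ (D = Γ.V ∨ D = Γ.sw.V)) := by
  have h1 := Γ.rk (fun d _ => hN d) hU fun d hd => h d hd ▸ one_mem _
  have h2 : ∀ X : Subgroup M, Γ.Cov D X → D = X := fun X k => le_antisymm (fun d hd => by
      obtain ⟨k, hk, x, hx, rfl⟩ := k.1 d hd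
      rw [hK, mem_bot] at hk
      rwa [hk, one_mul]) fun x hx => by
    obtain ⟨d, hd, k, hk, rfl⟩ := k.2 x hx
    rw [hK, mem_bot] at hk
    rwa [hk, one_mul] at hd
  rw [hK, inf_bot_eq, card_bot, mul_one, mul_one] at h1
  exact h1.imp_right (And.imp_right (Or.imp (h2 _) (h2 _)))

include hN in
theorem nU_of_comm {g : M} {c : F4} (hc : c ≠ 0) (e : g * Γ.z c = Γ.z c * g) :
    g ∈ normalizer (Γ.U : Set M) :=
  Bas.norm_U_of Γ fun a b d => Γ.cenL _ (Γ.N_conj_L (hN g) (Γ.uL a b d)) c hc (by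
    have := cm_cj g (Γ.z_comm a b d c)
    rw [cj_of_comm e] at this
    exact this.symm)

theorem nU_of_ty {g : M} {s σ : Bool} {α β : F4} (h : Γ.Ty g s σ α β) : g ∈ normalizer (Γ.U : Set M) :=
  Bas.norm_U_of Γ fun a b c => by
    obtain ⟨d, hd⟩ := h.u a b c
    rw [hd]
    cases s <;> exact Γ.u_mem ..

include hK hN in
theorem sq_mem {g : M} (p : P2 g) : g * g ∈ Γ.L := by
  obtain ⟨n, e⟩ := p
  obtain ⟨k, hk, l, hl, e'⟩ := Γ.ev (hN g) e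
  rw [hK, mem_bot] at hk
  rwa [e', hk, one_mul]

include hK hN in
theorem comm_le {D : Subgroup M} (hD : IsPGroup 2 D) : ⁅D, D⁆ ≤ Γ.L := commutator_le.2 fun a ha b hb => by
  have := mul_mem (mul_mem (sq_mem Γ hK hN (P2.of_mem hD (mul_mem ha hb)))
    (Γ.N_conj_L (hN b⁻¹) (sq_mem Γ hK hN (P2.of_mem hD (inv_mem ha)))))
    (sq_mem Γ hK hN (P2.of_mem hD (inv_mem hb)))
  convert this using 1
  rw [commutatorElement_def]
  group

include hK hN in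
theorem mem_U_of_ty {g : M} {α β : F4} (h : Γ.Ty g false false α β) (p : P2 g) : g ∈ Γ.U := by
  obtain ⟨n, e⟩ := p
  obtain ⟨k, hk, a, b, c, e'⟩ := h.inner (hN g) (k := n) (e ▸ one_mem _)
  rw [hK, mem_bot] at hk
  rw [e', hk, one_mul]
  exact Γ.u_mem ..

include hK hN in
theorem three {g₁ g₂ : M} (n1 : g₁ ∈ normalizer (Γ.U : Set M)) (n2 : g₂ ∈ normalizer (Γ.U : Set M))
    (p1 : P2 g₁) (p2 : P2 g₂) (p3 : P2 (g₁ * g₂)) (o1 : g₁ ∉ Γ.L) (o2 : g₂ ∉ Γ.L) (o3 : g₁ * g₂ ∉ Γ.L)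
    (s σ : Bool) (h : s = true ∨ σ = true) :
    ∃ α β, Γ.Ty g₁ s σ α β ∨ Γ.Ty g₂ s σ α β ∨ Γ.Ty (g₁ * g₂) s σ α β := by
  obtain ⟨s₁, σ₁, α₁, β₁, t1⟩ := Γ.exists_ty n1
  obtain ⟨s₂, σ₂, α₂, β₂, t2⟩ := Γ.exists_ty n2
  obtain ⟨α₃, β₃, t3⟩ := t1.mul t2
  have k : ∀ {g : M} {s σ : Bool} {α β : F4}, Γ.Ty g s σ α β → P2 g → g ∉ Γ.L → s = true ∨ σ = true := by
    intro g s σ α β t p o
    cases s
    · cases σ
      · exact (o (Γ.U_le_L (mem_U_of_ty Γ hK hN t p))).elim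
      · exact .inr rfl
    · exact .inl rfl
  have k1 := k t1 p1 o1
  have k2 := k t2 p2 o2
  have k3 := k t3 p3 o3
  have key : (s = s₁ ∧ σ = σ₁) ∨ (s = s₂ ∧ σ = σ₂) ∨ (s = xor s₁ s₂ ∧ σ = xor σ₁ σ₂) := by
    clear t1 t2 t3 k
    revert s σ s₁ σ₁ s₂ σ₂
    decide
  rcases key with ⟨rfl, rfl⟩ | ⟨rfl, rfl⟩ | ⟨rfl, rfl⟩
  exacts [⟨_, _, .inl t1⟩, ⟨_, _, .inr (.inl t2)⟩, ⟨_, _, .inr (.inr t3)⟩]

theorem tf_fix {t : M} {α β : F4} (h : Γ.Ty t true false α β) (ht : t * t = 1) {a b c : F4}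
    (e : t * Γ.u a b c = Γ.u a b c * t) : a = 0 ∧ b = 0 := by
  obtain ⟨-, f, hf, hs⟩ := tf_f Γ h ht
  obtain ⟨d, hd⟩ := h.u a b c
  rw [cj_of_comm e] at hd
  obtain rfl : b = α * a := (Γ.u_inj hd).2.1
  have h1 := hf a c
  rw [cj_of_comm e] at h1
  have h2 := hf 0 0
  rw [mul_zero, Γ.u_zero, mul_one, mul_inv_cancel, ← Γ.u_zero] at h2
  have h3 : f a = f 0 := by
    rw [left_eq_add.1 (Γ.u_inj h1).2.2, left_eq_add.1 (Γ.u_inj h2).2.2]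
  rw [Finite.injective_iff_surjective.2 hs h3]
  simp

theorem tf_onto {t : M} {α β : F4} (h : Γ.Ty t true false α β) (ht : t * t = 1) :
    α * β = 1 ∧ ∀ d, ∃ a, Γ.u a (α * a) 0 * (t * (Γ.u a (α * a) 0)⁻¹ * t⁻¹) = Γ.z d := by
  obtain ⟨hab, f, hf, hs⟩ := tf_f Γ h ht
  refine ⟨hab, fun d => (hs d).imp fun a e => ?_⟩
  rw [show t * (Γ.u a (α * a) 0)⁻¹ * t⁻¹ = (t * Γ.u a (α * a) 0 * t⁻¹)⁻¹ by group, hf, e, Γ.u_inv,
    Γ.u_mul]
  exact Γ.u_congr (add_self _) (add_self _) (by rw [zero_add, zero_add, add_assoc, add_self, add_zero])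

theorem ft_fix {t : M} {α β : F4} (h : Γ.Ty t false true α β) (ht : t * t = 1) :
    (∃ c, t * Γ.u (α * α) 0 c = Γ.u (α * α) 0 c * t) ∧ ∃ c, t * Γ.u 0 (β * β) c = Γ.u 0 (β * β) c * t := by
  have k1 : ∀ α : F4, α * fr true (α * α) = α * α := by decide
  obtain ⟨d, hd⟩ := h.u (α * α) 0 0
  obtain ⟨d', hd'⟩ := h.u 0 (β * β) 0
  simp only [cond_false, Bas.fr_zero, mul_zero] at hd hd'
  exact ⟨fix_of Γ ht (mul_ne_zero h.a0 h.b0) h.z (hd.trans (Γ.u_congr (k1 α) rfl rfl)),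
    fix_of Γ ht (mul_ne_zero h.a0 h.b0) h.z (hd'.trans (Γ.u_congr rfl (k1 β) rfl))⟩

/-- M7: the centraliser in `U` is `Q₈`. PROOF. `t² = 1` gives `β α² = 1`, so `β = α`. `x = u a (α a²) 0` is fixed
modulo `Y`: `t x t⁻¹ = x z d` with `α² d² = d`, so `d = c + α² c²` for some `c` and `u a (α a²) c` is fixed. -/
theorem tt_fix {t : M} {α β : F4} (h : Γ.Ty t true true α β) (ht : t * t = 1) :
    β = α ∧ ∀ a, ∃ c, t * Γ.u a (α * (a * a)) c = Γ.u a (α * (a * a)) c * t := by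
  have hu : ∀ a b c, ∃ d, t * Γ.u a b c * t⁻¹ = Γ.u (β * (b * b)) (α * (a * a)) d := h.u
  obtain ⟨d, hd⟩ := hu 1 0 0
  obtain ⟨d', hd'⟩ := hu (β * (0 * 0)) (α * (1 * 1)) d
  rw [← hd, cj_cj, ht, one_mul, inv_one, mul_one] at hd'
  have k1 : ∀ α β : F4, 1 = β * (α * (1 * 1) * (α * (1 * 1))) → β = α ∧
    ∀ a, β * (α * (a * a) * (α * (a * a))) = a := by decide
  obtain ⟨k2, k3⟩ := k1 _ _ (Γ.u_inj hd').1
  refine ⟨k2, fun a => ?_⟩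
  obtain ⟨f, hf⟩ := hu a (α * (a * a)) 0
  rw [k3] at hf
  exact fix_of Γ ht (mul_ne_zero h.a0 h.b0) h.z hf

include hK hN in
theorem no_root {g : M} (e : g * g = Γ.z 1) (h : ∀ a c, g * Γ.u a (a * a) c = Γ.u a (a * a) c * g) : False := by
  have hz : ∀ c, g * Γ.z c = Γ.z c * g := fun c => by simpa using h 0 c
  obtain ⟨s, σ, α, β, t⟩ := Γ.exists_ty (nU_of_comm Γ hN one_ne_zero (hz 1))
  have z1 := Γ.z_inj ((cj_of_comm (hz 1)).symm.trans (t.z 1))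
  have z2 := Γ.z_inj ((cj_of_comm (hz F4.w)).symm.trans (t.z F4.w))
  rw [Bas.fr_one, mul_one] at z1
  rw [← z1, one_mul] at z2
  obtain rfl : σ = false := by revert z2; cases σ <;> decide
  cases s
  · obtain ⟨a, b, c, rfl⟩ := mem_U_of_ty Γ hK hN t
      ⟨2, by rw [show 2 ^ 2 = 2 + 2 from rfl, pow_add, pow_two, e, Γ.z_sq]⟩
    have k1 := Γ.z_inj ((Γ.u_sq a b c).symm.trans e)
    have k2 := Γ.u_comm_iff.1 (h 1 0)
    have k3 := Γ.u_comm_iff.1 (h F4.w 0)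
    revert k1 k2 k3
    generalize a = a, b = b
    revert a b
    decide
  · obtain ⟨d, hd⟩ := t.u 1 (1 * 1) 0
    obtain ⟨d', hd'⟩ := t.u F4.w (F4.w * F4.w) 0
    rw [cj_of_comm (h _ _)] at hd hd'
    have k1 := (Γ.u_inj hd).1
    have k2 := (Γ.u_inj hd').1
    revert k1 k2
    generalize β = β
    revert β
    decide

include hK hN in
theorem card_le {D : Subgroup M} (h : ∀ d ∈ D, d * d = 1) : Nat.card D ≤ 16 := by
  obtain ⟨l, -, hl⟩ := Γ.frame (pg_of_sq h) fun d _ => hN d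
  rcases rk' (Γ.cj l) (cjK Γ hK l) (cjN Γ hN l) hl h with e | ⟨e, -⟩ <;> omega

include hK hN in
theorem two_big {D₁ D₂ : Subgroup M} (hp : IsPGroup 2 ↥(D₁ ⊔ D₂)) (h1 : ∀ d ∈ D₁, d * d = 1)
    (h2 : ∀ d ∈ D₂, d * d = 1) (c1 : 16 ≤ Nat.card D₁) (c2 : 16 ≤ Nat.card D₂) {x y : M} (hx : x ∈ D₁) (hy : y ∈ D₂)
    (e : x * y * x⁻¹ * y⁻¹ ≠ 1) :
    ∃ y' ∈ D₂, x * y' * x⁻¹ * y'⁻¹ ≠ 1 ∧ x * y' * x⁻¹ * y'⁻¹ ≠ x * y * x⁻¹ * y⁻¹ := by
  obtain ⟨l, -, hl⟩ := Γ.frame hp fun d _ => hN d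
  have b1 := (rk' (Γ.cj l) (cjK Γ hK l) (cjN Γ hN l) (le_sup_left.trans hl) h1).resolve_left (by omega)
  have b2 := (rk' (Γ.cj l) (cjK Γ hK l) (cjN Γ hN l) (le_sup_right.trans hl) h2).resolve_left (by omega)
  generalize Γ.cj l = Δ at b1 b2
  have key : ∀ Δ : Lz M, D₁ = Δ.V → D₂ = Δ.sw.V →
      ∃ y' ∈ D₂, x * y' * x⁻¹ * y'⁻¹ ≠ 1 ∧ x * y' * x⁻¹ * y'⁻¹ ≠ x * y * x⁻¹ * y⁻¹ := by
    rintro Δ rfl rfl
    obtain ⟨a, c, rfl⟩ := hx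
    obtain ⟨b, c', rfl⟩ := Δ.mem_V'.1 hy
    refine ⟨_, Δ.mem_V'.2 ⟨F4.w * b, 0, rfl⟩, ?_⟩
    rw [cm, Ne, Δ.z_eq_one] at e
    rw [cm, cm, Ne, Δ.z_eq_one]
    refine ⟨?_, fun k => ?_⟩
    · revert e
      generalize a = a, b = b
      revert a b
      decide
    · have := Δ.z_inj k
      revert e this
      generalize a = a, b = b
      revert a b
      decide
  have same : D₁ = D₂ → False := fun k => e (by
    rw [comm_of_sq h2 (k ▸ hx) hy]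
    group)
  rcases b1.2 with k1 | k1 <;> rcases b2.2 with k2 | k2
  · exact (same (k1.trans k2.symm)).elim
  · exact key Δ k1 k2
  · exact key Δ.sw k1 (k2.trans Δ.sw_sw_V.symm)
  · exact (same (k1.trans k2.symm)).elim

include hK hN in
open scoped commutatorElement in
theorem core {D : Subgroup M} (hD : IsPGroup 2 D) (h4 : Cv.Fo ⁅D, D⁆) {ρ : M} (h3 : ρ ^ 3 = 1)
    (e : ∀ d ∈ D, ρ * d = d * ρ) (hρ : ρ * Γ.z 1 = Γ.z 1 * ρ)
    (hz : ∀ d ∈ D, d * Γ.z 1 = Γ.z 1 * d) : ρ = 1 := by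
  obtain ⟨s, σ, α, β, t⟩ := Γ.exists_ty (nU_of_comm Γ hN one_ne_zero hρ)
  have t1 : Γ.Ty 1 false false 1 1 := ⟨one_ne_zero, one_ne_zero, fun a b c => ⟨c, by simp [Bas.fr_false]⟩,
    fun c => by simp [Bas.fr_false]⟩
  obtain ⟨_, _, t2⟩ := t.mul t
  obtain ⟨_, _, t3⟩ := t2.mul t
  rw [← pow_three', h3] at t3
  obtain rfl : s = false := by simpa using (t3.unique t1).1
  obtain rfl : σ = false := by simpa using (t3.unique t1).2.1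
  have hab : α * β = 1 := by
    simpa [Bas.fr_one] using (Γ.z_inj ((cj_of_comm hρ).symm.trans (t.z 1))).symm
  have hu : ∀ a b c, ∃ d, ρ * Γ.u a b c * ρ⁻¹ = Γ.u (α * a) (β * b) d := t.u
  by_cases hα : α = 1
  · subst hα
    rw [one_mul] at hab
    subst hab
    obtain ⟨k, hk, a, b, c, e'⟩ := Γ.aut (hN ρ) fun a b c => by simpa using hu a b c
    rw [hK, mem_bot] at hk
    rw [hk, one_mul] at e'
    calc ρ = ρ * ρ * (ρ * ρ) := by rw [← mul_assoc, ← pow_three', h3, one_mul]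
      _ = 1 := by rw [e', Γ.u_sq, Γ.z_sq]
  exfalso
  have cl : ∀ d ∈ D, d ∈ Γ.Y ∨ ∃ α' β', Γ.Ty d true true α' β' := by
    intro d hd
    obtain ⟨s, σ, α', β', t'⟩ := Γ.exists_ty (nU_of_comm Γ hN one_ne_zero (hz d hd))
    obtain ⟨c₁, e₁⟩ := hu 1 0 0
    obtain ⟨c₂, e₂⟩ := t'.u (α * 1) (β * 0) c₁
    obtain ⟨c₃, e₃⟩ := t'.u 1 0 0
    rw [← e₁, cj_cj, ← e d hd, ← cj_cj, e₃] at e₂
    have ha := t'.a0
    cases s <;> cases σ
    · obtain ⟨a, b, c, rfl⟩ := mem_U_of_ty Γ hK hN t' (P2.of_mem hD hd)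
      obtain ⟨c₄, e₄⟩ := hu a b c
      rw [cj_of_comm (e _ hd)] at e₄
      have k : ∀ α β a b : F4, α * β = 1 → α ≠ 1 → a = α * a → b = β * b → a = 0 ∧ b = 0 := by decide
      obtain ⟨rfl, rfl⟩ := k α β a b hab hα (Γ.u_inj e₄).1 (Γ.u_inj e₄).2.1
      exact .inl (Γ.z_mem c)
    · obtain ⟨c₄, e₄⟩ := hu (α' * fr true 1) (β' * fr true 0) c₃
      have k : ∀ α β α' : F4, α * β = 1 → α ≠ 1 → α' ≠ 0 →
        α * (α' * fr true 1) ≠ α' * fr true (α * 1) := by decide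
      exact (k α β α' hab hα ha (Γ.u_inj (e₄.symm.trans e₂)).1).elim
    · obtain ⟨c₄, e₄⟩ := hu (β' * fr false 0) (α' * fr false 1) c₃
      have k : ∀ α β α' : F4, α * β = 1 → α ≠ 1 → α' ≠ 0 →
        β * (α' * fr false 1) ≠ α' * fr false (α * 1) := by decide
      exact (k α β α' hab hα ha (Γ.u_inj (e₄.symm.trans e₂)).2.1).elim
    · exact .inr ⟨_, _, t'⟩
  obtain ⟨r, hr, s, hs, -, -, r1, s1, rs, -⟩ := h4
  by_cases hY : D ≤ Γ.Y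
  · refine r1 (mem_bot.1 (commutator_le.2 (fun a ha b hb => ?_) hr))
    obtain ⟨c, rfl⟩ := hY ha
    obtain ⟨c', rfl⟩ := hY hb
    rw [commutatorElement_def, cm, mem_bot, Γ.z_eq_one]
    simp
  obtain ⟨d, hd, hd'⟩ := SetLike.not_le_iff_exists.1 hY
  obtain ⟨α', β', t'⟩ := (cl d hd).resolve_left hd'
  have hγ := mul_ne_zero t'.a0 t'.b0
  have dz : ∀ c, d * Γ.z c * d⁻¹ = Γ.z (α' * β' * (c * c)) := t'.z
  generalize α' * β' = γ at hγ dz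
  have dec : ∀ x ∈ D, ∃ c, x = Γ.z c ∨ x = d * Γ.z c := by
    intro x hx
    rcases cl x hx with ⟨c, k⟩ | ⟨_, _, tx⟩
    · exact ⟨c, .inl k⟩
    rcases cl _ (mul_mem (inv_mem hd) hx) with ⟨c, k⟩ | ⟨_, _, ty⟩
    · exact ⟨c, .inr (by rw [← k, mul_inv_cancel_left])⟩
    · obtain ⟨_, _, tz⟩ := t'.mul ty
      rw [mul_inv_cancel_left] at tz
      exact absurd (tz.unique tx).1 (by decide)
  have k0 : ∀ γ c : F4, γ ≠ 0 → γ * ((c + γ * (c * c)) * (c + γ * (c * c))) = c + γ * (c * c) := by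
    decide
  have hX : ∀ c, Γ.z (c + γ * (c * c)) ∈ Γ.Y ⊓ centralizer {d} := fun c =>
    mem_inf.2 ⟨Γ.z_mem _, mem_centralizer_singleton_iff.2 (comm_of_cj (by rw [dz, k0 γ c hγ])).symm⟩
  have c2 : ∀ c c', ⁅d * Γ.z c, Γ.z c'⁆ ∈ Γ.Y ⊓ centralizer {d} := fun c c' => by
    rw [show ⁅d * Γ.z c, Γ.z c'⁆ = d * (Γ.z c * Γ.z c' * (Γ.z c)⁻¹) * d⁻¹ * (Γ.z c')⁻¹ by
      rw [commutatorElement_def]; group, cj_of_comm (Γ.z_comm ..), dz, Γ.z_inv, Γ.z_mul, add_comm]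
    exact hX c'
  have hle : ⁅D, D⁆ ≤ Γ.Y ⊓ centralizer {d} := commutator_le.2 fun x hx y hy => by
    obtain ⟨c, rfl | rfl⟩ := dec x hx <;> obtain ⟨c', rfl | rfl⟩ := dec y hy
    · rw [commutatorElement_def, cm, mul_zero, add_zero, Γ.z_eq_one.2 rfl]
      exact one_mem _
    · rw [← commutatorElement_inv]
      exact inv_mem (c2 c' c)
    · exact c2 c c'
    · rw [show ⁅d * Γ.z c, d * Γ.z c'⁆ =
        d * (Γ.z c * (d * (Γ.z c' * (Γ.z c)⁻¹) * d⁻¹) * (Γ.z c')⁻¹) * d⁻¹ by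
          rw [commutatorElement_def]; group, Γ.z_inv, Γ.z_inv, Γ.z_mul, dz, Γ.z_mul, Γ.z_mul,
        add_right_comm, add_comm c, dz, k0 _ _ hγ]
      exact hX _
  obtain ⟨⟨c, rfl⟩, k1⟩ := mem_inf.1 (hle hr)
  obtain ⟨⟨c', rfl⟩, k2⟩ := mem_inf.1 (hle hs)
  have key : ∀ γ c c' : F4, γ * (c * c) = c → γ * (c' * c') = c' → c ≠ 0 → c' ≠ 0 → c = c' := by
    decide
  exact rs (congrArg Γ.z (key γ c c'
    (Γ.z_inj ((dz c).symm.trans (cj_of_comm (mem_centralizer_singleton_iff.1 k1).symm)))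
    (Γ.z_inj ((dz c').symm.trans (cj_of_comm (mem_centralizer_singleton_iff.1 k2).symm)))
    (mt Γ.z_eq_one.2 r1) (mt Γ.z_eq_one.2 s1)))

include hK hN in
theorem three_cen {D : Subgroup M} (hD : IsPGroup 2 D) (h4 : Cv.Fo ⁅D, D⁆) {ρ : M} (h3 : ρ ^ 3 = 1)
    (e : ∀ d ∈ D, ρ * d = d * ρ) : ρ = 1 := by
  obtain ⟨f, hf, hc, ho⟩ := PN.exists_mem_center_orderOf_eq hD (_root_.commutator D) fun k => by
    obtain ⟨r, hr, -, -, -, -, r1, -⟩ := h4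
    rw [← map_subtype_commutator, k, Subgroup.map_bot, mem_bot] at hr
    exact r1 hr
  have hf' : (f : M) ∈ ⁅D, D⁆ := map_subtype_commutator D ▸ mem_map_of_mem _ hf
  obtain ⟨m, -, hm⟩ := Γ.inv_conj (comm_le Γ hK hN hD hf')
    (congrArg Subtype.val ((pow_two f).symm.trans (ho ▸ pow_orderOf_eq_one f))) fun k => by
      rw [show f = 1 from Subtype.ext k, orderOf_one] at ho
      omega
  have hz : (Γ.cj m).z 1 = f := hm
  exact core (Γ.cj m) (cjK Γ hK m) (cjN Γ hN m) hD h4 h3 e (by rw [hz]; exact e f f.2)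
    fun d hd => by rw [hz]; exact congrArg Subtype.val (mem_center_iff.1 hc ⟨d, hd⟩)

end CL.C41.MM
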