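import Cfsg.Agent.INV.C41.MM

/-! # The Sylow 2-subgroup `Uh` of the cover: basic API -/

set_option autoImplicit false
set_option linter.unusedSectionVars false

namespace CL.C41

open Subgroup CL.MSS CL.SZ4

universe u v
variable {G : Type u} {M : Type v} [Group G] [Group M] [Finite G]

/-- the commutator `x y x⁻¹ y⁻¹` -/
abbrev cm (x y : G) : G := x * y * x⁻¹ * y⁻¹

theorem commutator_le_of_self (D : Subgroup G) : ⁅D, D⁆ ≤ D :=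
  commutator_le.2 fun _ ha _ hb => mul_mem (mul_mem (mul_mem ha hb) (inv_mem ha)) (inv_mem hb)


namespace Cv

variable (Λ : Cv G M)

/-- PROOF. `l = π a`; write the order of `a` as `2 ^ k * m`, `m` odd, and take `a ^ n` with `m ∣ n`,
`n ≡ 1` modulo the order `2 ^ j` of `l` (e.g. `n = m ^ φ(2 ^ (j+1))` or Bezout). -/
theorem lift2 {l : M} (hl : l ∈ Λ.L) (p : P2 l) : ∃ a ∈ Λ.A, Λ.π a = l ∧ P2 a := by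
  obtain ⟨a, ha, rfl⟩ := Λ.lift l hl
  obtain ⟨k, m, hm, e⟩ := Nat.exists_eq_two_pow_mul_odd (orderOf_pos a).ne'
  obtain ⟨j, hj⟩ := p
  have c : m.Coprime (orderOf (Λ.π a)) :=
    Nat.Coprime.coprime_dvd_right (orderOf_dvd_of_pow_eq_one hj)
      (Nat.Coprime.pow_right _ (Nat.coprime_two_right.2 hm))
  obtain ⟨r, hr⟩ := exists_pow_eq_self_of_coprime c
  refine ⟨(a ^ m) ^ r, pow_mem (pow_mem ha _) _, ?_, k, ?_⟩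
  · rw [Λ.π_pow (Λ.A_le (pow_mem ha _)), Λ.π_pow (Λ.A_le ha), hr]
  · rw [← pow_mul, ← pow_mul, show m * (r * 2 ^ k) = 2 ^ k * m * r by ring, pow_mul, ← e, pow_orderOf_eq_one, one_pow]

/-- PROOF. `eq_of_π`: `y = x k`, `k ∈ A ⊓ K` commutes with `x`, so `k = x⁻¹ y` is a 2-element (`P2.mul`). -/
theorem eq_B {x y : G} (hx : x ∈ Λ.A) (hy : y ∈ Λ.A) (px : P2 x) (py : P2 y) (e : Λ.π x = Λ.π y) :
    ∃ β ∈ Λ.B, y = x * β := by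
  obtain ⟨k, hk, e'⟩ := Λ.eq_of_π (Λ.A_le hx) (Λ.A_le hy) e
  have h1 : k = x⁻¹ * y := by rw [e']; group
  have hA : k ∈ Λ.A := h1 ▸ mul_mem (inv_mem hx) hy
  refine ⟨k, ⟨hA, hk, h1 ▸ px.inv.mul py ?_⟩, e'⟩
  rw [e', mul_assoc x, Λ.comm hk (inv_mem hx)]
  group

omit [Finite G] in
theorem B_comm {b a : G} (hb : b ∈ Λ.B) (ha : a ∈ Λ.A) : b * a = a * b := Λ.comm hb.2.1 ha

omit [Finite G] in
theorem pg_B : IsPGroup 2 Λ.B := pg_of_P2 fun _ h => h.2.2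

/-- a 2-element normalising a 2-group: PROOF. `zpowers t ⊔ D` is a 2-group (`IsPGroup.to_sup_of_normal...`). -/
theorem pg_sup {D : Subgroup G} {t : G} (hD : IsPGroup 2 D) (p : P2 t) (h : ∀ d ∈ D, t * d * t⁻¹ ∈ D) :
    IsPGroup 2 ↥(zpowers t ⊔ D) := by
  obtain ⟨k, e⟩ := p
  exact IsPGroup.to_sup_of_normal_right' (pg_zpowers e) hD (zpowers_le.2 (mem_normalizer_fintype h))

end Cv

namespace C3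

variable (Λ : C3 G M)

theorem pg_Uh : IsPGroup 2 Λ.Uh := pg_of_P2 fun _ h => h.2.2
theorem Uh_le_A : Λ.Uh ≤ Λ.A := fun _ h => h.1
theorem Uh_le_N : Λ.Uh ≤ Λ.N := fun _ h => Λ.A_le h.1
theorem ex_ov (a b c : F4) : ∃ x, Λ.Ov x a b c := by
  obtain ⟨x, hx, e, p⟩ := Λ.lift2 (Λ.hL ▸ Λ.Γ.uL a b c) (P2.of_mem Λ.Γ.pU (Λ.Γ.u_mem a b c))
  exact ⟨x, ⟨hx, e ▸ Λ.Γ.u_mem a b c, p⟩, e⟩
theorem ov_of_mem {x : G} (h : x ∈ Λ.Uh) : ∃ a b c, Λ.Ov x a b c := by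
  obtain ⟨a, b, c, e⟩ := h.2.1
  exact ⟨a, b, c, h, e⟩
theorem ov_B {x : G} : Λ.Ov x 0 0 0 ↔ x ∈ Λ.B := by
  constructor
  · rintro ⟨h, e⟩
    exact ⟨h.1, (Λ.ker x (Λ.A_le h.1)).1 (e.trans Λ.Γ.u_zero), h.2.2⟩
  · rintro ⟨h1, h2, h3⟩
    exact ⟨⟨h1, by rw [Λ.π_K h2]; exact one_mem _, h3⟩, by rw [Λ.π_K h2, Λ.Γ.u_zero]⟩
theorem B_le_Uh : Λ.B ≤ Λ.Uh := fun _ h => (Λ.ov_B.2 h).1
theorem sw_Ov {x : G} {a b c : F4} : Λ.sw.Ov x a b c ↔ Λ.Ov x b a (c + a * b) := by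
  rw [Ov, Ov, sw_Uh]
  rfl

variable {Λ}

theorem Ov.A {x : G} {a b c : F4} (h : Λ.Ov x a b c) : x ∈ Λ.A := h.1.1
theorem Ov.N {x : G} {a b c : F4} (h : Λ.Ov x a b c) : x ∈ Λ.N := Λ.A_le h.1.1
theorem Ov.p2 {x : G} {a b c : F4} (h : Λ.Ov x a b c) : P2 x := h.1.2.2
theorem Ov.congr {x : G} {a b c a' b' c' : F4} (h : Λ.Ov x a b c) (h1 : a = a') (h2 : b = b') (h3 : c = c') :
    Λ.Ov x a' b' c' := h1 ▸ h2 ▸ h3 ▸ h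
theorem Ov.inj {x : G} {a b c a' b' c' : F4} (h : Λ.Ov x a b c) (h' : Λ.Ov x a' b' c') :
    a = a' ∧ b = b' ∧ c = c' := Λ.Γ.u_inj (h.2.symm.trans h'.2)
theorem Ov.eq {x y : G} {a b c : F4} (h : Λ.Ov x a b c) (h' : Λ.Ov y a b c) : ∃ β ∈ Λ.B, y = x * β :=
  Λ.eq_B h.A h'.A h.p2 h'.p2 (h.2.trans h'.2.symm)
theorem Ov.mul {x y : G} {a b c a' b' c' : F4} (h : Λ.Ov x a b c) (h' : Λ.Ov y a' b' c') :
    Λ.Ov (x * y) (a + a') (b + b') (c + c' + a * b') := by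
  exact ⟨mul_mem h.1 h'.1, by rw [Λ.π_mul _ h.N _ h'.N, h.2, h'.2, Λ.Γ.u_mul]⟩
theorem Ov.inv {x : G} {a b c : F4} (h : Λ.Ov x a b c) : Λ.Ov x⁻¹ a b (c + a * b) := by
  exact ⟨inv_mem h.1, by rw [Λ.π_inv h.N, h.2, Λ.Γ.u_inv]⟩
theorem Ov.mulB {x β : G} {a b c : F4} (h : Λ.Ov x a b c) (hβ : β ∈ Λ.B) : Λ.Ov (x * β) a b c := by
  exact (h.mul (Λ.ov_B.2 hβ)).congr (add_zero _) (add_zero _) (by simp)
theorem Ov.sq {x : G} {a b c : F4} (h : Λ.Ov x a b c) : Λ.Ov (x * x) 0 0 (a * b) := by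
  exact ⟨mul_mem h.1 h.1, by rw [Λ.π_mul _ h.N _ h.N, h.2, Λ.Γ.u_sq]⟩
theorem Ov.cj {x y : G} {a b c a' b' c' : F4} (h : Λ.Ov x a b c) (h' : Λ.Ov y a' b' c') :
    Λ.Ov (x * y * x⁻¹) a' b' (c' + a * b' + a' * b) := by
  exact ⟨mul_mem (mul_mem h.1 h'.1) (inv_mem h.1), by rw [Λ.π_cj h.N h'.N, h.2, h'.2, Λ.Γ.u_conj]⟩
theorem Ov.cm {x y : G} {a b c a' b' c' : F4} (h : Λ.Ov x a b c) (h' : Λ.Ov y a' b' c') :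
    Λ.Ov (cm x y) 0 0 (a * b' + a' * b) := by
  refine ((h.cj h').mul h'.inv).congr (add_self _) (add_self _) ?_
  linear_combination add_self c' + add_self (a' * b')
theorem Ov.not_K {x : G} {a b c : F4} (h : Λ.Ov x a b c) (hK : x ∈ Λ.K) : a = 0 ∧ b = 0 ∧ c = 0 := by
  exact Λ.Γ.u_eq_one.1 (h.2.symm.trans (Λ.π_K hK))

variable (Λ)

/-- `t ∈ N` normalises `Uh` and has the given type -/
def Ty (t : G) (s σ : Bool) (α β : F4) : Prop := t ∈ Λ.N ∧ Λ.Γ.Ty (Λ.π t) s σ α β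
/-- `t ∈ N` normalises `Uh` -/
def Nu (t : G) : Prop := t ∈ Λ.N ∧ Λ.π t ∈ normalizer (Λ.Γ.U : Set M)

variable {Λ}

theorem Nu.ty {t : G} (h : Λ.Nu t) : ∃ s σ α β, Λ.Ty t s σ α β :=
  let ⟨s, σ, α, β, e⟩ := Λ.Γ.exists_ty h.2; ⟨s, σ, α, β, h.1, e⟩
theorem Ty.nu {t : G} {s σ : Bool} {α β : F4} (h : Λ.Ty t s σ α β) : Λ.Nu t := by
  refine ⟨h.1, Bas.norm_U_of _ fun a b c => ?_⟩
  obtain ⟨d, e⟩ := h.2.u a b c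
  rw [e]
  cases s <;> exact Λ.Γ.u_mem ..
theorem Nu.mul {t t' : G} (h : Λ.Nu t) (h' : Λ.Nu t') : Λ.Nu (t * t') := by
  exact ⟨mul_mem h.1 h'.1, by rw [Λ.π_mul _ h.1 _ h'.1]; exact mul_mem h.2 h'.2⟩
theorem Nu.inv {t : G} (h : Λ.Nu t) : Λ.Nu t⁻¹ := by
  exact ⟨inv_mem h.1, by rw [Λ.π_inv h.1]; exact inv_mem h.2⟩
theorem Nu.cj {t x : G} (h : Λ.Nu t) (hx : x ∈ Λ.Uh) : t * x * t⁻¹ ∈ Λ.Uh := by
  refine ⟨Λ.cjA h.1 hx.1, ?_, hx.2.2.cj t⟩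
  rw [Λ.π_cj h.1 (Λ.A_le hx.1)]
  exact (mem_normalizer_iff.1 h.2 _).1 hx.2.1
theorem Ty.ov {t x : G} {s σ : Bool} {α β a b c : F4} (h : Λ.Ty t s σ α β) (hx : Λ.Ov x a b c) :
    ∃ d, cond s (Λ.Ov (t * x * t⁻¹) (β * SZ4.fr σ b) (α * SZ4.fr σ a) d)
      (Λ.Ov (t * x * t⁻¹) (α * SZ4.fr σ a) (β * SZ4.fr σ b) d) := by
  obtain ⟨d, e⟩ := h.2.u a b c
  refine ⟨d, ?_⟩
  have e' := Λ.π_cj h.1 hx.N
  rw [hx.2, e] at e'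
  cases s <;> exact ⟨h.nu.cj hx.1, e'⟩
theorem Ty.ovz {t x : G} {s σ : Bool} {α β c : F4} (h : Λ.Ty t s σ α β) (hx : Λ.Ov x 0 0 c) :
    Λ.Ov (t * x * t⁻¹) 0 0 (α * β * SZ4.fr σ c) := by
  exact ⟨h.nu.cj hx.1, by rw [Λ.π_cj h.1 hx.N, hx.2]; exact h.2.z c⟩
/-- conjugation by an element whose image commutes with `u a b c` -/
theorem Ov.cj_of {t x : G} {a b c : F4} (hx : Λ.Ov x a b c) (ht : t ∈ Λ.N)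
    (e : Λ.π t * Λ.Γ.u a b c = Λ.Γ.u a b c * Λ.π t) : ∃ β ∈ Λ.B, t * x * t⁻¹ = x * β := by
  refine Λ.eq_B hx.A (Λ.cjA ht hx.A) hx.p2 (hx.p2.cj t) ?_
  rw [Λ.π_cj ht hx.N, hx.2, cj_of_comm e]
theorem Ty.mul {t t' : G} {s σ s' σ' : Bool} {α β α' β' : F4} (h : Λ.Ty t s σ α β) (h' : Λ.Ty t' s' σ' α' β') :
    ∃ α'' β'', Λ.Ty (t * t') (xor s s') (xor σ σ') α'' β'' := by
  obtain ⟨α'', β'', e⟩ := h.2.mul h'.2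
  exact ⟨α'', β'', mul_mem h.1 h'.1, by rw [Λ.π_mul _ h.1 _ h'.1]; exact e⟩
/-- the type for the exchanged sides. PROOF. `sw_u`, `u_sw`, `sw_z`; case on `s`. -/
theorem Ty.sw {t : G} {s σ : Bool} {α β : F4} (h : Λ.Ty t s σ α β) : Λ.sw.Ty t s σ β α := by
  refine ⟨h.1, h.2.b0, h.2.a0, fun a b c => ?_, fun c => ?_⟩
  · obtain ⟨d, e⟩ := h.2.u b a (c + a * b)
    cases s
    · exact ⟨_, e.trans (Λ.Γ.u_sw ..)⟩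
    · exact ⟨_, e.trans (Λ.Γ.u_sw ..)⟩
  · have e := h.2.z c
    rw [← Λ.Γ.sw_z, ← Λ.Γ.sw_z, mul_comm α] at e
    exact e
/-- an inner 2-element (modulo `K`) normalising `Uh`. PROOF. `mem_U_of`, `ex_ov`, `eq_of_π`. -/
theorem Nu.inn {t : G} (h : Λ.Nu t) (p : P2 t) (hi : Λ.Inn t) :
    ∃ x a b c, Λ.Ov x a b c ∧ ∃ k ∈ Λ.K, t = x * k := by
  obtain ⟨k, e⟩ := Λ.π_P2 h.1 p
  obtain ⟨a, b, c, e'⟩ := Λ.Γ.mem_U_of (Λ.hL ▸ hi.2) h.2 e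
  obtain ⟨x, hx⟩ := Λ.ex_ov a b c
  exact ⟨x, a, b, c, hx, Λ.eq_of_π hx.N h.1 (hx.2.trans e'.symm)⟩

variable [Finite M]

theorem Ty.inn {t : G} {α β : F4} (h : Λ.Ty t false false α β) (p : P2 t) : Λ.Inn t := by
  exact ⟨h.1, Λ.hL ▸ Λ.Γ.U_le_L (MM.mem_U_of_ty Λ.Γ Λ.ΓK Λ.ΓN h.2 (Λ.π_P2 h.1 p))⟩
theorem nu_of_comm {t : G} {c : F4} (ht : t ∈ Λ.N) (hc : c ≠ 0) (e : Λ.π t * Λ.Γ.z c = Λ.Γ.z c * Λ.π t) :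
    Λ.Nu t := ⟨ht, MM.nU_of_comm Λ.Γ Λ.ΓN hc e⟩

variable (Λ)

/-- O1. PROOF. `MM.sq_mem`. -/
theorem inn_sq {t : G} (ht : t ∈ Λ.N) (p : P2 t) : Λ.Inn (t * t) := by
  exact ⟨mul_mem ht ht, by rw [Λ.π_mul _ ht _ ht]; exact Λ.hL ▸ MM.sq_mem Λ.Γ Λ.ΓK Λ.ΓN (Λ.π_P2 ht p)⟩
/-- O2. PROOF. `MM.comm_le` for `Λ.im D` (`map_commutator`, or `commutator_le` into the subgroup of inner elements). -/
theorem inn_comm {D : Subgroup G} (hD : IsPGroup 2 D) (hN : D ≤ Λ.N) {x : G} (hx : x ∈ ⁅D, D⁆) : Λ.Inn x := by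
  have h1 : x ∈ D := commutator_le_of_self D hx
  refine ⟨hN h1, Λ.hL ▸ MM.comm_le Λ.Γ Λ.ΓK Λ.ΓN (Λ.pg_im hD) ?_⟩
  have h2 : ⁅D, D⁆ ≤ ((⁅Λ.im D, Λ.im D⁆ : Subgroup M).comap Λ.π0).map Λ.N.subtype := by
    refine commutator_le.2 fun a ha b hb => ⟨⟨a * b * a⁻¹ * b⁻¹, hN (commutator_le_of_self D
      (commutator_mem_commutator ha hb))⟩, ?_, rfl⟩
    change Λ.π (a * b * a⁻¹ * b⁻¹) ∈ ⁅Λ.im D, Λ.im D⁆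
    rw [Λ.π_cm (hN ha) (hN hb)]
    exact commutator_mem_commutator ((Λ.mem_im hN).2 ⟨a, ha, rfl⟩) ((Λ.mem_im hN).2 ⟨b, hb, rfl⟩)
  obtain ⟨y, hy, rfl⟩ := h2 hx
  exact hy
/-- PROOF. `Lz.frame` for `Λ.im D`. -/
theorem frame {D : Subgroup G} (hD : IsPGroup 2 D) (hN : D ≤ Λ.N) : ∃ l, ∀ d ∈ D, (Λ.fr l).Nu d := by
  obtain ⟨l, -, e⟩ := Λ.Γ.frame (Λ.pg_im hD) fun m _ => Λ.ΓN m
  exact ⟨l, fun d hd => ⟨hN hd, e ((Λ.mem_im hN).2 ⟨d, hd, rfl⟩)⟩⟩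
/-- a frame for two elements of `N` whose images are commuting 2-elements. PROOF. `Lz.frame` for
`zpowers (π t₁) ⊔ zpowers (π t₂)`. -/
theorem frame2 {t₁ t₂ : G} (h1 : t₁ ∈ Λ.N) (h2 : t₂ ∈ Λ.N) (p1 : P2 t₁) (p2 : P2 t₂)
    (e : Λ.π t₁ * Λ.π t₂ = Λ.π t₂ * Λ.π t₁) : ∃ l, (Λ.fr l).Nu t₁ ∧ (Λ.fr l).Nu t₂ := by
  obtain ⟨k, e2⟩ := Λ.π_P2 h2 p2
  have := Cv.pg_sup (pg_zpowers e2) (Λ.π_P2 h1 p1) fun d hd => by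
    obtain ⟨n, rfl⟩ := mem_zpowers_iff.1 hd
    rw [cj_of_comm ((show Commute _ _ from e).zpow_right n)]
    exact hd
  obtain ⟨l, -, e⟩ := Λ.Γ.frame this fun m _ => Λ.ΓN m
  exact ⟨l, ⟨h1, e (mem_sup_left (mem_zpowers _))⟩, h2, e (mem_sup_right (mem_zpowers _))⟩
/-- PROOF. `inv_conj`. -/
theorem frame_z {t : G} (hi : Λ.Inn t) (t2 : t * t = 1) (hK : t ∉ Λ.K) : ∃ l, Λ.π t = (Λ.fr l).Γ.z 1 := by
  obtain ⟨m, -, e⟩ := Λ.Γ.inv_conj (Λ.hL ▸ hi.2) (Λ.π_sq hi.1 t2) fun e => hK ((Λ.ker t hi.1).1 e)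
  exact ⟨m, e.symm⟩
/-- the order of an elementary abelian subgroup of `N`. PROOF. `card_im`, `MM.card_le`. -/
theorem card_le {D : Subgroup G} (hN : D ≤ Λ.N) (h : ∀ d ∈ D, d * d = 1) :
    Nat.card D ≤ 16 * Nat.card ↥(D ⊓ Λ.K) := by
  rw [Λ.card_im hN]
  refine Nat.mul_le_mul_right _ (MM.card_le Λ.Γ Λ.ΓK Λ.ΓN fun m hm => ?_)
  obtain ⟨d, hd, rfl⟩ := (Λ.mem_im hN).1 hm
  exact Λ.π_sq (hN hd) (h d hd)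

end C3

end CL.C41
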