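import Cfsg.Agent.INV.C41.St1
import Cfsg.Agent.INV.SZ4.Co

/-! # The structure of `Uh` -/

set_option autoImplicit false
set_option linter.unusedSectionVars false

namespace CL.C41.C3

open Subgroup CL.MSS CL.SZ4

universe u v
variable {G : Type u} {M : Type v} [Group G] [Group M] [Finite G] (Λ : C3 G M)

/-- the preimage of `V` (the other one is `Λ.sw.W`) -/
def W : Subgroup G := Λ.pre Λ.Γ.V (Λ.Γ.pU.to_le Λ.Γ.V_le_U)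
theorem mem_W {x : G} : x ∈ Λ.W ↔ ∃ a c, Λ.Ov x a 0 c := by
  exact ⟨fun ⟨h1, ⟨a, c, e⟩, h3⟩ => ⟨a, c, ⟨h1, ⟨a, 0, c, e⟩, h3⟩, e⟩, fun ⟨a, c, h⟩ => ⟨h.A, ⟨a, c, h.2⟩, h.p2⟩⟩
theorem mem_W' {x : G} : x ∈ Λ.sw.W ↔ ∃ b c, Λ.Ov x 0 b c := by
  rw [Λ.sw.mem_W]
  simp only [sw_Ov, mul_zero, add_zero]
theorem W_le : Λ.W ≤ Λ.Uh := by
  intro x hx
  obtain ⟨a, c, h⟩ := Λ.mem_W.1 hx
  exact h.1
theorem W'_le : Λ.sw.W ≤ Λ.Uh := by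
  intro x hx
  obtain ⟨a, c, h⟩ := Λ.mem_W'.1 hx
  exact h.1
/-- PROOF. `card_im`: `im W = V`, `W ⊓ K = B`. -/
theorem card_W : Nat.card Λ.W = 16 * Nat.card Λ.B := by
  have hN : Λ.W ≤ Λ.N := Λ.W_le.trans Λ.Uh_le_N
  have e1 : Λ.im Λ.W = Λ.Γ.V := Subgroup.ext fun m => by
    rw [Λ.mem_im hN]
    refine ⟨fun ⟨d, hd, e⟩ => e ▸ hd.2.1, fun ⟨a, c, e⟩ => ?_⟩
    obtain ⟨x, hx⟩ := Λ.ex_ov a 0 c
    exact ⟨x, Λ.mem_W.2 ⟨a, c, hx⟩, hx.2.trans e.symm⟩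
  have e2 : Λ.W ⊓ Λ.K = Λ.B := Subgroup.ext fun x =>
    ⟨fun h => ⟨h.1.1, h.2, h.1.2.2⟩, fun h => ⟨Λ.mem_W.2 ⟨0, 0, Λ.ov_B.2 h⟩, h.2.1⟩⟩
  rw [Λ.card_im hN, e1, e2, Λ.Γ.card_V]
/-- PROOF. `u a b c = u 0 b 0 * u a 0 c` (`Bas.u_split`), `Ov.eq`. -/
theorem split {x : G} {a b c : F4} (h : Λ.Ov x a b c) : ∃ y z, Λ.Ov y 0 b 0 ∧ Λ.Ov z a 0 c ∧ x = y * z := by
  obtain ⟨y, hy⟩ := Λ.ex_ov 0 b 0
  exact ⟨y, y⁻¹ * x, hy, (hy.inv.mul h).congr (zero_add _) (add_self _) (by simp), by group⟩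

theorem St2.cjz {z : G} (hz : Λ.Ov z 0 0 1) {a c : F4} (h : a ≠ 0 ∨ c ≠ 0) :
    ∃ m ∈ Λ.A, Λ.Ov (m * z * m⁻¹) a 0 c := by
  obtain ⟨m, hm, -, e⟩ := Λ.Γ.conj_V h
  obtain ⟨m, hA, rfl⟩ := Λ.lift m (Λ.hL ▸ hm)
  have e' : Λ.π (m * z * m⁻¹) = Λ.Γ.u a 0 c := by rw [Λ.π_cj (Λ.A_le hA) hz.N, hz.2, e]
  exact ⟨m, hA, ⟨Λ.cjA (Λ.A_le hA) hz.A, e' ▸ Λ.Γ.u_mem a 0 c, hz.p2.cj m⟩, e'⟩

theorem St2.sqB {x β : G} (hx : x ∈ Λ.A) (hβ : β ∈ Λ.B) : x * β * (x * β) = x * x * (β * β) := by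
  rw [mul_assoc, ← mul_assoc β, Λ.B_comm hβ hx]; group

/-- the squares in `B` -/
def St2.B2 : Subgroup Λ.A where
  carrier := {b | ∃ β ∈ Λ.B, (b : G) = β * β}
  one_mem' := ⟨1, one_mem _, by simp⟩
  mul_mem' := by
    rintro b b' ⟨β, h, e⟩ ⟨β', h', e'⟩
    exact ⟨β * β', mul_mem h h', by rw [coe_mul, e, e', St2.sqB Λ h.1 h']⟩
  inv_mem' := by
    rintro b ⟨β, h, e⟩
    exact ⟨β⁻¹, inv_mem h, by rw [coe_inv, e, mul_inv_rev]⟩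

instance St2.B2_normal : (St2.B2 Λ).Normal := ⟨by
  rintro b ⟨β, h, e⟩ g
  exact ⟨β, h, by rw [coe_mul, coe_mul, coe_inv, e, cj_of_comm (Λ.B_comm (mul_mem h h) g.2).symm]⟩⟩


/-- Elements of `V` lift to involutions. PROOF. For `(a, c) = 0` take `1`. Let `ρ = ẑ²∈ B` for a lift `ẑ` of `z 1`. Every
`x` over a non-trivial `u a 0 c` is `m̂ ẑ m̂⁻¹ β` (`conj_V`, `Cv.lift`, `Ov.eq`; `m̂ ẑ m̂⁻¹ ∈ Uh`), so `x² = ρ β²`.
In `W / B²` (`B² = {β²}` is a central subgroup; or in `A ⧸ B²`) lifts `x, y, z` of `u 1 0 0`, `u w 0 0`, `z 1` and their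
products all have square `ρ̄`, `ρ̄² = 1`; `SZ4.Cod.q8` gives `ρ = β²`. So `ẑ β⁻¹` is an involution over `z 1`, and
conjugation by `m̂` gives one over `u a 0 c`. -/
theorem inv_V (a c : F4) : ∃ x, Λ.Ov x a 0 c ∧ x * x = 1 := by
  by_cases h0 : a = 0 ∧ c = 0
  · exact ⟨1, (Λ.ov_B.2 (one_mem _)).congr h0.1.symm rfl h0.2.symm, mul_one 1⟩
  obtain ⟨z, hz⟩ := Λ.ex_ov 0 0 1
  have hρ : z * z ∈ Λ.B := Λ.ov_B.1 (hz.sq.congr rfl rfl (mul_zero _))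
  let q := QuotientGroup.mk' (St2.B2 Λ)
  have key : ∀ (x : Λ.A) (a c : F4), Λ.Ov x a 0 c → (a ≠ 0 ∨ c ≠ 0) → q x * q x = q ⟨z * z, hρ.1⟩ := by
    intro x a c hx h
    obtain ⟨m, hm, e⟩ := St2.cjz Λ hz h
    obtain ⟨β, hβ, e'⟩ := e.eq hx
    rw [← map_mul, eq_comm]
    refine QuotientGroup.eq.2 ⟨β, hβ, ?_⟩
    rw [coe_mul, coe_mul, coe_inv, e', St2.sqB Λ e.A hβ, ← cj_mul', cj_of_comm (Λ.B_comm hρ hm).symm,
      inv_mul_cancel_left]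
  obtain ⟨x, hx⟩ := Λ.ex_ov 1 0 0
  obtain ⟨y, hy⟩ := Λ.ex_ov F4.w 0 0
  have k : q ⟨z * z, hρ.1⟩ = 1 := by
    refine Cod.q8 (x := q ⟨x, hx.A⟩) (y := q ⟨y, hy.A⟩) (z := q ⟨z, hz.A⟩) ?_ (key _ _ _ hx (by decide))
      (key _ _ _ hy (by decide)) (key _ _ _ hz (by decide)) ?_ ?_ ?_ ?_
    · rw [← map_mul]
      exact (QuotientGroup.eq_one_iff _).2 ⟨_, hρ, rfl⟩
    · rw [← map_mul]
      exact key _ _ _ ((hx.mul hy).congr rfl (add_zero _) rfl) (by decide)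
    · rw [← map_mul]
      exact key _ _ _ ((hx.mul hz).congr rfl (add_zero _) rfl) (by decide)
    · rw [← map_mul]
      exact key _ _ _ ((hy.mul hz).congr rfl (add_zero _) rfl) (by decide)
    · rw [← map_mul, ← map_mul]
      exact key _ _ _ ((hx.mul (hy.mul hz)).congr rfl (by simp) rfl) (by decide)
  obtain ⟨β, hβ, e⟩ := (QuotientGroup.eq_one_iff _).1 k
  obtain ⟨m, hm, e'⟩ := St2.cjz Λ (hz.mulB (inv_mem hβ)) (a := a) (c := c) (not_and_or.1 h0)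
  refine ⟨_, e', sq_cj m ?_⟩
  rw [St2.sqB Λ hz.A (inv_mem hβ), show z * z = β * β from e]
  group
/-- PROOF. `inv_V` for `Λ.sw`. -/
theorem inv_V' (b c : F4) : ∃ x, Λ.Ov x 0 b c ∧ x * x = 1 := by
  obtain ⟨x, hx, e⟩ := Λ.sw.inv_V b c
  exact ⟨x, (Λ.sw_Ov.1 hx).congr rfl rfl (by simp), e⟩

variable {Λ}

/-- PROOF. `Ov.cm`, `ov_B`; `s² ∈ B` is central, so `[x, s]² = [x, s²] = 1`. -/
theorem cm_Y {x s : G} {d : F4} (hx : x ∈ Λ.Uh) (hs : Λ.Ov s 0 0 d) : cm x s ∈ Λ.B ∧ cm x s * cm x s = 1 := by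
  obtain ⟨a, b, c, h⟩ := Λ.ov_of_mem hx
  have h1 : cm x s ∈ Λ.B := Λ.ov_B.1 ((h.cm hs).congr rfl rfl (by simp))
  have h2 : s * s ∈ Λ.B := Λ.ov_B.1 (hs.sq.congr rfl rfl (mul_zero _))
  refine ⟨h1, ?_⟩
  have e : x * s * x⁻¹ = cm x s * s := by simp [cm]
  have e2 := cj_mul' x s s
  rw [cj_of_comm (Λ.B_comm h2 hx.1).symm, e, Λ.B_comm h1 hs.A, St2.sqB Λ hs.A h1] at e2
  exact left_eq_mul.1 e2
theorem St2.cmL {x x' y : G} (h : x * cm x' y = cm x' y * x) : cm (x * x') y = cm x' y * cm x y := by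
  rw [← cj_of_comm h]; simp only [cm]; group

theorem St2.cmR {x y y' : G} (h : y * cm x y' = cm x y' * y) : cm x (y * y') = cm x y * cm x y' := by
  rw [← cj_of_comm h]; simp only [cm]; group

theorem St2.comm_of_cm {x y : G} (h : cm x y = 1) : x * y = y * x := by
  rw [← mul_inv_eq_one, ← h]; simp only [cm]; group

theorem St2.cm_of_comm {x y : G} (h : x * y = y * x) : cm x y = 1 := by
  simp only [cm]; rw [h]; group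

/-- elements over `Y` centralise the commutators -/
theorem St2.cm_cm {x y s : G} {d : F4} (hx : x ∈ Λ.Uh) (hy : y ∈ Λ.Uh) (hs : Λ.Ov s 0 0 d) :
    cm x y * s = s * cm x y := by
  have f : ∀ g ∈ Λ.Uh, ∀ g' ∈ Λ.Uh, cm (g * g') s = cm g' s * cm g s := fun g hg g' hg' =>
    St2.cmL (Λ.B_comm (cm_Y hg' hs).1 hg.1).symm
  have i : ∀ g ∈ Λ.Uh, cm g⁻¹ s = (cm g s)⁻¹ := fun g hg => by
    rw [eq_inv_iff_mul_eq_one, ← f g hg _ (inv_mem hg)]; simp [cm]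
  refine St2.comm_of_cm ?_
  rw [show cm x y = x * y * x⁻¹ * y⁻¹ from rfl, f _ (mul_mem (mul_mem hx hy) (inv_mem hx)) _ (inv_mem hy),
    f _ (mul_mem hx hy) _ (inv_mem hx), f _ hx _ hy, i x hx, i y hy,
    Λ.B_comm (cm_Y hy hs).1 (cm_Y hx hs).1.1]
  group


/-- `Ŷ` is abelian. PROOF. Let `x` lie over `u 1 0 0`, `y` over `u 0 c 0`; `s' = s₀ β` with `s₀ = x⁻¹ y x y⁻¹` over `z c`.
`β₀ = [x, s] ∈ B`. Conjugate by `y`: `β₀ = [y x y⁻¹, y s y⁻¹] = [x s₀, s β₁] = x [s₀, s] x⁻¹ [x, s] = [s₀, s] β₀`. -/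
theorem Y_comm {s s' : G} {c d : F4} (hs : Λ.Ov s 0 0 d) (hs' : Λ.Ov s' 0 0 c) : s * s' = s' * s := by
  obtain ⟨x, hx⟩ := Λ.ex_ov 1 0 0
  obtain ⟨y, hy⟩ := Λ.ex_ov 0 c 0
  obtain ⟨β, hβ, rfl⟩ := ((hx.cm hy).congr rfl rfl (by simp)).eq hs'
  rw [← mul_assoc, ← St2.cm_cm hx.1 hy.1 hs, mul_assoc, ← Λ.B_comm hβ hs.A, ← mul_assoc]
/-- PROOF. `s = x² β` (`Ov.sq`, `Ov.eq`). -/
theorem cen_sq {x s : G} {a b c : F4} (hx : Λ.Ov x a b c) (hs : Λ.Ov s 0 0 (a * b)) : x * s = s * x := by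
  obtain ⟨β, hβ, rfl⟩ := hx.sq.eq hs
  rw [mul_assoc (x * x), Λ.B_comm hβ hx.A]
  group
/-- PROOF. `a = 0`: `Y_comm`; otherwise `a * (d * (a * a)) = d` and `cen_sq`. -/
theorem cen_pl {x s : G} {a c d : F4} (hx : Λ.Ov x a (d * (a * a)) c) (hs : Λ.Ov s 0 0 d) : x * s = s * x := by
  by_cases ha : a = 0
  · subst ha
    exact Y_comm (hx.congr rfl (by simp) rfl) hs
  · exact cen_sq hx (hs.congr rfl rfl ((by decide : ∀ a d : F4, a ≠ 0 → d = a * (d * (a * a))) a d ha))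

variable (Λ)

/-- PROOF. `Uh` is a Sylow 2-subgroup of `A` (a 2-subgroup `P` with `Uh ≤ P ≤ A` has image in `U` by `Γ.syl`),
`A` is perfect and `B ≤ Z(A)`: `CL.Flav.mem_comm_sylow` in the group `A`. -/
theorem B_le_comm : Λ.B ≤ ⁅Λ.Uh, Λ.Uh⁆ := by
  intro b hb
  let S : Sylow 2 Λ.A := ⟨Λ.Uh.subgroupOf Λ.A, Λ.pg_Uh.comap_of_injective _ Λ.A.subtype_injective,
    fun {Q} hQ hle => le_antisymm (fun x hx => by
      have hN : Q.map Λ.A.subtype ≤ Λ.N := (map_subtype_le Q).trans Λ.A_le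
      refine ⟨x.2, Λ.Γ.syl (Λ.im (Q.map Λ.A.subtype)) (fun m hm => ?_) (Λ.pg_im (hQ.map _)) (fun a b c => ?_) _
        ((Λ.mem_im hN).2 ⟨x, ⟨x, hx, rfl⟩, rfl⟩), P2.of_mem (hQ.map Λ.A.subtype) ⟨x, hx, rfl⟩⟩
      · obtain ⟨d, hd, rfl⟩ := (Λ.mem_im hN).1 hm
        exact Λ.hL ▸ Λ.πA d (map_subtype_le Q hd)
      · obtain ⟨y, hy⟩ := Λ.ex_ov a b c
        exact (Λ.mem_im hN).2 ⟨y, ⟨⟨y, hy.A⟩, hle hy.1, rfl⟩, hy.2⟩) hle⟩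
  have hc : (⟨b, hb.1⟩ : Λ.A) ∈ _root_.commutator Λ.A := by
    have := Λ.perf hb.1
    rw [← map_subtype_commutator] at this
    obtain ⟨y, hy, e⟩ := this
    exact (Subtype.ext e : y = ⟨b, hb.1⟩) ▸ hy
  have := mem_map_of_mem Λ.A.subtype (CL.Flav.mem_comm_sylow S
    (mem_center_iff.2 fun g => Subtype.ext (Λ.B_comm hb g.2).symm) hc (Λ.B_le_Uh hb))
  rw [map_commutator] at this
  exact commutator_mono (map_le_iff_le_comap.2 le_rfl) (map_le_iff_le_comap.2 le_rfl) this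
/-- an element over `h`. PROOF. `Cv.lift`, `hu`. -/
theorem ex_η : ∃ η ∈ Λ.A, ∀ x a b c, Λ.Ov x a b c → Λ.Ov (η * x * η⁻¹) (F4.v * a) (F4.v * b) (F4.w * c) := by
  obtain ⟨η, hη, e⟩ := Λ.lift Λ.Γ.h (Λ.hL ▸ Λ.Γ.hL)
  refine ⟨η, hη, fun x a b c h => ?_⟩
  have e' : Λ.π (η * x * η⁻¹) = Λ.Γ.u (F4.v * a) (F4.v * b) (F4.w * c) := by
    rw [Λ.π_cj (Λ.A_le hη) h.N, e, h.2, Λ.Γ.hu]
  exact ⟨⟨Λ.cjA (Λ.A_le hη) h.A, e' ▸ Λ.Γ.u_mem .., h.p2.cj η⟩, e'⟩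

variable {Λ}

/-- PROOF. Conjugating by `η` (`ex_η`, `η` normalises `Uh`) gives central elements over `z (w d)`, `z (v d)`, so all
elements over `Y` are central in `Uh`. For `x, y ∈ Uh` the commutator is then central and
`[x, y]² = [x², y] = 1` (`x²` lies over `Y`). So `⁅Uh, Uh⁆` lies in the subgroup of the elements over `Y` of square 1;
`B_le_comm`. -/
theorem el_of_cen {s : G} {d : F4} (hs : Λ.Ov s 0 0 d) (hd : d ≠ 0) (h : ∀ x ∈ Λ.Uh, x * s = s * x) : Λ.El := by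
  obtain ⟨η, hη, e⟩ := Λ.ex_η
  have hn : η ∈ normalizer (Λ.Uh : Set G) := mem_normalizer_fintype fun x hx =>
    let ⟨a, b, c, h⟩ := Λ.ov_of_mem hx; (e x a b c h).1
  have h1 : Λ.Ov (η * s * η⁻¹) 0 0 (F4.w * d) := (e s 0 0 d hs).congr (mul_zero _) (mul_zero _) rfl
  have c0 : s ∈ centralizer (Λ.Uh : Set G) := h
  have c1 : η * s * η⁻¹ ∈ centralizer (Λ.Uh : Set G) :=
    (mem_normalizer_iff.1 (normalizer_le_normalizer_centralizer _ hn) s).1 c0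
  have cB : ∀ β ∈ Λ.B, β ∈ centralizer (Λ.Uh : Set G) := fun β hβ x hx => (Λ.B_comm hβ hx.1).symm
  have cY : ∀ t c, Λ.Ov t 0 0 c → t ∈ centralizer (Λ.Uh : Set G) := fun t c ht => by
    rcases (by decide : ∀ c d : F4, d ≠ 0 → c = 0 ∨ c = d ∨ c = F4.w * d ∨ c = d + F4.w * d + 0 * 0) c d hd with
      rfl | rfl | rfl | rfl
    · exact cB t (Λ.ov_B.1 ht)
    · obtain ⟨β, hβ, rfl⟩ := hs.eq ht
      exact mul_mem c0 (cB β hβ)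
    · obtain ⟨β, hβ, rfl⟩ := h1.eq ht
      exact mul_mem c1 (cB β hβ)
    · obtain ⟨β, hβ, rfl⟩ := ((hs.mul h1).congr (add_zero _) (add_zero _) rfl).eq ht
      exact mul_mem (mul_mem c0 c1) (cB β hβ)
  let X : Subgroup G :=
    { carrier := {x | (∃ c, Λ.Ov x 0 0 c) ∧ x * x = 1}
      one_mem' := ⟨⟨0, Λ.ov_B.2 (one_mem _)⟩, mul_one 1⟩
      mul_mem' := by
        rintro x y ⟨⟨c, hx⟩, x2⟩ ⟨⟨c', hy⟩, y2⟩
        refine ⟨⟨_, (hx.mul hy).congr (add_zero _) (add_zero _) rfl⟩, ?_⟩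
        rw [mul_assoc, ← mul_assoc y, ← Y_comm hx hy, mul_assoc x y y, y2, mul_one, x2]
      inv_mem' := by
        rintro x ⟨hx, x2⟩
        rw [inv_of_sq x2]
        exact ⟨hx, x2⟩ }
  have : ⁅Λ.Uh, Λ.Uh⁆ ≤ X := commutator_le.2 fun x hx y hy => by
    obtain ⟨a, b, c, h1⟩ := Λ.ov_of_mem hx
    obtain ⟨a', b', c', h2⟩ := Λ.ov_of_mem hy
    refine ⟨⟨_, h1.cm h2⟩, ?_⟩
    change cm x y * cm x y = 1
    rw [← St2.cmL (cY _ _ (h1.cm h2) x hx), St2.cm_of_comm (cY _ _ h1.sq y hy).symm]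
  exact fun b hb => (this (Λ.B_le_comm hb)).2
/-- PROOF. `inv_V`, `Ov.eq`. -/
theorem sq_W (h : Λ.El) {x : G} {a c : F4} (hx : Λ.Ov x a 0 c) : x * x = 1 := by
  obtain ⟨y, hy, e⟩ := Λ.inv_V a c
  obtain ⟨β, hβ, rfl⟩ := hy.eq hx
  rw [St2.sqB Λ hy.A hβ, e, h β hβ, mul_one]
theorem sq_W' (h : Λ.El) {x : G} {b c : F4} (hx : Λ.Ov x 0 b c) : x * x = 1 := by
  obtain ⟨y, hy, e⟩ := Λ.inv_V' b c
  obtain ⟨β, hβ, rfl⟩ := hy.eq hx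
  rw [St2.sqB Λ hy.A hβ, e, h β hβ, mul_one]
/-- PROOF. `W`, `sw.W` are elementary abelian (`comm_of_sq`); `split`. -/
theorem cen_Y (h : Λ.El) {x s : G} {d : F4} (hx : x ∈ Λ.Uh) (hs : Λ.Ov s 0 0 d) : x * s = s * x := by
  obtain ⟨a, b, c, h1⟩ := Λ.ov_of_mem hx
  obtain ⟨y, z, hy, hz, rfl⟩ := Λ.split h1
  have e1 : z * s = s * z := comm_of_sq (X := Λ.W) (fun x hx => let ⟨_, _, e⟩ := Λ.mem_W.1 hx; sq_W h e)
    (Λ.mem_W.2 ⟨_, _, hz⟩) (Λ.mem_W.2 ⟨_, _, hs⟩)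
  have e2 : y * s = s * y := comm_of_sq (X := Λ.sw.W) (fun x hx => let ⟨_, _, e⟩ := Λ.mem_W'.1 hx; sq_W' h e)
    (Λ.mem_W'.2 ⟨_, _, hy⟩) (Λ.mem_W'.2 ⟨_, _, hs⟩)
  rw [mul_assoc, e1, ← mul_assoc, e2, mul_assoc]

variable (Λ)

/-- the commutator map for elementary abelian `B` -/
structure Kap (κ : F4 → F4 → G) : Prop where
  eq : ∀ x y a b c c', Λ.Ov x a 0 c → Λ.Ov y 0 b c' → cm x y = κ a b
  ov : ∀ a b, Λ.Ov (κ a b) 0 0 (a * b)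
  add1 : ∀ a a' b, κ (a + a') b = κ a b * κ a' b
  add2 : ∀ a b b', κ a (b + b') = κ a b * κ a b'
  gen : ∀ X : Subgroup G, (∀ a b, κ a b ∈ X) → Λ.B ≤ X
  eta : ∃ η ∈ Λ.A, ∀ a b, η * κ a b * η⁻¹ = κ (F4.v * a) (F4.v * b)

/-- PROOF. `κ a b = cm x_a y_b` for chosen lifts; elements over `Y` are central (`cen_Y`), so the commutator only
depends on `a`, `b` and is bimultiplicative. `gen`: `X' = X ⊓ {elements over Y}` is centralised by `Uh`; for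
`x = y z`, `x' = y' z'` (`split`), `cm x x' = cm y z' * cm z y'` (`W`, `sw.W` abelian, commutators central) lies in
`X'`; `B_le_comm`. -/
theorem ex_kap (h : Λ.El) : ∃ κ, Λ.Kap κ := by
  choose X hX using fun a => Λ.ex_ov a 0 0
  choose Y hY using fun b => Λ.ex_ov 0 b 0
  have cc : ∀ x ∈ Λ.Uh, ∀ y ∈ Λ.Uh, ∀ g ∈ Λ.Uh, g * cm x y = cm x y * g := fun x hx y hy g hg =>
    let ⟨_, _, _, h1⟩ := Λ.ov_of_mem hx
    let ⟨_, _, _, h2⟩ := Λ.ov_of_mem hy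
    cen_Y h hg (h1.cm h2)
  have cu : ∀ x ∈ Λ.Uh, ∀ y ∈ Λ.Uh, cm x y ∈ Λ.Uh := fun x hx y hy =>
    mul_mem (mul_mem (mul_mem hx hy) (inv_mem hx)) (inv_mem hy)
  have L : ∀ x ∈ Λ.Uh, ∀ x' ∈ Λ.Uh, ∀ y ∈ Λ.Uh, cm (x * x') y = cm x y * cm x' y := fun x hx x' hx' y hy => by
    rw [St2.cmL (cc _ hx' _ hy _ hx), cc _ hx _ hy _ (cu _ hx' _ hy)]
  have R : ∀ x ∈ Λ.Uh, ∀ y ∈ Λ.Uh, ∀ y' ∈ Λ.Uh, cm x (y * y') = cm x y * cm x y' := fun x hx y hy y' hy' =>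
    St2.cmR (cc _ hx _ hy' _ hy)
  have eq : ∀ x y a b c c', Λ.Ov x a 0 c → Λ.Ov y 0 b c' → cm x y = cm (X a) (Y b) := fun x y a b c c' hx hy => by
    have h1 := ((hX a).inv.mul hx).congr (add_self _) (add_zero _) rfl
    have h2 := ((hY b).inv.mul hy).congr (add_zero _) (add_self _) rfl
    calc cm x y = cm (X a * ((X a)⁻¹ * x)) (Y b * ((Y b)⁻¹ * y)) := by
          rw [mul_inv_cancel_left, mul_inv_cancel_left]
      _ = _ := by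
          rw [L _ (hX a).1 _ h1.1 _ (mul_mem (hY b).1 h2.1), R _ (hX a).1 _ (hY b).1 _ h2.1,
            St2.cm_of_comm (cen_Y h (hX a).1 h2), St2.cm_of_comm (cen_Y h (mul_mem (hY b).1 h2.1) h1).symm,
            mul_one, mul_one]
  refine ⟨fun a b => cm (X a) (Y b), eq, fun a b => ((hX a).cm (hY b)).congr rfl rfl (by simp),
    fun a a' b => ?_, fun a b b' => ?_, fun Z hZ => Λ.B_le_comm.trans (commutator_le.2 fun x hx x' hx' => ?_), ?_⟩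
  · rw [← L _ (hX a).1 _ (hX a').1 _ (hY b).1]
    exact (eq _ _ _ _ _ _ (((hX a).mul (hX a')).congr rfl (add_zero _) rfl) (hY b)).symm
  · rw [← R _ (hX a).1 _ (hY b).1 _ (hY b').1]
    exact (eq _ _ _ _ _ _ (hX a) (((hY b).mul (hY b')).congr (add_zero _) rfl rfl)).symm
  · obtain ⟨a, b, c, h1⟩ := Λ.ov_of_mem hx
    obtain ⟨a', b', c', h2⟩ := Λ.ov_of_mem hx'
    obtain ⟨y, z, hy, hz, rfl⟩ := Λ.split h1
    obtain ⟨y', z', hy', hz', rfl⟩ := Λ.split h2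
    have e1 : z * z' = z' * z := comm_of_sq (X := Λ.W) (fun x hx => let ⟨_, _, e⟩ := Λ.mem_W.1 hx; sq_W h e)
      (Λ.mem_W.2 ⟨_, _, hz⟩) (Λ.mem_W.2 ⟨_, _, hz'⟩)
    have e2 : y * y' = y' * y := comm_of_sq (X := Λ.sw.W) (fun x hx => let ⟨_, _, e⟩ := Λ.mem_W'.1 hx; sq_W' h e)
      (Λ.mem_W'.2 ⟨_, _, hy⟩) (Λ.mem_W'.2 ⟨_, _, hy'⟩)
    change cm (y * z) (y' * z') ∈ Z
    rw [L _ hy.1 _ hz.1 _ hx', R _ hy.1 _ hy'.1 _ hz'.1, R _ hz.1 _ hy'.1 _ hz'.1, St2.cm_of_comm e1,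
      St2.cm_of_comm e2, one_mul, mul_one, show cm y z' = (cm z' y)⁻¹ by simp only [cm]; group,
      eq _ _ _ _ _ _ hz' hy, eq _ _ _ _ _ _ hz hy']
    exact mul_mem (inv_mem (hZ _ _)) (hZ _ _)
  · obtain ⟨η, hη, e⟩ := Λ.ex_η
    refine ⟨η, hη, fun a b => ?_⟩
    rw [← eq _ _ _ _ _ _ ((e _ _ _ _ (hX a)).congr rfl (mul_zero _) rfl) ((e _ _ _ _ (hY b)).congr (mul_zero _) rfl rfl)]
    simp only [cm]
    group

variable {Λ}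

theorem Kap.zero1 {κ : F4 → F4 → G} (h : Λ.Kap κ) (b : F4) : κ 0 b = 1 := by
  have := h.add1 0 0 b
  rwa [add_zero, left_eq_mul] at this

theorem Kap.zero2 {κ : F4 → F4 → G} (h : Λ.Kap κ) (a : F4) : κ a 0 = 1 := by
  have := h.add2 a 0 0
  rwa [add_zero, left_eq_mul] at this


/-- planes, `B = {1, c}`. PROOF. Otherwise `κ a (d / a) = s c` for all `a ≠ 0` (`Ov.eq`). Conjugating by `η` (which
fixes `c`) shows that `κ a b` only depends on `a b`: `κ a b = κ 1 (a b)` (also for `a = 0`, as `κ 0 b = 1 = κ 1 0`).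
`{κ 1 b}` is a subgroup (`add2`) which contains `c` by `gen`; but `κ 1 b ∈ B` forces `b = 0`. -/
theorem Kap.onto {κ : F4 → F4 → G} (h : Λ.Kap κ) {c : G} (hc : c ∈ Λ.B) (c1 : c ≠ 1)
    (hB : ∀ β ∈ Λ.B, β = 1 ∨ β = c) {s : G} {d : F4} (hs : Λ.Ov s 0 0 d) (hd : d ≠ 0) :
    ∃ a b, κ a b = s := by
  by_contra hn
  obtain ⟨η, hη, e⟩ := h.eta
  have p0 : ∀ a b, a * b = d → κ a b = s * c := fun a b e => by
    obtain ⟨β, hβ, e'⟩ := hs.eq ((h.ov a b).congr rfl rfl e)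
    rcases hB β hβ with rfl | rfl
    · exact absurd ⟨a, b, e'.trans (mul_one _)⟩ hn
    · exact e'
  have step : ∀ d, (∀ a b, a * b = d → κ a b = κ 1 d) → ∀ a b, a * b = F4.w * d → κ a b = κ 1 (F4.w * d) := by
    intro d hd
    have : ∀ a b, a * b = F4.w * d → κ a b = η * κ 1 d * η⁻¹ := fun a b e' => by
      rw [← hd (F4.w * a) (F4.w * b) ((by decide : ∀ a b d : F4, a * b = F4.w * d → F4.w * a * (F4.w * b) = d) a b d e'), e,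
        ← mul_assoc F4.v, ← mul_assoc F4.v, (by decide : F4.v * F4.w = 1), one_mul, one_mul]
    exact fun a b e' => (this a b e').trans (this 1 _ (one_mul _)).symm
  have p1 : ∀ a b, a * b = d → κ a b = κ 1 d := fun a b e => (p0 a b e).trans (p0 1 d (one_mul _)).symm
  have all : ∀ a b, κ a b = κ 1 (a * b) := fun a b => by
    rcases (by decide : ∀ e d : F4, d ≠ 0 →
      e = 0 ∨ e = d ∨ e = F4.w * d ∨ e = F4.w * (F4.w * d)) (a * b) d hd with e | e | e | e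
    · rw [e, h.zero2]
      rcases mul_eq_zero.1 e with rfl | rfl
      exacts [h.zero1 b, h.zero2 a]
    · rw [e]; exact p1 a b e
    · rw [e]; exact step d p1 a b e
    · rw [e]; exact step _ (step d p1) a b e
  let X : Subgroup G :=
    { carrier := {x | ∃ b, x = κ 1 b}
      one_mem' := ⟨0, (h.zero2 1).symm⟩
      mul_mem' := by rintro _ _ ⟨b, rfl⟩ ⟨b', rfl⟩; exact ⟨_, (h.add2 1 b b').symm⟩
      inv_mem' := by
        rintro _ ⟨b, rfl⟩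
        exact ⟨b, inv_of_sq (by rw [← h.add2, add_self, h.zero2])⟩ }
  obtain ⟨b, rfl⟩ := h.gen X (fun a b => ⟨_, all a b⟩) hc
  have := ((h.ov 1 b).inj (Λ.ov_B.2 hc)).2.2
  rw [one_mul] at this
  exact c1 (by rw [this, h.zero2])
/-- PROOF. `s = κ a b₁` (`onto`), `a, b₁ ≠ 0`. If some `κ a b ∉ X` we are done. Otherwise put `a' = v a`. Not all
`κ a' b` lie in `X` (else by `add1` all `κ` lie in `X` and `c ∈ X`). `d ↦ κ a (d / a) * κ a' (d / a') ∈ {1, c}` is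
multiplicative on a group of order 4, so it is `1` for some `d ≠ 0` (one of `1, w, v`): `κ a' (d / a') ∈ X`. -/
theorem Kap.half {κ : F4 → F4 → G} (h : Λ.Kap κ) {c : G} (hc : c ∈ Λ.B) (c1 : c ≠ 1)
    (hB : ∀ β ∈ Λ.B, β = 1 ∨ β = c) {X : Subgroup G} (cX : c ∉ X) {s : G} {d : F4} (hs : Λ.Ov s 0 0 d) (hd : d ≠ 0)
    (sX : s ∈ X) : ∃ a b₁ b₂, b₁ ≠ 0 ∧ κ a b₁ ∈ X ∧ κ a b₂ ∉ X := by
  obtain ⟨a, b₁, rfl⟩ := h.onto hc c1 hB hs hd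
  have e0 : a * b₁ = d := ((h.ov a b₁).inj hs).2.2
  have ha : a ≠ 0 := fun e => hd (by rw [← e0, e, zero_mul])
  have hb : b₁ ≠ 0 := fun e => hd (by rw [← e0, e, mul_zero])
  by_cases h1 : ∀ b, κ a b ∈ X
  swap
  · obtain ⟨b, hb'⟩ := not_forall.1 h1
    exact ⟨a, b₁, b, hb, sX, hb'⟩
  obtain ⟨b₂, h2⟩ : ∃ b, κ (F4.v * a) b ∉ X := not_forall.1 fun h2 => cX (h.gen X (fun a' b => by
    rcases (by decide : ∀ a' a : F4, a ≠ 0 → a' = 0 ∨ a' = a ∨ a' = F4.v * a ∨ a' = a + F4.v * a) a' a ha with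
      rfl | rfl | rfl | rfl
    · rw [h.zero1]; exact one_mem _
    · exact h1 b
    · exact h2 b
    · rw [h.add1]; exact mul_mem (h1 b) (h2 b)) hc)
  have fB : ∀ b, κ a (F4.v * b) * κ (F4.v * a) b ∈ Λ.B := fun b =>
    Λ.ov_B.1 (((h.ov _ _).mul (h.ov _ _)).congr (add_zero _) (add_zero _)
      ((by decide : ∀ a b : F4, a * (F4.v * b) + F4.v * a * b + 0 * 0 = 0) a b))
  have fin : ∀ b ≠ 0, κ a (F4.v * b) * κ (F4.v * a) b = 1 →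
      ∃ a b₁ b₂, b₁ ≠ 0 ∧ κ a b₁ ∈ X ∧ κ a b₂ ∉ X := fun b hb e =>
    ⟨F4.v * a, b, b₂, hb, by rw [eq_inv_of_mul_eq_one_right e]; exact inv_mem (h1 _), h2⟩
  rcases hB _ (fB 1) with e1 | e1
  · exact fin 1 one_ne_zero e1
  rcases hB _ (fB F4.w) with e2 | e2
  · exact fin _ (by decide) e2
  refine fin (1 + F4.w) (by decide) ?_
  have c2 : c * c = 1 := (hB _ (mul_mem hc hc)).resolve_right fun e => c1 (mul_eq_left.1 e)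
  rw [mul_add, h.add2, h.add2, ← c2]
  nth_rw 1 [← e1]
  rw [← e2, mul_assoc, mul_assoc, ← mul_assoc (κ a (F4.v * F4.w)), Y_comm (h.ov a (F4.v * F4.w)) (h.ov (F4.v * a) 1),
    mul_assoc]

end CL.C41.C3
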